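import Cfsg.Agent.Comp.Fi24.Rep
import Cfsg.Agent.Comp.Sign

set_option autoImplicit false
set_option maxRecDepth 100000

namespace Cfsg.Agent.Comp.Fi24
open Cfsg.Agent.Comp

def WF : List (List Nat) := [[2, 0],
   [3, 0],
   [4, 0],
   [5, 0],
   [6, 0],
   [7, 0],
   [8, 0],
   [9, 0],
   [10, 0],
   [11, 0]]

def V : List (List Nat) := [[2, 0],
   [3, 0],
   [4, 0],
   [5, 0],
   [6, 0],
   [7, 0],
   [8, 0],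
   [9, 0],
   [10, 0],
   [11, 0],
   [1, 0]]

theorem orbF1 : MulAction.orbit (genW (sig T) WF) 1 = Set.Ico 1 (1 + 31671) ∧
    (MulAction.orbit (genW (sig T) WF) 1).ncard = 31671 :=
  orbit_ivl (sch := [1, 0, 2, 3, 1, 4, 8, 5, 9, 3, 2, 6, 7, 4, 8, 3, 5, 1, 4, 2, 8, 9, 3, 1, 5, 6, 0, 8, 2, 4, 5, 9, 3, 4, 7, 1, 6, 3, 2, 8, 0, 1, 3, 0, 2, 4, 8, 1, 3, 0, 5, 4, 2, 6, 1, 7]) ok (by norm_num) (by norm_num) (by decide +kernel) (by decide +kernel)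

theorem orbF31672 : MulAction.orbit (genW (sig T) WF) 31672 = Set.Ico 31672 (31672 + 275264) ∧
    (MulAction.orbit (genW (sig T) WF) 31672).ncard = 275264 :=
  orbit_ivl (sch := [0, 1, 0, 2, 3, 4, 8, 5, 9, 3, 6, 2, 4, 7, 1, 8, 3, 0, 5, 2, 4, 8, 1, 3, 5, 6, 9, 0, 8, 2, 4, 9, 3, 1, 5, 4, 7, 8, 2, 0, 3, 5, 6, 8, 2, 9, 1, 4, 3, 5, 0, 2, 4, 8, 6, 3, 5, 7, 4, 1, 5]) ok (by norm_num) (by norm_num) (by decide +kernel) (by decide +kernel)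

def O : List Nat := List.range 12

noncomputable def eps : Cfsg.Spor.Fi24 →* ℤˣ := (pres.isSign (O := O) (by decide +kernel)).choose

theorem sign : IsSign s 12 O eps := (pres.isSign (O := O) (by decide +kernel)).choose_spec

theorem index2 : eps.ker.index = 2 := sign.index (x := 0) (by norm_num) (by decide)

theorem transK : ∀ i < 306936, ∃ g ∈ eps.ker, phi g 0 = i :=
  rep.trans_sub (V := V) (sch := [10, 0, 1, 0, 2, 10, 3, 0, 4, 8, 5, 9, 3, 6, 2, 1, 4, 7, 8, 3, 5, 2, 4, 8, 9, 3, 5, 6, 1, 0, 8, 2, 4, 5, 1, 10, 9, 3, 4, 2, 3, 8, 0, 7, 2, 1, 3, 4, 5, 6, 9, 2, 0, 10, 1, 3, 0, 4, 2, 5, 1, 3, 7]) (by decide +kernel) (sign.le (by decide +kernel) (by decide +kernel)) (by decide +kernel)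

def primKT : List (List Nat × List Nat) :=
  [([1, 0, 2, 0, 3, 0, 1, 0], [0, 1, 3, 2, 4, 5, 9, 6, 10, 4, 3, 7, 8, 5, 9, 4, 6, 0, 2, 9, 3, 5, 10, 4, 6, 7, 2, 1, 9, 3, 5, 6, 2, 4, 10, 5, 3, 9, 4, 1, 6, 7, 8, 9, 3, 2, 10, 5, 6, 4, 5, 7, 1, 3, 9, 4, 6, 5, 2, 8, 6, 7, 8]),
   ([1, 0], [0, 0, 1, 2, 0, 3, 4, 1, 5, 9, 6, 10, 4, 7, 3, 2, 5, 8, 9, 4, 6, 3, 5, 9, 10, 4, 6, 7, 2, 1, 9, 3, 5, 6, 2, 0, 10, 4, 5, 3, 4, 9, 1, 8, 3, 2, 4, 5, 6, 7, 10, 3, 1, 0, 2, 4, 1, 5, 3, 6, 2, 0, 8])]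

theorem primK_0 : Nat.beq (grow T ([1, 0, 2, 0, 3, 0, 1, 0] :: WF) [0, 1, 3, 2, 4, 5, 9, 6, 10, 4, 3, 7, 8, 5, 9, 4, 6, 0, 2, 9, 3, 5, 10, 4, 6, 7, 2, 1, 9, 3, 5, 6, 2, 4, 10, 5, 3, 9, 4, 1, 6, 7, 8, 9, 3, 2, 10, 5, 6, 4, 5, 7, 1, 3, 9, 4, 6, 5, 2, 8, 6, 7, 8] (pt (nat_lit 0))) (ivl (nat_lit 0) (nat_lit 306936)) = true := by
  decide +kernel

theorem primK_1 : Nat.beq (grow T ([1, 0] :: WF) [0, 0, 1, 2, 0, 3, 4, 1, 5, 9, 6, 10, 4, 7, 3, 2, 5, 8, 9, 4, 6, 3, 5, 9, 10, 4, 6, 7, 2, 1, 9, 3, 5, 6, 2, 0, 10, 4, 5, 3, 4, 9, 1, 8, 3, 2, 4, 5, 6, 7, 10, 3, 1, 0, 2, 4, 1, 5, 3, 6, 2, 0, 8] (pt (nat_lit 0))) (ivl (nat_lit 0) (nat_lit 306936)) = true := by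
  decide +kernel

theorem primK : Prim (eps.ker.map phi) 0 :=
  prim_of_cert (W := WF) (ts := primKT) (sch := [0, 2, 1, 3, 2, 4, 8, 5, 9, 3, 6, 7, 4, 2, 8, 3, 5, 1, 2, 4, 8, 9, 6, 3, 5, 1, 0, 8, 6, 4, 2, 7, 3, 9, 5, 1, 2, 4, 8, 1, 0, 3, 6, 5, 8, 2, 4, 6, 3, 9, 1, 7, 8, 2, 4, 5, 6, 3, 4, 1, 9, 8, 0, 3, 2, 5, 7, 9, 1, 8, 3, 6, 4, 0, 7, 2, 5]) ok (rep.map_le_bd _) (by norm_num) (rep.mem_map (by decide +kernel) (sign.le (by decide +kernel) (by decide +kernel))) (by decide +kernel)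
    (fun t ht => rep.mem_map (W := primKT.map Prod.fst) (by decide +kernel) (sign.le (by decide +kernel) (by decide +kernel)) (ev_mem_genW (List.mem_map_of_mem ht))) (by decide +kernel)
    (by simp only [primKT, List.forall_mem_cons]; exact ⟨primK_0, primK_1, by simp⟩)

theorem mvA : phi (ev s [2, 0]) ≠ 1 := fun e =>
  ne_one_of_moves ok (w := [2, 0]) (p := 2) (by norm_num) (by decide +kernel) (by
    rw [← rep.ev_eq (by decide), e]; rfl)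

theorem mvL : phi (ev s [0]) ≠ 1 := fun e =>
  ne_one_of_moves ok (w := [0]) (p := 31672) (by norm_num) (by decide +kernel) (by
    rw [← rep.ev_eq (by decide), e]; rfl)


end Cfsg.Agent.Comp.Fi24
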