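import Cfsg.Agent.Comp.Fi24.OutC
import Cfsg.Agent.Comp.Fi23.Cen2

/-!
`Out(Fi24') = 2`: an automorphism is, up to an inner one, trivial on `Fi23`.
-/

set_option autoImplicit false
set_option maxRecDepth 100000

namespace Cfsg.Agent.Comp.Fi24.O
open Cfsg.Agent.Comp Cfsg

noncomputable def iota : Spor.Fi23 →* eps.ker :=
  (Subgroup.inclusion F_le).comp isoF.toMonoidHom

theorem iota_inj : Function.Injective iota :=
  (Subgroup.inclusion_injective F_le).comp isoF.injective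

theorem iota_mem (a : Spor.Fi23) : (iota a : Spor.Fi24) ∈ F := (isoF a).2

theorem iota_of {c : eps.ker} (h : phi c 0 = 0) : ∃ g, c = iota g :=
  ⟨isoF.symm ⟨c, mem_F.mpr ⟨c.2, h⟩⟩, Subtype.ext (by simp [iota])⟩

def up (w : List ℕ) : List ℕ := w.map (· + 2) ++ wpow [0] (w.length % 2)

theorem ev_s2 {w : List ℕ} (h : ltB 12 w = true) : ev s2 w = ev s w :=
  ev_congr fun x hx => ext2.2 x (ltB_spec h x hx)

theorem iota_ev {w : List ℕ} (h : band (ltB 10 w) (ltB 12 (up w)) = true) :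
    (iota (ev Fi23.s w) : Spor.Fi24) = ev s2 (up w) := by
  rw [band_eq] at h
  have h1 : (iota (ev Fi23.s w) : Spor.Fi24) = ev tF w := by
    rw [← Subgroup.subtype_apply, ← MonoidHom.comp_apply, map_ev]
    exact ev_congr fun x hx => exists_isoF.choose_spec x (ltB_spec h.1 x hx)
  rw [h1, ev_s2 h.2, up, ev_append, ev_wpow, ev_single, ev_map, ← pow_eq_pow_mod _ ((pow_two _).trans l_sq)]
  exact (ev_mul_central (s := fun x => s (x + 2)) (l := s 0) fun x hx => l_comm x (ltB_spec h.1 x hx)).1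

theorem hC0 (c : eps.ker) (h : c * iota (Fi23.s2 14) = iota (Fi23.s2 14) * c) : ∃ g, c = iota g := by
  have h1 : Cm s2 [xw] c := fun v hv => by
    have := congrArg Subtype.val h
    rw [Subgroup.coe_mul, Subgroup.coe_mul, Fi23.C2.x_eq, iota_ev (by decide +kernel)] at this
    rw [List.mem_singleton.mp hv]
    exact this
  obtain ⟨g, hg, -, h2⟩ := cxX.first cxT (No.nil _ _ _ _ _) h1
  have : genW s2 [] ≤ ⊥ := genW_le.mpr nofun
  rw [Subgroup.mem_bot.mp (this hg), inv_one, one_mul] at h2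
  exact iota_of h2

theorem y_eq : (iota (Fi23.s2 15) : Spor.Fi24) = ev s2 [20] := by
  rw [Fi23.C2.y_eq, iota_ev (by decide +kernel)]
  exact (eqs2' ([20], up Fi23.C2.yw) (by decide +kernel)).symm

theorem hD0 (c : eps.ker) (h : c * iota (Fi23.s2 15) = iota (Fi23.s2 15) * c) : ∃ g, c = iota g := by
  have h1 : Cm s2 cyg c := fun v hv => by
    have := congrArg Subtype.val h
    rw [Subgroup.coe_mul, Subgroup.coe_mul, y_eq] at this
    rw [List.mem_singleton.mp hv]
    exact this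
  obtain ⟨g, hg, -, h2⟩ := cy0 h1
  have : genW s2 cyW ≤ genW s W0 := genW_le.mpr (by
    simp only [cyW, List.forall_mem_cons]
    refine ⟨y_eq ▸ F_le_W0 (iota_mem _), ?_, nofun⟩
    rw [ev_s2 (by decide +kernel)]
    exact ev_mem_genW (by decide +kernel))
  have h3 := (genW s W0).mul_mem (this hg) ((stab.2 _).mpr h2)
  rw [mul_inv_cancel_left] at h3
  exact iota_of ((stab.2 _).mp h3)

theorem fixF (ψ : MulAut eps.ker) : ∃ g : eps.ker, ∀ a, (MulAut.conj g * ψ) (iota a) = iota a :=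
  have : Finite eps.ker := Nat.finite_of_card_ne_zero (by rw [cardK]; norm_num)
  out_hom iota iota_inj (p := 17) (by norm_num) (by rw [cardK]; norm_num)
    (Fi23.rep2.ne (show neqB (nat_lit 19) (nat_lit 31671) Fi23.T2 (ivl 0 15835) [14] [] = true by
      decide +kernel)) hC0 Fi23.cxC.top hD0 Fi23.cl Fi23.oE (I := [1]) (by decide +kernel)
    (Obs.append (Obs.of Fi23.rep2 Fi23.ob0_ok) (Obs.append (Obs.of Fi23.rep2 Fi23.ob1_ok)
      (Obs.append (Obs.of Fi23.rep2 Fi23.ob2_ok) (Obs.append (Obs.of Fi23.rep2 Fi23.ob3_ok)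
        (Obs.of Fi23.rep2 Fi23.ob4_ok)))))
    (gen_top_of_eq Fi23.rep.top Fi23.ext2.2) Fi23.gE (by decide +kernel) ψ

theorem u_mem : ev s [1, 0] ∈ eps.ker :=
  sign.le (W := [[1, 0]]) (by decide +kernel) (by decide +kernel) (ev_mem_genW (by simp))

/-- the element `k l` -/
noncomputable def u : eps.ker := ⟨ev s [1, 0], u_mem⟩

theorem k_sq : s 1 * s 1 = 1 := pres.sat.sq (by decide +kernel)

theorem u_val : (u : Spor.Fi24) = s 1 * s 0 := by simp [u]

theorem u_inv : (u : Spor.Fi24)⁻¹ = s 0 * s 1 := by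
  rw [u_val, mul_inv_rev, inv_eq_of_mul_eq_one_right l_sq, inv_eq_of_mul_eq_one_right k_sq]

theorem u3 : u ^ 3 = 1 := by
  rw [← inv_eq_one, ← inv_pow]
  refine Subtype.ext ?_
  rw [Subgroup.coe_pow, Subgroup.coe_inv, u_inv]
  simpa [pow_succ, mul_assoc] using pres.sat [0, 1, 0, 1, 0, 1] (by decide +kernel)

theorem u_ne : u⁻¹ ≠ u := fun e => by
  have := congrArg Subtype.val e
  rw [Subgroup.coe_inv, u_inv, u_val] at this
  exact rep.ne (show neqB (nat_lit 12) (nat_lit 306936) T (ivl 0 153468) [0, 1] [1, 0] = true by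
    decide +kernel) (by simpa using this)

theorem u_comm {w : List ℕ} (h : band (ltB 10 w) (ltB 12 (up w)) = true)
    (h2 : ([1, 0] ++ up w, up w ++ [1, 0]) ∈ E3) :
    u * iota (ev Fi23.s w) = iota (ev Fi23.s w) * u := Subtype.ext (by
  have := eqs3' _ h2
  rw [ev_append, ev_append, ← iota_ev h, ev_s2 (by decide +kernel)] at this
  exact this)

theorem cen_u {c : eps.ker} (h1 : c * iota (ev Fi23.s Fi23.C2.g1) = iota (ev Fi23.s Fi23.C2.g1) * c)
    (h2 : c * iota (ev Fi23.s Fi23.C2.g2) = iota (ev Fi23.s Fi23.C2.g2) * c) :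
    c ∈ Subgroup.zpowers u := by
  have key : ∀ c : eps.ker, Cm s2 hg c ↔ c * iota (ev Fi23.s Fi23.C2.g1) = iota (ev Fi23.s Fi23.C2.g1) * c ∧
      c * iota (ev Fi23.s Fi23.C2.g2) = iota (ev Fi23.s Fi23.C2.g2) * c := fun c => by
    rw [Subtype.ext_iff, Subtype.ext_iff]
    simp only [Subgroup.coe_mul]
    rw [iota_ev (by decide +kernel), iota_ev (by decide +kernel)]
    simp only [Cm, hg, List.forall_mem_cons, List.not_mem_nil, IsEmpty.forall_iff, implies_true, and_true]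
    rfl
  obtain ⟨g, hg, h3, h4⟩ := chX.first chT (No.nil _ _ _ _ _) ((key c).mpr ⟨h1, h2⟩)
  have : genW s2 [[1, 0]] ≤ (Subgroup.zpowers u).map eps.ker.subtype := genW_le.mpr fun w hw => by
    rw [List.mem_singleton.mp hw, ev_s2 (by decide +kernel)]
    exact ⟨u, Subgroup.mem_zpowers u, rfl⟩
  obtain ⟨g, hg', rfl⟩ := this hg
  obtain ⟨f, e⟩ := iota_of (c := g⁻¹ * c) h4
  have h5 := (key (g⁻¹ * c)).mp h3
  simp only [e, ← map_mul, iota_inj.eq_iff] at h5
  rw [Fi23.C2.cen12 f h5.1 h5.2, map_one, inv_mul_eq_one] at e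
  exact e ▸ hg'

theorem ker_le : eps.ker ≤ genW s V := fun c hc => by
  have hV : genW s V ≤ eps.ker := sign.le (by decide +kernel) (by decide +kernel)
  obtain ⟨g, hg, e⟩ := rep.trans_sub (V := V) (b := 0) (sch := [10, 0, 1, 0, 2, 10, 3, 0, 4, 8, 5, 9, 3, 6, 2, 1, 4, 7, 8, 3, 5, 2, 4, 8, 9, 3, 5, 6, 1, 0, 8, 2, 4, 5, 1, 10, 9, 3, 4, 2, 3, 8, 0, 7, 2, 1, 3, 4, 5, 6, 9, 2, 0, 10, 1, 3, 0, 4, 2, 5, 1, 3, 7]) (by decide +kernel) le_rfl (by decide +kernel) _
    (Bd.lt (rep.bd c) (show 0 < 306936 by norm_num))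
  have h1 : g⁻¹ * c ∈ F := mem_F.mpr ⟨eps.ker.mul_mem (eps.ker.inv_mem (hV hg)) hc, by
    rw [map_mul, map_inv, Equiv.Perm.mul_apply, ← e]; simp⟩
  have h2 : F ≤ genW s V := F_eq ▸ genW_le.mpr fun w hw =>
    ev_mem_genW ((by decide +kernel : ∀ w ∈ WF, w ∈ V) w hw)
  simpa using (genW s V).mul_mem hg (h2 h1)

theorem aut_eq {α β : MulAut eps.ker} (h : ∀ a, α (iota a) = β (iota a)) (hu : α u = β u) :
    α = β := by
  have : genW s V ≤ (α.toMonoidHom.eqLocus β.toMonoidHom).map eps.ker.subtype :=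
    genW_le.mpr fun w hw => by
      rcases (by decide +kernel : ∀ w ∈ V, w ∈ WF ∨ w = [1, 0]) w hw with h1 | rfl
      · have h2 : ev s w ∈ F := F_eq ▸ ev_mem_genW h1
        obtain ⟨a, e⟩ := iota_of (c := ⟨_, F_le h2⟩) (mem_F.mp h2).2
        exact ⟨_, (e ▸ h a : α ⟨_, F_le h2⟩ = β _), rfl⟩
      · exact ⟨u, hu, rfl⟩
  ext1 c
  obtain ⟨d, hd, e⟩ := this (ker_le c.2)
  rw [← Subtype.ext e]
  exact hd

noncomputable def beta : MulAut eps.ker := MulAut.conjNormal (s 0)

theorem beta_iota (a : Spor.Fi23) : beta (iota a) = iota a := Subtype.ext (by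
  rw [beta, MulAut.conjNormal_apply, l_central (F_le_W0 (iota_mem a)), mul_inv_cancel_right])

theorem beta_u : beta u = u⁻¹ := Subtype.ext (by
  rw [beta, MulAut.conjNormal_apply, Subgroup.coe_inv, u_inv, u_val]; group)

theorem not_inner (g : eps.ker) : MulAut.conj g ≠ beta := fun e => by
  have h1 : ∀ a, g * iota a = iota a * g := fun a => by
    rw [← mul_inv_eq_iff_eq_mul, ← MulAut.conj_apply, e, beta_iota]
  obtain ⟨f, rfl⟩ := hC0 g (h1 _)
  simp only [← map_mul, iota_inj.eq_iff] at h1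
  rw [Fi23.C2.cen12 f (h1 _) (h1 _), map_one, map_one] at e
  exact u_ne (by rw [← beta_u, ← e]; rfl)

theorem outK : Nat.card (Out eps.ker) = 2 := by
  classical
  have : Finite eps.ker := Nat.finite_of_card_ne_zero (by rw [cardK]; norm_num)
  have k1 : ∀ (g : eps.ker) (ψ : MulAut eps.ker),
      ((MulAut.conj g * ψ : MulAut eps.ker) : Out eps.ker) = ψ := fun g ψ => by
    rw [QuotientGroup.mk_mul, (QuotientGroup.eq_one_iff (N := Inn eps.ker) _).mpr ⟨g, rfl⟩, one_mul]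
  refine Leech.card_out_two beta not_inner fun ψ => ?_
  obtain ⟨g, hg⟩ := fixF ψ
  rw [← k1 g]
  set α := MulAut.conj g * ψ
  have h1 : ∀ a, u * iota a = iota a * u → α u * iota a = iota a * α u := fun a h => by
    simpa only [map_mul, hg] using congrArg α h
  have h2 := cen_u (h1 _ (u_comm (by decide +kernel) (by decide +kernel)))
    (h1 _ (u_comm (by decide +kernel) (by decide +kernel)))
  have h3 : u ≠ 1 := fun e => u_ne (by rw [e, inv_one])
  have : Fact (Nat.Prime 3) := ⟨by norm_num⟩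
  rw [mem_zpowers_iff_mem_range_orderOf, orderOf_eq_prime u3 h3] at h2
  obtain ⟨k, hk, e⟩ := Finset.mem_image.mp h2
  have := Finset.mem_range.mp hk
  interval_cases k
  · exact absurd (α.injective (by rw [← e, map_one, pow_zero])) h3
  · left
    rw [aut_eq (α := α) (β := 1) hg (by rw [← e, pow_one]; rfl)]; rfl
  · right
    rw [aut_eq (α := α) (β := beta) (fun a => by rw [hg, beta_iota])
      (by rw [← e, beta_u, eq_inv_iff_mul_eq_one, ← pow_succ, u3])]

theorem out : Nat.card (Out Spor.Fi24') = 2 := by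
  rw [Leech.card_out_congr (MulEquiv.subgroupCongr comm_eq), outK]

end Cfsg.Agent.Comp.Fi24.O
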