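import Cfsg.Agent.Comp.Fi24.OutCD

set_option autoImplicit false
set_option maxRecDepth 100000

namespace Cfsg.Agent.Comp.Fi24.O
open Cfsg.Agent.Comp

theorem cy3T : stepB (nat_lit 21) (nat_lit 306936) (nat_lit 19) T2 Is cyg cyW cyV [(255274, 133132), (17570, 11547), (17653, 45), (0, 4631)] [(255274, 133132, [12, 1, 4, 18, 5, 17], [19, 17, 9], [1, 2]), (17570, 11547, [17, 1, 8, 20, 18], [17, 0, 15, 13, 17], [2]), (17653, 45, [14, 0, 6, 13, 15], [12, 10, 12, 0, 12], [1]), (0, 4631, [], [15, 7, 17, 4, 12], [1])] [] [(4, []), (1, []), (2, [0]), (3, [0, 0, 0, 0, 0]), (0, [0, 0]), (0, [0, 0, 0]), (0, [])] 5731 [] cy3B [] [] [] [] = true := by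
  decide +kernel

theorem cy4S : srcB (nat_lit 21) (nat_lit 306936) (nat_lit 19) T2 Is cyg [(255274, 61065), (17570, 11547), (17653, 45), (0, 4631)] cy4D [] 196440 [12, 18, 10, 19, 13] cy4P = true := by
  decide +kernel

theorem cy4L0_ok : leafB (nat_lit 21) (nat_lit 306936) (nat_lit 19) T2 Is cyg cy4D [] cy4P cy4L0 = true := by
  decide +kernel

theorem cy4T : stepB (nat_lit 21) (nat_lit 306936) (nat_lit 19) T2 Is cyg cyW cyV [(255274, 61065), (17570, 11547), (17653, 45), (0, 4631)] [(255274, 61065, [12, 1, 4, 18, 5, 17], [17, 8, 20, 5], [1, 2]), (17570, 11547, [17, 1, 8, 20, 18], [17, 0, 15, 13, 17], [2])] [] [(0, []), (2, [0, 0, 0, 0, 0, 0, 0, 0]), (0, [0, 0]), (0, [0, 0]), (0, [0]), (0, [0]), (1, [])] 196440 [] cy4B [] [] [] [] = true := by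
  decide +kernel

theorem cy5T : stepB (nat_lit 21) (nat_lit 306936) (nat_lit 19) T2 Is cyg cyW cyV [(255274, 92345), (17570, 11547), (17653, 45), (0, 4631)] [(255274, 92345, [12, 1, 4, 18, 5, 17], [14, 16, 4, 13], [1, 2]), (17570, 11547, [17, 1, 8, 20, 18], [17, 0, 15, 13, 17], [1]), (17653, 45, [14, 0, 6, 13, 15], [12, 10, 12, 0, 12], [2])] [] [(0, []), (2, [0]), (3, [0]), (0, [0]), (1, [0]), (0, [0, 0, 0, 0, 0, 0, 0, 0]), (0, [0, 0, 0]), (1, [])] 297252 [] [] [] [] [] [] = true := by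
  decide +kernel

theorem cy6S : srcB (nat_lit 21) (nat_lit 306936) (nat_lit 19) T2 Is cyg [(17570, 11547), (17653, 45), (0, 4631)] cy6D [] 255274 [12, 1, 4, 18, 5, 17] cy6P = true := by
  decide +kernel

theorem cy6L0_ok : leafB (nat_lit 21) (nat_lit 306936) (nat_lit 19) T2 Is cyg cy6D [] cy6P cy6L0 = true := by
  decide +kernel

theorem cy6L1_ok : leafB (nat_lit 21) (nat_lit 306936) (nat_lit 19) T2 Is cyg cy6D [] cy6P cy6L1 = true := by
  decide +kernel

theorem cy6L2_ok : leafB (nat_lit 21) (nat_lit 306936) (nat_lit 19) T2 Is cyg cy6D [] cy6P cy6L2 = true := by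
  decide +kernel


end Cfsg.Agent.Comp.Fi24.O
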