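import Cfsg.Agent.Comp.Fi24.OutCD

set_option autoImplicit false
set_option maxRecDepth 100000

namespace Cfsg.Agent.Comp.Fi24.O
open Cfsg.Agent.Comp

theorem cy6L148_ok : leafB (nat_lit 21) (nat_lit 306936) (nat_lit 19) T2 Is cyg cy6D [] cy6P cy6L148 = true := by
  decide +kernel

theorem cy6L149_ok : leafB (nat_lit 21) (nat_lit 306936) (nat_lit 19) T2 Is cyg cy6D [] cy6P cy6L149 = true := by
  decide +kernel

theorem cy6L150_ok : leafB (nat_lit 21) (nat_lit 306936) (nat_lit 19) T2 Is cyg cy6D [] cy6P cy6L150 = true := by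
  decide +kernel

theorem cy6L151_ok : leafB (nat_lit 21) (nat_lit 306936) (nat_lit 19) T2 Is cyg cy6D [] cy6P cy6L151 = true := by
  decide +kernel

theorem cy6L152_ok : leafB (nat_lit 21) (nat_lit 306936) (nat_lit 19) T2 Is cyg cy6D [] cy6P cy6L152 = true := by
  decide +kernel

theorem cy6L153_ok : leafB (nat_lit 21) (nat_lit 306936) (nat_lit 19) T2 Is cyg cy6D [] cy6P cy6L153 = true := by
  decide +kernel

theorem cy6L154_ok : leafB (nat_lit 21) (nat_lit 306936) (nat_lit 19) T2 Is cyg cy6D [] cy6P cy6L154 = true := by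
  decide +kernel

theorem cy6L155_ok : leafB (nat_lit 21) (nat_lit 306936) (nat_lit 19) T2 Is cyg cy6D [] cy6P cy6L155 = true := by
  decide +kernel

theorem cy6L156_ok : leafB (nat_lit 21) (nat_lit 306936) (nat_lit 19) T2 Is cyg cy6D [] cy6P cy6L156 = true := by
  decide +kernel

theorem cy6L157_ok : leafB (nat_lit 21) (nat_lit 306936) (nat_lit 19) T2 Is cyg cy6D [] cy6P cy6L157 = true := by
  decide +kernel

theorem cy6L158_ok : leafB (nat_lit 21) (nat_lit 306936) (nat_lit 19) T2 Is cyg cy6D [] cy6P cy6L158 = true := by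
  decide +kernel

theorem cy6L159_ok : leafB (nat_lit 21) (nat_lit 306936) (nat_lit 19) T2 Is cyg cy6D [] cy6P cy6L159 = true := by
  decide +kernel

theorem cy6L160_ok : leafB (nat_lit 21) (nat_lit 306936) (nat_lit 19) T2 Is cyg cy6D [] cy6P cy6L160 = true := by
  decide +kernel

theorem cy6L161_ok : leafB (nat_lit 21) (nat_lit 306936) (nat_lit 19) T2 Is cyg cy6D [] cy6P cy6L161 = true := by
  decide +kernel

theorem cy6L162_ok : leafB (nat_lit 21) (nat_lit 306936) (nat_lit 19) T2 Is cyg cy6D [] cy6P cy6L162 = true := by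
  decide +kernel

theorem cy6L163_ok : leafB (nat_lit 21) (nat_lit 306936) (nat_lit 19) T2 Is cyg cy6D [] cy6P cy6L163 = true := by
  decide +kernel

theorem cy6L164_ok : leafB (nat_lit 21) (nat_lit 306936) (nat_lit 19) T2 Is cyg cy6D [] cy6P cy6L164 = true := by
  decide +kernel

theorem cy6L165_ok : leafB (nat_lit 21) (nat_lit 306936) (nat_lit 19) T2 Is cyg cy6D [] cy6P cy6L165 = true := by
  decide +kernel


end Cfsg.Agent.Comp.Fi24.O
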