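import Cfsg.Agent.Comp.Fi24.OutCD

set_option autoImplicit false
set_option maxRecDepth 100000

namespace Cfsg.Agent.Comp.Fi24.O
open Cfsg.Agent.Comp

theorem cy6L166_ok : leafB (nat_lit 21) (nat_lit 306936) (nat_lit 19) T2 Is cyg cy6D [] cy6P cy6L166 = true := by
  decide +kernel

theorem cy6L167_ok : leafB (nat_lit 21) (nat_lit 306936) (nat_lit 19) T2 Is cyg cy6D [] cy6P cy6L167 = true := by
  decide +kernel

theorem cy6L168_ok : leafB (nat_lit 21) (nat_lit 306936) (nat_lit 19) T2 Is cyg cy6D [] cy6P cy6L168 = true := by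
  decide +kernel

theorem cy6L169_ok : leafB (nat_lit 21) (nat_lit 306936) (nat_lit 19) T2 Is cyg cy6D [] cy6P cy6L169 = true := by
  decide +kernel

theorem cy6L170_ok : leafB (nat_lit 21) (nat_lit 306936) (nat_lit 19) T2 Is cyg cy6D [] cy6P cy6L170 = true := by
  decide +kernel

theorem cy6L171_ok : leafB (nat_lit 21) (nat_lit 306936) (nat_lit 19) T2 Is cyg cy6D [] cy6P cy6L171 = true := by
  decide +kernel

theorem cy6L172_ok : leafB (nat_lit 21) (nat_lit 306936) (nat_lit 19) T2 Is cyg cy6D [] cy6P cy6L172 = true := by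
  decide +kernel

theorem cy6L173_ok : leafB (nat_lit 21) (nat_lit 306936) (nat_lit 19) T2 Is cyg cy6D [] cy6P cy6L173 = true := by
  decide +kernel

theorem cy6L174_ok : leafB (nat_lit 21) (nat_lit 306936) (nat_lit 19) T2 Is cyg cy6D [] cy6P cy6L174 = true := by
  decide +kernel

theorem cy6L175_ok : leafB (nat_lit 21) (nat_lit 306936) (nat_lit 19) T2 Is cyg cy6D [] cy6P cy6L175 = true := by
  decide +kernel

theorem cy6L176_ok : leafB (nat_lit 21) (nat_lit 306936) (nat_lit 19) T2 Is cyg cy6D [] cy6P cy6L176 = true := by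
  decide +kernel

theorem cy6L177_ok : leafB (nat_lit 21) (nat_lit 306936) (nat_lit 19) T2 Is cyg cy6D [] cy6P cy6L177 = true := by
  decide +kernel

theorem cy6L178_ok : leafB (nat_lit 21) (nat_lit 306936) (nat_lit 19) T2 Is cyg cy6D [] cy6P cy6L178 = true := by
  decide +kernel

theorem cy6L179_ok : leafB (nat_lit 21) (nat_lit 306936) (nat_lit 19) T2 Is cyg cy6D [] cy6P cy6L179 = true := by
  decide +kernel

theorem cy6L180_ok : leafB (nat_lit 21) (nat_lit 306936) (nat_lit 19) T2 Is cyg cy6D [] cy6P cy6L180 = true := by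
  decide +kernel

theorem cy6L181_ok : leafB (nat_lit 21) (nat_lit 306936) (nat_lit 19) T2 Is cyg cy6D [] cy6P cy6L181 = true := by
  decide +kernel

theorem cy6L182_ok : leafB (nat_lit 21) (nat_lit 306936) (nat_lit 19) T2 Is cyg cy6D [] cy6P cy6L182 = true := by
  decide +kernel


end Cfsg.Agent.Comp.Fi24.O
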