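import Cfsg.Agent.Comp.Fi24.OutCD

set_option autoImplicit false
set_option maxRecDepth 100000

namespace Cfsg.Agent.Comp.Fi24.O
open Cfsg.Agent.Comp

theorem cy6L183_ok : leafB (nat_lit 21) (nat_lit 306936) (nat_lit 19) T2 Is cyg cy6D [] cy6P cy6L183 = true := by
  decide +kernel

theorem cy6L184_ok : leafB (nat_lit 21) (nat_lit 306936) (nat_lit 19) T2 Is cyg cy6D [] cy6P cy6L184 = true := by
  decide +kernel

theorem cy6L185_ok : leafB (nat_lit 21) (nat_lit 306936) (nat_lit 19) T2 Is cyg cy6D [] cy6P cy6L185 = true := by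
  decide +kernel

theorem cy6L186_ok : leafB (nat_lit 21) (nat_lit 306936) (nat_lit 19) T2 Is cyg cy6D [] cy6P cy6L186 = true := by
  decide +kernel

theorem cy6L187_ok : leafB (nat_lit 21) (nat_lit 306936) (nat_lit 19) T2 Is cyg cy6D [] cy6P cy6L187 = true := by
  decide +kernel

theorem cy6L188_ok : leafB (nat_lit 21) (nat_lit 306936) (nat_lit 19) T2 Is cyg cy6D [] cy6P cy6L188 = true := by
  decide +kernel

theorem cy6L189_ok : leafB (nat_lit 21) (nat_lit 306936) (nat_lit 19) T2 Is cyg cy6D [] cy6P cy6L189 = true := by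
  decide +kernel

theorem cy6L190_ok : leafB (nat_lit 21) (nat_lit 306936) (nat_lit 19) T2 Is cyg cy6D [] cy6P cy6L190 = true := by
  decide +kernel

theorem cy6L191_ok : leafB (nat_lit 21) (nat_lit 306936) (nat_lit 19) T2 Is cyg cy6D [] cy6P cy6L191 = true := by
  decide +kernel

theorem cy6L192_ok : leafB (nat_lit 21) (nat_lit 306936) (nat_lit 19) T2 Is cyg cy6D [] cy6P cy6L192 = true := by
  decide +kernel

theorem cy6L193_ok : leafB (nat_lit 21) (nat_lit 306936) (nat_lit 19) T2 Is cyg cy6D [] cy6P cy6L193 = true := by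
  decide +kernel

theorem cy6L194_ok : leafB (nat_lit 21) (nat_lit 306936) (nat_lit 19) T2 Is cyg cy6D [] cy6P cy6L194 = true := by
  decide +kernel

theorem cy6L195_ok : leafB (nat_lit 21) (nat_lit 306936) (nat_lit 19) T2 Is cyg cy6D [] cy6P cy6L195 = true := by
  decide +kernel

theorem cy6L196_ok : leafB (nat_lit 21) (nat_lit 306936) (nat_lit 19) T2 Is cyg cy6D [] cy6P cy6L196 = true := by
  decide +kernel

theorem cy6L197_ok : leafB (nat_lit 21) (nat_lit 306936) (nat_lit 19) T2 Is cyg cy6D [] cy6P cy6L197 = true := by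
  decide +kernel

theorem cy6L198_ok : leafB (nat_lit 21) (nat_lit 306936) (nat_lit 19) T2 Is cyg cy6D [] cy6P cy6L198 = true := by
  decide +kernel

theorem cy6L199_ok : leafB (nat_lit 21) (nat_lit 306936) (nat_lit 19) T2 Is cyg cy6D [] cy6P cy6L199 = true := by
  decide +kernel

theorem cy6L200_ok : leafB (nat_lit 21) (nat_lit 306936) (nat_lit 19) T2 Is cyg cy6D [] cy6P cy6L200 = true := by
  decide +kernel


end Cfsg.Agent.Comp.Fi24.O
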