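import Cfsg.Agent.Comp.Fi24.OutCD

set_option autoImplicit false
set_option maxRecDepth 100000

namespace Cfsg.Agent.Comp.Fi24.O
open Cfsg.Agent.Comp

theorem cy6L253_ok : leafB (nat_lit 21) (nat_lit 306936) (nat_lit 19) T2 Is cyg cy6D [] cy6P cy6L253 = true := by
  decide +kernel

theorem cy6L254_ok : leafB (nat_lit 21) (nat_lit 306936) (nat_lit 19) T2 Is cyg cy6D [] cy6P cy6L254 = true := by
  decide +kernel

theorem cy6L255_ok : leafB (nat_lit 21) (nat_lit 306936) (nat_lit 19) T2 Is cyg cy6D [] cy6P cy6L255 = true := by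
  decide +kernel

theorem cy6L256_ok : leafB (nat_lit 21) (nat_lit 306936) (nat_lit 19) T2 Is cyg cy6D [] cy6P cy6L256 = true := by
  decide +kernel

theorem cy6L257_ok : leafB (nat_lit 21) (nat_lit 306936) (nat_lit 19) T2 Is cyg cy6D [] cy6P cy6L257 = true := by
  decide +kernel

theorem cy6L258_ok : leafB (nat_lit 21) (nat_lit 306936) (nat_lit 19) T2 Is cyg cy6D [] cy6P cy6L258 = true := by
  decide +kernel

theorem cy6L259_ok : leafB (nat_lit 21) (nat_lit 306936) (nat_lit 19) T2 Is cyg cy6D [] cy6P cy6L259 = true := by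
  decide +kernel

theorem cy6L260_ok : leafB (nat_lit 21) (nat_lit 306936) (nat_lit 19) T2 Is cyg cy6D [] cy6P cy6L260 = true := by
  decide +kernel

theorem cy6L261_ok : leafB (nat_lit 21) (nat_lit 306936) (nat_lit 19) T2 Is cyg cy6D [] cy6P cy6L261 = true := by
  decide +kernel

theorem cy6L262_ok : leafB (nat_lit 21) (nat_lit 306936) (nat_lit 19) T2 Is cyg cy6D [] cy6P cy6L262 = true := by
  decide +kernel

theorem cy6L263_ok : leafB (nat_lit 21) (nat_lit 306936) (nat_lit 19) T2 Is cyg cy6D [] cy6P cy6L263 = true := by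
  decide +kernel

theorem cy6L264_ok : leafB (nat_lit 21) (nat_lit 306936) (nat_lit 19) T2 Is cyg cy6D [] cy6P cy6L264 = true := by
  decide +kernel

theorem cy6L265_ok : leafB (nat_lit 21) (nat_lit 306936) (nat_lit 19) T2 Is cyg cy6D [] cy6P cy6L265 = true := by
  decide +kernel

theorem cy6L266_ok : leafB (nat_lit 21) (nat_lit 306936) (nat_lit 19) T2 Is cyg cy6D [] cy6P cy6L266 = true := by
  decide +kernel

theorem cy6T : stepB (nat_lit 21) (nat_lit 306936) (nat_lit 19) T2 Is cyg cyW cyV [(17570, 11547), (17653, 45), (0, 4631)] [(17570, 11547, [17, 1, 8, 20, 18], [17, 0, 15, 13, 17], [1, 2]), (17653, 45, [14, 0, 6, 13, 15], [12, 10, 12, 0, 12], [1, 2]), (0, 4631, [], [15, 7, 17, 4, 12], [2])] [] [(0, []), (3, []), (4, [0]), (2, []), (1, [])] 255274 [] cy6B [[0, 0, 0, 0],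
[1]] [] [] [1, 0, 0, 0] = true := by
  decide +kernel

theorem cy7T : stepB (nat_lit 21) (nat_lit 306936) (nat_lit 19) T2 Is cyg cyW cyV [(17653, 45), (0, 4631)] [(17653, 45, [14, 0, 6, 13, 15], [12, 10, 12, 0, 12], [0, 1])] [] [(1, [0, 0]), (0, [])] 17570 [] cy7B [[0, 0, 0, 0],
[1]] [] [] [] = true := by
  decide +kernel


end Cfsg.Agent.Comp.Fi24.O
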