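import Cfsg.Agent.Comp.Fi24.OutCD

set_option autoImplicit false
set_option maxRecDepth 100000

namespace Cfsg.Agent.Comp.Fi24.O
open Cfsg.Agent.Comp

theorem cy8T : stepB (nat_lit 21) (nat_lit 306936) (nat_lit 19) T2 Is cyg cyW cyV [(0, 4631)] [] [[0, 0],
[0, 0, 0, 0]] [(3, []), (0, [])] 17653 [] cy8B [[0],
[1]] [] [] [0, 0, 0] = true := by
  decide +kernel

theorem cy9T : stepB (nat_lit 21) (nat_lit 306936) (nat_lit 19) T2 Is cyg cyW cyV [] [] [[0]] [(1, [])] 0 [0] cy9B [[0],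
[1]] [] [] [] = true := by
  decide +kernel


end Cfsg.Agent.Comp.Fi24.O
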