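import Cfsg.Agent.Comp.Fi24.OutCD

set_option autoImplicit false
set_option maxRecDepth 100000

namespace Cfsg.Agent.Comp.Fi24.O
open Cfsg.Agent.Comp

theorem chT : stepB (nat_lit 21) (nat_lit 306936) (nat_lit 19) T2 Is hg [[1, 0]] [] [] [] [[0], [1]] [(1, []), (3, [])] 0 [0] [] [[0]] [] [0, 0] [] = true := by
  decide +kernel


end Cfsg.Agent.Comp.Fi24.O
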