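import Cfsg.Agent.Comp.Fi24.OutC0
import Cfsg.Agent.Comp.Fi24.OutC1
import Cfsg.Agent.Comp.Fi24.OutC2
import Cfsg.Agent.Comp.Fi24.OutC3
import Cfsg.Agent.Comp.Fi24.OutC4
import Cfsg.Agent.Comp.Fi24.OutC5
import Cfsg.Agent.Comp.Fi24.OutC6
import Cfsg.Agent.Comp.Fi24.OutC7
import Cfsg.Agent.Comp.Fi24.OutC8
import Cfsg.Agent.Comp.Fi24.OutC9
import Cfsg.Agent.Comp.Fi24.OutC10
import Cfsg.Agent.Comp.Fi24.OutC11
import Cfsg.Agent.Comp.Fi24.OutC12
import Cfsg.Agent.Comp.Fi24.OutC13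
import Cfsg.Agent.Comp.Fi24.OutC14
import Cfsg.Agent.Comp.Fi24.OutC15
import Cfsg.Agent.Comp.Fi24.OutC16
import Cfsg.Agent.Comp.Fi24.OutC17
import Cfsg.Agent.Comp.Fi24.OutC18
import Cfsg.Agent.Comp.Fi24.OutC19

set_option autoImplicit false
set_option maxRecDepth 100000

namespace Cfsg.Agent.Comp.Fi24.O
open Cfsg.Agent.Comp

theorem cy1N : No s2 phi cyg [(255274, 69745), (17570, 11547), (17653, 45), (0, 4631)] 211060 cy1B :=
  No.of_eq (No.append (No.leaf cyX cy1S cy1L0_ok) (No.append (No.leaf cyX cy1S cy1L1_ok) (No.append (No.leaf cyX cy1S cy1L2_ok) (No.append (No.leaf cyX cy1S cy1L3_ok) (No.append (No.leaf cyX cy1S cy1L4_ok) (No.append (No.leaf cyX cy1S cy1L5_ok) (No.leaf cyX cy1S cy1L6_ok))))))) (by decide +kernel)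

theorem cy2N : No s2 phi cyg [(255274, 183375), (17570, 11547), (17653, 45), (0, 4631)] 164499 cy2B :=
  No.of_eq (No.leaf cyX cy2S cy2L0_ok) (by decide +kernel)

theorem cy3N : No s2 phi cyg [(255274, 133132), (17570, 11547), (17653, 45), (0, 4631)] 5731 cy3B :=
  No.of_eq (No.leaf cyX cy3S cy3L0_ok) (by decide +kernel)

theorem cy4N : No s2 phi cyg [(255274, 61065), (17570, 11547), (17653, 45), (0, 4631)] 196440 cy4B :=
  No.of_eq (No.leaf cyX cy4S cy4L0_ok) (by decide +kernel)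

theorem cy6N : No s2 phi cyg [(17570, 11547), (17653, 45), (0, 4631)] 255274 cy6B :=
  No.of_eq (No.append (No.leaf cyX cy6S cy6L0_ok) (No.append (No.leaf cyX cy6S cy6L1_ok) (No.append (No.leaf cyX cy6S cy6L2_ok) (No.append (No.leaf cyX cy6S cy6L3_ok) (No.append (No.leaf cyX cy6S cy6L4_ok) (No.append (No.leaf cyX cy6S cy6L5_ok) (No.append (No.leaf cyX cy6S cy6L6_ok) (No.append (No.leaf cyX cy6S cy6L7_ok) (No.append (No.leaf cyX cy6S cy6L8_ok) (No.append (No.leaf cyX cy6S cy6L9_ok) (No.append (No.leaf cyX cy6S cy6L10_ok) (No.append (No.leaf cyX cy6S cy6L11_ok) (No.append (No.leaf cyX cy6S cy6L12_ok) (No.append (No.leaf cyX cy6S cy6L13_ok) (No.append (No.leaf cyX cy6S cy6L14_ok) (No.append (No.leaf cyX cy6S cy6L15_ok) (No.append (No.leaf cyX cy6S cy6L16_ok) (No.append (No.leaf cyX cy6S cy6L17_ok) (No.append (No.leaf cyX cy6S cy6L18_ok) (No.append (No.leaf cyX cy6S cy6L19_ok) (No.append (No.leaf cyX cy6S cy6L20_ok) (No.append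 (No.leaf cyX cy6S cy6L21_ok) (No.append (No.leaf cyX cy6S cy6L22_ok) (No.append (No.leaf cyX cy6S cy6L23_ok) (No.append (No.leaf cyX cy6S cy6L24_ok) (No.append (No.leaf cyX cy6S cy6L25_ok) (No.append (No.leaf cyX cy6S cy6L26_ok) (No.append (No.leaf cyX cy6S cy6L27_ok) (No.append (No.leaf cyX cy6S cy6L28_ok) (No.append (No.leaf cyX cy6S cy6L29_ok) (No.append (No.leaf cyX cy6S cy6L30_ok) (No.append (No.leaf cyX cy6S cy6L31_ok) (No.append (No.leaf cyX cy6S cy6L32_ok) (No.append (No.leaf cyX cy6S cy6L33_ok) (No.append (No.leaf cyX cy6S cy6L34_ok) (No.append (No.leaf cyX cy6S cy6L35_ok) (No.append (No.leaf cyX cy6S cy6L36_ok) (No.append (No.leaf cyX cy6S cy6L37_ok) (No.append (No.leaf cyX cy6S cy6L38_ok) (No.append (No.leaf cyX cy6S cy6L39_ok) (No.append (No.leaf cyX cy6S cy6L40_ok) (No.append (No.leaf cyX cy6S cy6L41_ok) (No.append (No.leaf cyX cy6S cy6L42_ok) (No.append (No.leaf cyX cy6S cy6L43_ok) (No.append (No.leaf cyX cy6S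 cy6L44_ok) (No.append (No.leaf cyX cy6S cy6L45_ok) (No.append (No.leaf cyX cy6S cy6L46_ok) (No.append (No.leaf cyX cy6S cy6L47_ok) (No.append (No.leaf cyX cy6S cy6L48_ok) (No.append (No.leaf cyX cy6S cy6L49_ok) (No.append (No.leaf cyX cy6S cy6L50_ok) (No.append (No.leaf cyX cy6S cy6L51_ok) (No.append (No.leaf cyX cy6S cy6L52_ok) (No.append (No.leaf cyX cy6S cy6L53_ok) (No.append (No.leaf cyX cy6S cy6L54_ok) (No.append (No.leaf cyX cy6S cy6L55_ok) (No.append (No.leaf cyX cy6S cy6L56_ok) (No.append (No.leaf cyX cy6S cy6L57_ok) (No.append (No.leaf cyX cy6S cy6L58_ok) (No.append (No.leaf cyX cy6S cy6L59_ok) (No.append (No.leaf cyX cy6S cy6L60_ok) (No.append (No.leaf cyX cy6S cy6L61_ok) (No.append (No.leaf cyX cy6S cy6L62_ok) (No.append (No.leaf cyX cy6S cy6L63_ok) (No.append (No.leaf cyX cy6S cy6L64_ok) (No.append (No.leaf cyX cy6S cy6L65_ok) (No.append (No.leaf cyX cy6S cy6L66_ok) (No.append (No.leaf cyX cy6S cy6L67_ok) (No.append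 (No.leaf cyX cy6S cy6L68_ok) (No.append (No.leaf cyX cy6S cy6L69_ok) (No.append (No.leaf cyX cy6S cy6L70_ok) (No.append (No.leaf cyX cy6S cy6L71_ok) (No.append (No.leaf cyX cy6S cy6L72_ok) (No.append (No.leaf cyX cy6S cy6L73_ok) (No.append (No.leaf cyX cy6S cy6L74_ok) (No.append (No.leaf cyX cy6S cy6L75_ok) (No.append (No.leaf cyX cy6S cy6L76_ok) (No.append (No.leaf cyX cy6S cy6L77_ok) (No.append (No.leaf cyX cy6S cy6L78_ok) (No.append (No.leaf cyX cy6S cy6L79_ok) (No.append (No.leaf cyX cy6S cy6L80_ok) (No.append (No.leaf cyX cy6S cy6L81_ok) (No.append (No.leaf cyX cy6S cy6L82_ok) (No.append (No.leaf cyX cy6S cy6L83_ok) (No.append (No.leaf cyX cy6S cy6L84_ok) (No.append (No.leaf cyX cy6S cy6L85_ok) (No.append (No.leaf cyX cy6S cy6L86_ok) (No.append (No.leaf cyX cy6S cy6L87_ok) (No.append (No.leaf cyX cy6S cy6L88_ok) (No.append (No.leaf cyX cy6S cy6L89_ok) (No.append (No.leaf cyX cy6S cy6L90_ok) (No.append (No.leaf cyX cy6S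 cy6L91_ok) (No.append (No.leaf cyX cy6S cy6L92_ok) (No.append (No.leaf cyX cy6S cy6L93_ok) (No.append (No.leaf cyX cy6S cy6L94_ok) (No.append (No.leaf cyX cy6S cy6L95_ok) (No.append (No.leaf cyX cy6S cy6L96_ok) (No.append (No.leaf cyX cy6S cy6L97_ok) (No.append (No.leaf cyX cy6S cy6L98_ok) (No.append (No.leaf cyX cy6S cy6L99_ok) (No.append (No.leaf cyX cy6S cy6L100_ok) (No.append (No.leaf cyX cy6S cy6L101_ok) (No.append (No.leaf cyX cy6S cy6L102_ok) (No.append (No.leaf cyX cy6S cy6L103_ok) (No.append (No.leaf cyX cy6S cy6L104_ok) (No.append (No.leaf cyX cy6S cy6L105_ok) (No.append (No.leaf cyX cy6S cy6L106_ok) (No.append (No.leaf cyX cy6S cy6L107_ok) (No.append (No.leaf cyX cy6S cy6L108_ok) (No.append (No.leaf cyX cy6S cy6L109_ok) (No.append (No.leaf cyX cy6S cy6L110_ok) (No.append (No.leaf cyX cy6S cy6L111_ok) (No.append (No.leaf cyX cy6S cy6L112_ok) (No.append (No.leaf cyX cy6S cy6L113_ok) (No.append (No.leaf cyX cy6S cy6L114_ok)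 (No.append (No.leaf cyX cy6S cy6L115_ok) (No.append (No.leaf cyX cy6S cy6L116_ok) (No.append (No.leaf cyX cy6S cy6L117_ok) (No.append (No.leaf cyX cy6S cy6L118_ok) (No.append (No.leaf cyX cy6S cy6L119_ok) (No.append (No.leaf cyX cy6S cy6L120_ok) (No.append (No.leaf cyX cy6S cy6L121_ok) (No.append (No.leaf cyX cy6S cy6L122_ok) (No.append (No.leaf cyX cy6S cy6L123_ok) (No.append (No.leaf cyX cy6S cy6L124_ok) (No.append (No.leaf cyX cy6S cy6L125_ok) (No.append (No.leaf cyX cy6S cy6L126_ok) (No.append (No.leaf cyX cy6S cy6L127_ok) (No.append (No.leaf cyX cy6S cy6L128_ok) (No.append (No.leaf cyX cy6S cy6L129_ok) (No.append (No.leaf cyX cy6S cy6L130_ok) (No.append (No.leaf cyX cy6S cy6L131_ok) (No.append (No.leaf cyX cy6S cy6L132_ok) (No.append (No.leaf cyX cy6S cy6L133_ok) (No.append (No.leaf cyX cy6S cy6L134_ok) (No.append (No.leaf cyX cy6S cy6L135_ok) (No.append (No.leaf cyX cy6S cy6L136_ok) (No.append (No.leaf cyX cy6S cy6L137_ok)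 (No.append (No.leaf cyX cy6S cy6L138_ok) (No.append (No.leaf cyX cy6S cy6L139_ok) (No.append (No.leaf cyX cy6S cy6L140_ok) (No.append (No.leaf cyX cy6S cy6L141_ok) (No.append (No.leaf cyX cy6S cy6L142_ok) (No.append (No.leaf cyX cy6S cy6L143_ok) (No.append (No.leaf cyX cy6S cy6L144_ok) (No.append (No.leaf cyX cy6S cy6L145_ok) (No.append (No.leaf cyX cy6S cy6L146_ok) (No.append (No.leaf cyX cy6S cy6L147_ok) (No.append (No.leaf cyX cy6S cy6L148_ok) (No.append (No.leaf cyX cy6S cy6L149_ok) (No.append (No.leaf cyX cy6S cy6L150_ok) (No.append (No.leaf cyX cy6S cy6L151_ok) (No.append (No.leaf cyX cy6S cy6L152_ok) (No.append (No.leaf cyX cy6S cy6L153_ok) (No.append (No.leaf cyX cy6S cy6L154_ok) (No.append (No.leaf cyX cy6S cy6L155_ok) (No.append (No.leaf cyX cy6S cy6L156_ok) (No.append (No.leaf cyX cy6S cy6L157_ok) (No.append (No.leaf cyX cy6S cy6L158_ok) (No.append (No.leaf cyX cy6S cy6L159_ok) (No.append (No.leaf cyX cy6S cy6L160_ok)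 (No.append (No.leaf cyX cy6S cy6L161_ok) (No.append (No.leaf cyX cy6S cy6L162_ok) (No.append (No.leaf cyX cy6S cy6L163_ok) (No.append (No.leaf cyX cy6S cy6L164_ok) (No.append (No.leaf cyX cy6S cy6L165_ok) (No.append (No.leaf cyX cy6S cy6L166_ok) (No.append (No.leaf cyX cy6S cy6L167_ok) (No.append (No.leaf cyX cy6S cy6L168_ok) (No.append (No.leaf cyX cy6S cy6L169_ok) (No.append (No.leaf cyX cy6S cy6L170_ok) (No.append (No.leaf cyX cy6S cy6L171_ok) (No.append (No.leaf cyX cy6S cy6L172_ok) (No.append (No.leaf cyX cy6S cy6L173_ok) (No.append (No.leaf cyX cy6S cy6L174_ok) (No.append (No.leaf cyX cy6S cy6L175_ok) (No.append (No.leaf cyX cy6S cy6L176_ok) (No.append (No.leaf cyX cy6S cy6L177_ok) (No.append (No.leaf cyX cy6S cy6L178_ok) (No.append (No.leaf cyX cy6S cy6L179_ok) (No.append (No.leaf cyX cy6S cy6L180_ok) (No.append (No.leaf cyX cy6S cy6L181_ok) (No.append (No.leaf cyX cy6S cy6L182_ok) (No.append (No.leaf cyX cy6S cy6L183_ok)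 (No.append (No.leaf cyX cy6S cy6L184_ok) (No.append (No.leaf cyX cy6S cy6L185_ok) (No.append (No.leaf cyX cy6S cy6L186_ok) (No.append (No.leaf cyX cy6S cy6L187_ok) (No.append (No.leaf cyX cy6S cy6L188_ok) (No.append (No.leaf cyX cy6S cy6L189_ok) (No.append (No.leaf cyX cy6S cy6L190_ok) (No.append (No.leaf cyX cy6S cy6L191_ok) (No.append (No.leaf cyX cy6S cy6L192_ok) (No.append (No.leaf cyX cy6S cy6L193_ok) (No.append (No.leaf cyX cy6S cy6L194_ok) (No.append (No.leaf cyX cy6S cy6L195_ok) (No.append (No.leaf cyX cy6S cy6L196_ok) (No.append (No.leaf cyX cy6S cy6L197_ok) (No.append (No.leaf cyX cy6S cy6L198_ok) (No.append (No.leaf cyX cy6S cy6L199_ok) (No.append (No.leaf cyX cy6S cy6L200_ok) (No.append (No.leaf cyX cy6S cy6L201_ok) (No.append (No.leaf cyX cy6S cy6L202_ok) (No.append (No.leaf cyX cy6S cy6L203_ok) (No.append (No.leaf cyX cy6S cy6L204_ok) (No.append (No.leaf cyX cy6S cy6L205_ok) (No.append (No.leaf cyX cy6S cy6L206_ok)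 (No.append (No.leaf cyX cy6S cy6L207_ok) (No.append (No.leaf cyX cy6S cy6L208_ok) (No.append (No.leaf cyX cy6S cy6L209_ok) (No.append (No.leaf cyX cy6S cy6L210_ok) (No.append (No.leaf cyX cy6S cy6L211_ok) (No.append (No.leaf cyX cy6S cy6L212_ok) (No.append (No.leaf cyX cy6S cy6L213_ok) (No.append (No.leaf cyX cy6S cy6L214_ok) (No.append (No.leaf cyX cy6S cy6L215_ok) (No.append (No.leaf cyX cy6S cy6L216_ok) (No.append (No.leaf cyX cy6S cy6L217_ok) (No.append (No.leaf cyX cy6S cy6L218_ok) (No.append (No.leaf cyX cy6S cy6L219_ok) (No.append (No.leaf cyX cy6S cy6L220_ok) (No.append (No.leaf cyX cy6S cy6L221_ok) (No.append (No.leaf cyX cy6S cy6L222_ok) (No.append (No.leaf cyX cy6S cy6L223_ok) (No.append (No.leaf cyX cy6S cy6L224_ok) (No.append (No.leaf cyX cy6S cy6L225_ok) (No.append (No.leaf cyX cy6S cy6L226_ok) (No.append (No.leaf cyX cy6S cy6L227_ok) (No.append (No.leaf cyX cy6S cy6L228_ok) (No.append (No.leaf cyX cy6S cy6L229_ok)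 (No.append (No.leaf cyX cy6S cy6L230_ok) (No.append (No.leaf cyX cy6S cy6L231_ok) (No.append (No.leaf cyX cy6S cy6L232_ok) (No.append (No.leaf cyX cy6S cy6L233_ok) (No.append (No.leaf cyX cy6S cy6L234_ok) (No.append (No.leaf cyX cy6S cy6L235_ok) (No.append (No.leaf cyX cy6S cy6L236_ok) (No.append (No.leaf cyX cy6S cy6L237_ok) (No.append (No.leaf cyX cy6S cy6L238_ok) (No.append (No.leaf cyX cy6S cy6L239_ok) (No.append (No.leaf cyX cy6S cy6L240_ok) (No.append (No.leaf cyX cy6S cy6L241_ok) (No.append (No.leaf cyX cy6S cy6L242_ok) (No.append (No.leaf cyX cy6S cy6L243_ok) (No.append (No.leaf cyX cy6S cy6L244_ok) (No.append (No.leaf cyX cy6S cy6L245_ok) (No.append (No.leaf cyX cy6S cy6L246_ok) (No.append (No.leaf cyX cy6S cy6L247_ok) (No.append (No.leaf cyX cy6S cy6L248_ok) (No.append (No.leaf cyX cy6S cy6L249_ok) (No.append (No.leaf cyX cy6S cy6L250_ok) (No.append (No.leaf cyX cy6S cy6L251_ok) (No.append (No.leaf cyX cy6S cy6L252_ok)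 (No.append (No.leaf cyX cy6S cy6L253_ok) (No.append (No.leaf cyX cy6S cy6L254_ok) (No.append (No.leaf cyX cy6S cy6L255_ok) (No.append (No.leaf cyX cy6S cy6L256_ok) (No.append (No.leaf cyX cy6S cy6L257_ok) (No.append (No.leaf cyX cy6S cy6L258_ok) (No.append (No.leaf cyX cy6S cy6L259_ok) (No.append (No.leaf cyX cy6S cy6L260_ok) (No.append (No.leaf cyX cy6S cy6L261_ok) (No.append (No.leaf cyX cy6S cy6L262_ok) (No.append (No.leaf cyX cy6S cy6L263_ok) (No.append (No.leaf cyX cy6S cy6L264_ok) (No.append (No.leaf cyX cy6S cy6L265_ok) (No.append (No.leaf cyX cy6S cy6L266_ok) (No.append (No.step cyX cy1T cy1N) (No.append (No.step cyX cy2T cy2N) (No.append (No.step cyX cy3T cy3N) (No.append (No.step cyX cy4T cy4N) (No.step cyX cy5T (No.nil _ _ _ _ _)))))))))))))))))))))))))))))))))))))))))))))))))))))))))))))))))))))))))))))))))))))))))))))))))))))))))))))))))))))))))))))))))))))))))))))))))))))))))))))))))))))))))))))))))))))))))))))))))))))))))))))))))))))))))))))))))))))))))))))))))))))))))))))))))))))))))))))))))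 (by decide +kernel)

theorem cy7N : No s2 phi cyg [(17653, 45), (0, 4631)] 17570 cy7B :=
  No.of_eq (No.step cyX cy6T cy6N) (by decide +kernel)

theorem cy8N : No s2 phi cyg [(0, 4631)] 17653 cy8B :=
  No.of_eq (No.step cyX cy7T cy7N) (by decide +kernel)

theorem cy9N : No s2 phi cyg [] 0 cy9B :=
  No.of_eq (No.step cyX cy8T cy8N) (by decide +kernel)

theorem cy0 {c : Cfsg.Spor.Fi24} (hc : Cm s2 cyg c) : ∃ g ∈ genW s2 cyW, Cm s2 cyg (g⁻¹ * c) ∧ phi (g⁻¹ * c) 0 = 0 :=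
  cyX.first cy9T cy9N hc


end Cfsg.Agent.Comp.Fi24.O
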