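import Cfsg.Agent.Comp.Fi24.OutCD

set_option autoImplicit false
set_option maxRecDepth 100000

namespace Cfsg.Agent.Comp.Fi24.O
open Cfsg.Agent.Comp

theorem cy1S : srcB (nat_lit 21) (nat_lit 306936) (nat_lit 19) T2 Is cyg [(255274, 69745), (17570, 11547), (17653, 45), (0, 4631)] cy1D [] 211060 [18, 17, 6, 19, 18] cy1P = true := by
  decide +kernel

theorem cy1L0_ok : leafB (nat_lit 21) (nat_lit 306936) (nat_lit 19) T2 Is cyg cy1D [] cy1P cy1L0 = true := by
  decide +kernel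

theorem cy1L1_ok : leafB (nat_lit 21) (nat_lit 306936) (nat_lit 19) T2 Is cyg cy1D [] cy1P cy1L1 = true := by
  decide +kernel

theorem cy1L2_ok : leafB (nat_lit 21) (nat_lit 306936) (nat_lit 19) T2 Is cyg cy1D [] cy1P cy1L2 = true := by
  decide +kernel

theorem cy1L3_ok : leafB (nat_lit 21) (nat_lit 306936) (nat_lit 19) T2 Is cyg cy1D [] cy1P cy1L3 = true := by
  decide +kernel

theorem cy1L4_ok : leafB (nat_lit 21) (nat_lit 306936) (nat_lit 19) T2 Is cyg cy1D [] cy1P cy1L4 = true := by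
  decide +kernel

theorem cy1L5_ok : leafB (nat_lit 21) (nat_lit 306936) (nat_lit 19) T2 Is cyg cy1D [] cy1P cy1L5 = true := by
  decide +kernel

theorem cy1L6_ok : leafB (nat_lit 21) (nat_lit 306936) (nat_lit 19) T2 Is cyg cy1D [] cy1P cy1L6 = true := by
  decide +kernel

theorem cy1T : stepB (nat_lit 21) (nat_lit 306936) (nat_lit 19) T2 Is cyg cyW cyV [(255274, 69745), (17570, 11547), (17653, 45), (0, 4631)] [(255274, 69745, [12, 1, 4, 18, 5, 17], [18, 3, 5], [1, 2]), (17570, 11547, [17, 1, 8, 20, 18], [17, 0, 15, 13, 17], [1]), (17653, 45, [14, 0, 6, 13, 15], [12, 10, 12, 0, 12], [2]), (0, 4631, [], [15, 7, 17, 4, 12], [2])] [] [(2, []), (3, []), (4, [0]), (2, []), (1, []), (3, [0, 0]), (1, [0]), (1, [0]), (1, [0, 0]), (1, [0]), (1, [0]), (1, [0, 0, 0]), (1, [0]), (0, [0]), (0, [])] 211060 [] cy1B [] [] [] [] = true := by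
  decide +kernel

theorem cy2S : srcB (nat_lit 21) (nat_lit 306936) (nat_lit 19) T2 Is cyg [(255274, 183375), (17570, 11547), (17653, 45), (0, 4631)] cy2D [] 164499 [1, 12, 15, 8, 14, 2] cy2P = true := by
  decide +kernel

theorem cy2L0_ok : leafB (nat_lit 21) (nat_lit 306936) (nat_lit 19) T2 Is cyg cy2D [] cy2P cy2L0 = true := by
  decide +kernel

theorem cy2T : stepB (nat_lit 21) (nat_lit 306936) (nat_lit 19) T2 Is cyg cyW cyV [(255274, 183375), (17570, 11547), (17653, 45), (0, 4631)] [(255274, 183375, [12, 1, 4, 18, 5, 17], [19, 10, 18], [1, 2]), (17570, 11547, [17, 1, 8, 20, 18], [17, 0, 15, 13, 17], [2]), (17653, 45, [14, 0, 6, 13, 15], [12, 10, 12, 0, 12], [2]), (0, 4631, [], [15, 7, 17, 4, 12], [2])] [] [(0, []), (2, []), (3, []), (4, [0]), (0, []), (3, [0]), (1, [0]), (1, [0]), (0, [0, 0]), (1, [0]), (1, [0]), (1, [0]), (1, [0]), (1, [0, 0]), (1, [0]), (1, [0, 0]), (0, [])] 164499 [] cy2B [] [] [] [] = true := by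
  decide +kernel

theorem cy3S : srcB (nat_lit 21) (nat_lit 306936) (nat_lit 19) T2 Is cyg [(255274, 133132), (17570, 11547), (17653, 45), (0, 4631)] cy3D [] 5731 [1, 12, 2, 5, 17] cy3P = true := by
  decide +kernel

theorem cy3L0_ok : leafB (nat_lit 21) (nat_lit 306936) (nat_lit 19) T2 Is cyg cy3D [] cy3P cy3L0 = true := by
  decide +kernel


end Cfsg.Agent.Comp.Fi24.O
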