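import Cfsg.Agent.Comp.Fi24.OutCD

set_option autoImplicit false
set_option maxRecDepth 100000

namespace Cfsg.Agent.Comp.Fi24.O
open Cfsg.Agent.Comp

theorem cy6L201_ok : leafB (nat_lit 21) (nat_lit 306936) (nat_lit 19) T2 Is cyg cy6D [] cy6P cy6L201 = true := by
  decide +kernel

theorem cy6L202_ok : leafB (nat_lit 21) (nat_lit 306936) (nat_lit 19) T2 Is cyg cy6D [] cy6P cy6L202 = true := by
  decide +kernel

theorem cy6L203_ok : leafB (nat_lit 21) (nat_lit 306936) (nat_lit 19) T2 Is cyg cy6D [] cy6P cy6L203 = true := by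
  decide +kernel

theorem cy6L204_ok : leafB (nat_lit 21) (nat_lit 306936) (nat_lit 19) T2 Is cyg cy6D [] cy6P cy6L204 = true := by
  decide +kernel

theorem cy6L205_ok : leafB (nat_lit 21) (nat_lit 306936) (nat_lit 19) T2 Is cyg cy6D [] cy6P cy6L205 = true := by
  decide +kernel

theorem cy6L206_ok : leafB (nat_lit 21) (nat_lit 306936) (nat_lit 19) T2 Is cyg cy6D [] cy6P cy6L206 = true := by
  decide +kernel

theorem cy6L207_ok : leafB (nat_lit 21) (nat_lit 306936) (nat_lit 19) T2 Is cyg cy6D [] cy6P cy6L207 = true := by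
  decide +kernel

theorem cy6L208_ok : leafB (nat_lit 21) (nat_lit 306936) (nat_lit 19) T2 Is cyg cy6D [] cy6P cy6L208 = true := by
  decide +kernel

theorem cy6L209_ok : leafB (nat_lit 21) (nat_lit 306936) (nat_lit 19) T2 Is cyg cy6D [] cy6P cy6L209 = true := by
  decide +kernel

theorem cy6L210_ok : leafB (nat_lit 21) (nat_lit 306936) (nat_lit 19) T2 Is cyg cy6D [] cy6P cy6L210 = true := by
  decide +kernel

theorem cy6L211_ok : leafB (nat_lit 21) (nat_lit 306936) (nat_lit 19) T2 Is cyg cy6D [] cy6P cy6L211 = true := by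
  decide +kernel

theorem cy6L212_ok : leafB (nat_lit 21) (nat_lit 306936) (nat_lit 19) T2 Is cyg cy6D [] cy6P cy6L212 = true := by
  decide +kernel

theorem cy6L213_ok : leafB (nat_lit 21) (nat_lit 306936) (nat_lit 19) T2 Is cyg cy6D [] cy6P cy6L213 = true := by
  decide +kernel

theorem cy6L214_ok : leafB (nat_lit 21) (nat_lit 306936) (nat_lit 19) T2 Is cyg cy6D [] cy6P cy6L214 = true := by
  decide +kernel

theorem cy6L215_ok : leafB (nat_lit 21) (nat_lit 306936) (nat_lit 19) T2 Is cyg cy6D [] cy6P cy6L215 = true := by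
  decide +kernel

theorem cy6L216_ok : leafB (nat_lit 21) (nat_lit 306936) (nat_lit 19) T2 Is cyg cy6D [] cy6P cy6L216 = true := by
  decide +kernel

theorem cy6L217_ok : leafB (nat_lit 21) (nat_lit 306936) (nat_lit 19) T2 Is cyg cy6D [] cy6P cy6L217 = true := by
  decide +kernel


end Cfsg.Agent.Comp.Fi24.O
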