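import Cfsg.Agent.Comp.Fi24.OutR

set_option autoImplicit false
set_option maxRecDepth 100000

namespace Cfsg.Agent.Comp.Fi24.O
open Cfsg.Agent.Comp

def cyg : List (List Nat) := [[20]]

def cyW : List (List Nat) := [[20], [0]]

def cyV : List (List Nat) := []

theorem cyX : Ctx s2 (nat_lit 21) (nat_lit 306936) (nat_lit 19) T2 phi Is cyg cyW cyV :=
  Ctx.of (V := []) rep2 orbs (by norm_num) (by decide +kernel) fun e he => eqs3' e (List.mem_of_mem_take (i := 2) he)

def xw : List Nat := [8, 5, 10, 3, 2, 7, 2, 9, 2, 4, 6, 0]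

def hg : List (List Nat) := [[8, 5, 3, 7, 10, 11, 4, 5, 6, 4],
[5, 8, 6, 4, 7, 10, 9, 3]]

theorem cxX : Ctx s2 (nat_lit 21) (nat_lit 306936) (nat_lit 19) T2 phi Is [xw] [] [] :=
  Ctx.of (V := []) rep2 orbs (by norm_num) (by decide +kernel) nofun

theorem chX : Ctx s2 (nat_lit 21) (nat_lit 306936) (nat_lit 19) T2 phi Is hg [[1, 0]] [] :=
  Ctx.of (V := []) rep2 orbs (by norm_num) (by decide +kernel) fun e he => eqs3' e (List.mem_of_mem_drop (i := 2) he)

def cy1D : Ds := [(255274, 69745, [12, 1, 4, 18, 5, 17], [18, 3, 5], [1, 2]), (17570, 11547, [17, 1, 8, 20, 18], [17, 0, 15, 13, 17], [1, 2]), (17653, 45, [14, 0, 6, 13, 15], [12, 10, 12, 0, 12], [1, 2])]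

def cy1P : Pats :=
  [([0, 1], [(0, [0, 0, 0]), (1, [])], 211060),
   ([1], [(0, []), (5, []), (4, [0]), (6, [0]), (0, [0, 0, 0]), (2, [0, 0]), (0, [0, 0]), (2, [0]), (0, [])], 55078),
   ([1, 2], [(0, [0]), (2, []), (4, [0]), (1, [0, 0, 0, 0, 0, 0]), (0, []), (2, [0]), (0, [])], 267189)]

def cy1L0 : List (Nat × List Nat × Nat) :=
  [(60892, [14, 6, 17, 4, 8], 0)]

def cy1L1 : List (Nat × List Nat × Nat) :=
  [(39274, [12, 0, 1, 6, 13], 0)]

def cy1L2 : List (Nat × List Nat × Nat) :=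
  [(132501, [14, 4, 3, 9, 17], 1)]

def cy1L3 : List (Nat × List Nat × Nat) :=
  [(265930, [18, 5, 17, 13, 6], 0)]

def cy1L4 : List (Nat × List Nat × Nat) :=
  [(57206, [12, 15, 3, 2, 1, 17], 0)]

def cy1L5 : List (Nat × List Nat × Nat) :=
  [(219105, [12, 4, 16, 1, 0, 2], 0)]

def cy1L6 : List (Nat × List Nat × Nat) :=
  [(74439, [1, 14, 0, 8, 7, 9], 2)]

def cy1B : List Nat := [60892, 39274, 132501, 265930, 57206, 219105, 74439]

def cy2D : Ds := []

def cy2P : Pats :=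
  [([0, 1], [(0, [0]), (1, [])], 164499)]

def cy2L0 : List (Nat × List Nat × Nat) :=
  [(12916, [18, 13, 1, 14, 3], 0),
   (176474, [12, 20, 16, 12, 18], 0)]

def cy2B : List Nat := [12916, 176474]

def cy3D : Ds := []

def cy3P : Pats :=
  [([0, 1], [(0, [0, 0, 0]), (1, [])], 5731)]

def cy3L0 : List (Nat × List Nat × Nat) :=
  [(210503, [12, 16, 7, 19, 20, 13], 0)]

def cy3B : List Nat := [210503]

def cy4D : Ds := []

def cy4P : Pats :=
  [([0, 2], [(0, [0]), (1, [])], 196440)]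

def cy4L0 : List (Nat × List Nat × Nat) :=
  [(220170, [19, 18, 6, 14], 0)]

def cy4B : List Nat := [220170]

def cy6D : Ds := [(17570, 11547, [17, 1, 8, 20, 18], [17, 0, 15, 13, 17], [1, 2]), (17653, 45, [14, 0, 6, 13, 15], [12, 10, 12, 0, 12], [1, 2]), (0, 4631, [], [15, 7, 17, 4, 12], [1])]

def cy6P : Pats :=
  [([0, 2], [(0, [0, 0, 0]), (1, [])], 255274),
   ([0, 2], [(0, [0, 0, 0, 0, 0]), (1, [])], 255274),
   ([1], [(0, []), (2, [0, 0]), (0, [0, 0, 0, 0, 0, 0, 0]), (0, [0]), (0, [0]), (0, [])], 147138),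
   ([0, 2], [(0, [0, 0, 0, 0]), (1, [])], 255274),
   ([0, 2], [(0, [0]), (1, [])], 255274),
   ([1, 2], [(3, []), (5, [0, 0, 0, 0]), (0, [0, 0]), (0, [0, 0, 0, 0, 0]), (0, [0]), (1, [0, 0]), (0, [0]), (0, [])], 199927),
   ([1, 2], [(0, []), (2, []), (5, [0, 0, 0]), (1, [0]), (1, [0]), (1, [0]), (0, [0]), (1, [0]), (0, [0]), (0, [])], 139050),
   ([1, 2], [(0, [0]), (4, [0, 0, 0]), (0, [0, 0, 0, 0]), (1, [0, 0, 0, 0, 0]), (0, [0]), (1, [0]), (0, [])], 99595),
   ([0, 2], [(0, [0, 0, 0, 0, 0, 0, 0]), (1, [])], 255274),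
   ([1, 2], [(0, []), (4, []), (6, []), (3, [0]), (2, []), (5, [0]), (0, [0, 0]), (1, [0, 0, 0, 0, 0, 0]), (1, [0]), (1, [0, 0, 0]), (1, [0]), (1, [])], 3093),
   ([1, 2], [(0, []), (5, [0]), (2, [0]), (0, [0, 0, 0, 0]), (1, [0, 0, 0, 0, 0, 0]), (1, [0]), (0, [0]), (0, [])], 122433),
   ([1, 2], [(0, []), (4, []), (3, [0]), (4, [0]), (0, [0]), (1, [0, 0, 0, 0, 0, 0, 0, 0, 0]), (0, [])], 74616),
   ([1], [(0, []), (5, []), (2, [0]), (1, [0, 0, 0]), (0, [0]), (0, [0, 0, 0, 0, 0, 0, 0, 0]), (0, [])], 22122),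
   ([1, 2], [(0, []), (4, []), (3, [0]), (3, [0, 0, 0]), (0, [0]), (0, [0]), (0, [0, 0, 0, 0, 0, 0, 0, 0]), (1, [])], 221557)]

def cy6L0 : List (Nat × List Nat × Nat) :=
  [(37193, [17, 11, 20], 0)]

def cy6L1 : List (Nat × List Nat × Nat) :=
  [(35216, [18, 2, 17], 1)]

def cy6L2 : List (Nat × List Nat × Nat) :=
  [(3155, [14, 8, 19], 2)]

def cy6L3 : List (Nat × List Nat × Nat) :=
  [(1045, [12, 18, 3], 3)]

def cy6L4 : List (Nat × List Nat × Nat) :=
  [(46989, [17, 20, 3], 4)]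

def cy6L5 : List (Nat × List Nat × Nat) :=
  [(36454, [12, 4, 5], 5)]

def cy6L6 : List (Nat × List Nat × Nat) :=
  [(132836, [17, 10, 14], 1)]

def cy6L7 : List (Nat × List Nat × Nat) :=
  [(161679, [17, 6, 11, 20], 2)]

def cy6L8 : List (Nat × List Nat × Nat) :=
  [(9560, [12, 7, 14, 16], 4)]

def cy6L9 : List (Nat × List Nat × Nat) :=
  [(243196, [19, 20, 6, 19], 6)]

def cy6L10 : List (Nat × List Nat × Nat) :=
  [(3163, [1, 14, 15, 3], 5)]

def cy6L11 : List (Nat × List Nat × Nat) :=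
  [(57113, [16, 15, 20, 3], 7)]

def cy6L12 : List (Nat × List Nat × Nat) :=
  [(300324, [15, 6, 20, 14], 0)]

def cy6L13 : List (Nat × List Nat × Nat) :=
  [(183323, [12, 19, 13, 19], 4)]

def cy6L14 : List (Nat × List Nat × Nat) :=
  [(74328, [19, 2, 13, 20], 7)]

def cy6L15 : List (Nat × List Nat × Nat) :=
  [(44928, [12, 0, 1, 13], 8)]

def cy6L16 : List (Nat × List Nat × Nat) :=
  [(41855, [14, 20, 20, 9], 1)]

def cy6L17 : List (Nat × List Nat × Nat) :=
  [(115925, [19, 17, 9, 10], 9)]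

def cy6L18 : List (Nat × List Nat × Nat) :=
  [(34298, [18, 2, 17, 2], 10)]

def cy6L19 : List (Nat × List Nat × Nat) :=
  [(64766, [17, 4, 11, 20], 11)]

def cy6L20 : List (Nat × List Nat × Nat) :=
  [(151828, [17, 10, 14, 6], 3)]

def cy6L21 : List (Nat × List Nat × Nat) :=
  [(79640, [17, 4, 20, 3], 0)]

def cy6L22 : List (Nat × List Nat × Nat) :=
  [(92346, [19, 9, 13, 12], 12)]

def cy6L23 : List (Nat × List Nat × Nat) :=
  [(51297, [1, 14, 3, 16], 4)]

def cy6L24 : List (Nat × List Nat × Nat) :=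
  [(967, [16, 9, 11, 13], 3)]

def cy6L25 : List (Nat × List Nat × Nat) :=
  [(3883, [14, 8, 19, 10], 9)]

def cy6L26 : List (Nat × List Nat × Nat) :=
  [(4776, [14, 15, 8, 12], 4)]

def cy6L27 : List (Nat × List Nat × Nat) :=
  [(79626, [14, 10, 20, 14], 2)]

def cy6L28 : List (Nat × List Nat × Nat) :=
  [(1203, [14, 10, 14, 18], 9)]

def cy6L29 : List (Nat × List Nat × Nat) :=
  [(151795, [15, 19, 10, 18], 12)]

def cy6L30 : List (Nat × List Nat × Nat) :=
  [(291168, [16, 20, 9, 14], 1)]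

def cy6L31 : List (Nat × List Nat × Nat) :=
  [(8112, [17, 3, 17, 19], 2)]

def cy6L32 : List (Nat × List Nat × Nat) :=
  [(75095, [14, 13, 19, 5], 2)]

def cy6L33 : List (Nat × List Nat × Nat) :=
  [(43117, [12, 6, 10, 5], 5)]

def cy6L34 : List (Nat × List Nat × Nat) :=
  [(2518, [14, 8, 19, 2], 3)]

def cy6L35 : List (Nat × List Nat × Nat) :=
  [(206759, [19, 10, 18, 4], 0)]

def cy6L36 : List (Nat × List Nat × Nat) :=
  [(79743, [17, 4, 20, 5], 10)]

def cy6L37 : List (Nat × List Nat × Nat) :=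
  [(3159, [1, 14, 15, 7], 3)]

def cy6L38 : List (Nat × List Nat × Nat) :=
  [(9622, [17, 7, 11, 14], 3)]

def cy6L39 : List (Nat × List Nat × Nat) :=
  [(65650, [18, 3, 5, 4], 13)]

def cy6L40 : List (Nat × List Nat × Nat) :=
  [(152081, [19, 10, 12, 16], 7)]

def cy6L41 : List (Nat × List Nat × Nat) :=
  [(1363, [12, 18, 3, 6], 2)]

def cy6L42 : List (Nat × List Nat × Nat) :=
  [(1338, [12, 18, 3, 10], 3)]

def cy6L43 : List (Nat × List Nat × Nat) :=
  [(1337, [12, 18, 3, 4], 3)]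

def cy6L44 : List (Nat × List Nat × Nat) :=
  [(115542, [14, 19, 3, 15], 7)]

def cy6L45 : List (Nat × List Nat × Nat) :=
  [(43333, [15, 18, 7, 16], 11)]

def cy6L46 : List (Nat × List Nat × Nat) :=
  [(79593, [17, 20, 13, 19], 6)]

def cy6L47 : List (Nat × List Nat × Nat) :=
  [(115412, [12, 14, 4, 12], 7)]

def cy6L48 : List (Nat × List Nat × Nat) :=
  [(93140, [16, 13, 1, 20], 5)]

def cy6L49 : List (Nat × List Nat × Nat) :=
  [(79710, [15, 11, 12, 16], 7)]

def cy6L50 : List (Nat × List Nat × Nat) :=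
  [(3287, [17, 20, 12, 19], 3)]

def cy6L51 : List (Nat × List Nat × Nat) :=
  [(115798, [12, 3, 14, 11], 0)]

def cy6L52 : List (Nat × List Nat × Nat) :=
  [(35911, [12, 11, 15, 19], 12)]

def cy6L53 : List (Nat × List Nat × Nat) :=
  [(912, [16, 6, 7, 9], 3)]

def cy6L54 : List (Nat × List Nat × Nat) :=
  [(92435, [1, 18, 10, 19], 1)]

def cy6L55 : List (Nat × List Nat × Nat) :=
  [(57962, [17, 20, 4, 13], 3)]

def cy6L56 : List (Nat × List Nat × Nat) :=
  [(44727, [18, 19, 7, 15], 10)]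

def cy6L57 : List (Nat × List Nat × Nat) :=
  [(6778, [17, 20, 17, 18], 3)]

def cy6L58 : List (Nat × List Nat × Nat) :=
  [(243239, [18, 13, 17, 19], 10)]

def cy6L59 : List (Nat × List Nat × Nat) :=
  [(1372, [12, 18, 3, 2], 9)]

def cy6L60 : List (Nat × List Nat × Nat) :=
  [(40554, [14, 19, 18, 13], 2)]

def cy6L61 : List (Nat × List Nat × Nat) :=
  [(80405, [15, 11, 14, 18], 13)]

def cy6L62 : List (Nat × List Nat × Nat) :=
  [(65640, [18, 3, 5, 6], 10)]

def cy6L63 : List (Nat × List Nat × Nat) :=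
  [(44671, [15, 17, 4, 5], 12)]

def cy6L64 : List (Nat × List Nat × Nat) :=
  [(2537, [17, 3, 4, 14], 2)]

def cy6L65 : List (Nat × List Nat × Nat) :=
  [(3220, [12, 11, 13, 12], 3)]

def cy6L66 : List (Nat × List Nat × Nat) :=
  [(243578, [12, 17, 2, 16], 10)]

def cy6L67 : List (Nat × List Nat × Nat) :=
  [(152084, [19, 17, 6, 9], 1)]

def cy6L68 : List (Nat × List Nat × Nat) :=
  [(206738, [19, 10, 18, 10], 11)]

def cy6L69 : List (Nat × List Nat × Nat) :=
  [(3162, [1, 13, 12, 18], 3)]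

def cy6L70 : List (Nat × List Nat × Nat) :=
  [(35916, [1, 20, 17, 19], 8)]

def cy6L71 : List (Nat × List Nat × Nat) :=
  [(152078, [19, 17, 4, 9], 12)]

def cy6L72 : List (Nat × List Nat × Nat) :=
  [(54488, [14, 10, 19, 1], 0)]

def cy6L73 : List (Nat × List Nat × Nat) :=
  [(37387, [12, 1, 4, 13], 11)]

def cy6L74 : List (Nat × List Nat × Nat) :=
  [(1539, [16, 13, 20, 20], 1)]

def cy6L75 : List (Nat × List Nat × Nat) :=
  [(151727, [19, 17, 2, 9], 12)]

def cy6L76 : List (Nat × List Nat × Nat) :=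
  [(161726, [15, 10, 14, 7], 12)]

def cy6L77 : List (Nat × List Nat × Nat) :=
  [(49221, [16, 17, 5, 12], 0)]

def cy6L78 : List (Nat × List Nat × Nat) :=
  [(255508, [17, 2, 11, 20], 1)]

def cy6L79 : List (Nat × List Nat × Nat) :=
  [(141839, [17, 10, 14, 10], 0)]

def cy6L80 : List (Nat × List Nat × Nat) :=
  [(3275, [1, 13, 5, 12], 1)]

def cy6L81 : List (Nat × List Nat × Nat) :=
  [(79751, [16, 5, 15, 5], 1)]

def cy6L82 : List (Nat × List Nat × Nat) :=
  [(79603, [14, 16, 6, 5], 2)]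

def cy6L83 : List (Nat × List Nat × Nat) :=
  [(1573, [16, 6, 19, 18], 5)]

def cy6L84 : List (Nat × List Nat × Nat) :=
  [(107406, [19, 1, 4, 14], 12)]

def cy6L85 : List (Nat × List Nat × Nat) :=
  [(51711, [17, 20, 3, 2], 10)]

def cy6L86 : List (Nat × List Nat × Nat) :=
  [(195040, [15, 7, 13, 14], 1)]

def cy6L87 : List (Nat × List Nat × Nat) :=
  [(161705, [19, 10, 18, 2], 6)]

def cy6L88 : List (Nat × List Nat × Nat) :=
  [(43469, [18, 10, 5, 15], 1)]

def cy6L89 : List (Nat × List Nat × Nat) :=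
  [(69309, [15, 8, 19, 13], 10)]

def cy6L90 : List (Nat × List Nat × Nat) :=
  [(151496, [18, 10, 19, 17], 12)]

def cy6L91 : List (Nat × List Nat × Nat) :=
  [(172272, [12, 4, 16, 5], 8)]

def cy6L92 : List (Nat × List Nat × Nat) :=
  [(43456, [17, 20, 4, 5], 11)]

def cy6L93 : List (Nat × List Nat × Nat) :=
  [(132782, [16, 5, 15, 13], 11)]

def cy6L94 : List (Nat × List Nat × Nat) :=
  [(79601, [17, 20, 20, 15], 4)]

def cy6L95 : List (Nat × List Nat × Nat) :=
  [(2643, [14, 8, 19, 11], 3)]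

def cy6L96 : List (Nat × List Nat × Nat) :=
  [(142017, [17, 19, 20, 1], 2)]

def cy6L97 : List (Nat × List Nat × Nat) :=
  [(51195, [12, 7, 6, 5], 0)]

def cy6L98 : List (Nat × List Nat × Nat) :=
  [(13313, [18, 13, 19, 17], 3)]

def cy6L99 : List (Nat × List Nat × Nat) :=
  [(69154, [1, 14, 8, 9], 0)]

def cy6L100 : List (Nat × List Nat × Nat) :=
  [(54549, [18, 11, 13, 13], 10)]

def cy6L101 : List (Nat × List Nat × Nat) :=
  [(172207, [19, 10, 18, 8], 8)]

def cy6L102 : List (Nat × List Nat × Nat) :=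
  [(36647, [18, 11, 18, 9], 8)]

def cy6L103 : List (Nat × List Nat × Nat) :=
  [(33974, [1, 14, 3, 19], 12)]

def cy6L104 : List (Nat × List Nat × Nat) :=
  [(183384, [15, 7, 12, 20], 12)]

def cy6L105 : List (Nat × List Nat × Nat) :=
  [(3819, [14, 8, 19, 6], 3)]

def cy6L106 : List (Nat × List Nat × Nat) :=
  [(291121, [16, 7, 16, 12], 1)]

def cy6L107 : List (Nat × List Nat × Nat) :=
  [(3881, [14, 8, 19, 4], 9)]

def cy6L108 : List (Nat × List Nat × Nat) :=
  [(100488, [15, 4, 12, 18], 0)]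

def cy6L109 : List (Nat × List Nat × Nat) :=
  [(13302, [1, 0, 14, 16, 13], 0)]

def cy6L110 : List (Nat × List Nat × Nat) :=
  [(57112, [15, 13, 12, 14, 7], 12)]

def cy6L111 : List (Nat × List Nat × Nat) :=
  [(69115, [18, 4, 7, 10, 13], 10)]

def cy6L112 : List (Nat × List Nat × Nat) :=
  [(305006, [12, 1, 6, 7, 19], 10)]

def cy6L113 : List (Nat × List Nat × Nat) :=
  [(33678, [17, 10, 20, 12, 7], 11)]

def cy6L114 : List (Nat × List Nat × Nat) :=
  [(64960, [16, 20, 15, 6, 16], 11)]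

def cy6L115 : List (Nat × List Nat × Nat) :=
  [(32161, [14, 13, 16, 1, 17], 10)]

def cy6L116 : List (Nat × List Nat × Nat) :=
  [(41858, [17, 11, 20, 1, 3], 3)]

def cy6L117 : List (Nat × List Nat × Nat) :=
  [(74535, [12, 15, 0, 3, 17], 11)]

def cy6L118 : List (Nat × List Nat × Nat) :=
  [(35880, [1, 15, 11, 12, 15], 12)]

def cy6L119 : List (Nat × List Nat × Nat) :=
  [(265705, [17, 2, 20, 15, 9], 2)]

def cy6L120 : List (Nat × List Nat × Nat) :=
  [(69635, [14, 10, 20, 14, 4], 12)]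

def cy6L121 : List (Nat × List Nat × Nat) :=
  [(1956, [16, 6, 19, 18, 8], 2)]

def cy6L122 : List (Nat × List Nat × Nat) :=
  [(219041, [18, 5, 15, 18, 20], 0)]

def cy6L123 : List (Nat × List Nat × Nat) :=
  [(172256, [14, 7, 20, 11, 16], 11)]

def cy6L124 : List (Nat × List Nat × Nat) :=
  [(1019, [12, 18, 3, 4, 10], 3)]

def cy6L125 : List (Nat × List Nat × Nat) :=
  [(43384, [14, 19, 18, 8, 13], 12)]

def cy6L126 : List (Nat × List Nat × Nat) :=
  [(74615, [15, 11, 14, 18, 11], 10)]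

def cy6L127 : List (Nat × List Nat × Nat) :=
  [(86789, [14, 13, 19, 5, 10], 11)]

def cy6L128 : List (Nat × List Nat × Nat) :=
  [(9568, [12, 1, 7, 14, 16], 0)]

def cy6L129 : List (Nat × List Nat × Nat) :=
  [(302719, [18, 14, 8, 9, 14], 4)]

def cy6L130 : List (Nat × List Nat × Nat) :=
  [(1613, [18, 1, 16, 7, 18], 9)]

def cy6L131 : List (Nat × List Nat × Nat) :=
  [(48599, [16, 20, 17, 2, 19], 7)]

def cy6L132 : List (Nat × List Nat × Nat) :=
  [(161722, [17, 10, 14, 4, 10], 3)]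

def cy6L133 : List (Nat × List Nat × Nat) :=
  [(123570, [15, 2, 9, 16, 15], 12)]

def cy6L134 : List (Nat × List Nat × Nat) :=
  [(74392, [12, 9, 17, 1, 17], 12)]

def cy6L135 : List (Nat × List Nat × Nat) :=
  [(265984, [12, 17, 2, 16, 10], 5)]

def cy6L136 : List (Nat × List Nat × Nat) :=
  [(195057, [14, 4, 8, 7, 19], 12)]

def cy6L137 : List (Nat × List Nat × Nat) :=
  [(132850, [18, 2, 14, 5, 17], 12)]

def cy6L138 : List (Nat × List Nat × Nat) :=
  [(265744, [12, 17, 2, 16, 4], 4)]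

def cy6L139 : List (Nat × List Nat × Nat) :=
  [(11327, [15, 11, 16, 11, 20], 1)]

def cy6L140 : List (Nat × List Nat × Nat) :=
  [(79740, [15, 3, 5, 18, 14], 10)]

def cy6L141 : List (Nat × List Nat × Nat) :=
  [(8085, [17, 6, 13, 14, 11], 2)]

def cy6L142 : List (Nat × List Nat × Nat) :=
  [(231497, [15, 4, 16, 2, 14], 2)]

def cy6L143 : List (Nat × List Nat × Nat) :=
  [(64844, [16, 1, 17, 8, 17], 7)]

def cy6L144 : List (Nat × List Nat × Nat) :=
  [(60531, [15, 17, 20, 2, 15], 12)]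

def cy6L145 : List (Nat × List Nat × Nat) :=
  [(132717, [1, 12, 2, 15, 18], 2)]

def cy6L146 : List (Nat × List Nat × Nat) :=
  [(161423, [12, 20, 2, 9, 18], 5)]

def cy6L147 : List (Nat × List Nat × Nat) :=
  [(2080, [12, 18, 17, 5, 14], 9)]

def cy6L148 : List (Nat × List Nat × Nat) :=
  [(69185, [15, 5, 9, 16, 13], 1)]

def cy6L149 : List (Nat × List Nat × Nat) :=
  [(64845, [15, 11, 18, 14, 9], 11)]

def cy6L150 : List (Nat × List Nat × Nat) :=
  [(9577, [17, 3, 17, 19, 2], 1)]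

def cy6L151 : List (Nat × List Nat × Nat) :=
  [(276237, [1, 17, 18, 8, 19], 12)]

def cy6L152 : List (Nat × List Nat × Nat) :=
  [(75186, [12, 1, 19, 5, 16], 2)]

def cy6L153 : List (Nat × List Nat × Nat) :=
  [(64631, [15, 1, 12, 13, 18], 5)]

def cy6L154 : List (Nat × List Nat × Nat) :=
  [(218749, [12, 20, 14, 20, 19], 2)]

def cy6L155 : List (Nat × List Nat × Nat) :=
  [(51104, [17, 20, 5, 9, 18], 12)]

def cy6L156 : List (Nat × List Nat × Nat) :=
  [(40333, [12, 2, 6, 10, 5], 0)]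

def cy6L157 : List (Nat × List Nat × Nat) :=
  [(86815, [12, 7, 16, 13, 20], 11)]

def cy6L158 : List (Nat × List Nat × Nat) :=
  [(92465, [19, 2, 15, 2, 18], 12)]

def cy6L159 : List (Nat × List Nat × Nat) :=
  [(92421, [12, 17, 4, 19, 17], 10)]

def cy6L160 : List (Nat × List Nat × Nat) :=
  [(172558, [15, 19, 10, 18, 4], 6)]

def cy6L161 : List (Nat × List Nat × Nat) :=
  [(43398, [17, 4, 14, 2, 15], 4)]

def cy6L162 : List (Nat × List Nat × Nat) :=
  [(64764, [15, 3, 18, 8, 12], 4)]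

def cy6L163 : List (Nat × List Nat × Nat) :=
  [(3150, [18, 4, 13, 16, 3], 3)]

def cy6L164 : List (Nat × List Nat × Nat) :=
  [(64790, [12, 13, 20, 11, 16], 1)]

def cy6L165 : List (Nat × List Nat × Nat) :=
  [(1572, [14, 3, 2, 15, 7], 3)]

def cy6L166 : List (Nat × List Nat × Nat) :=
  [(9633, [17, 3, 17, 19, 10], 4)]

def cy6L167 : List (Nat × List Nat × Nat) :=
  [(206873, [18, 14, 19, 13, 18], 0)]

def cy6L168 : List (Nat × List Nat × Nat) :=
  [(64841, [14, 6, 20, 12, 3], 5)]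

def cy6L169 : List (Nat × List Nat × Nat) :=
  [(132783, [14, 19, 3, 15, 4], 5)]

def cy6L170 : List (Nat × List Nat × Nat) :=
  [(255257, [18, 2, 4, 15, 16], 5)]

def cy6L171 : List (Nat × List Nat × Nat) :=
  [(92423, [14, 8, 15, 9, 16], 2)]

def cy6L172 : List (Nat × List Nat × Nat) :=
  [(57057, [12, 7, 14, 6, 19], 12)]

def cy6L173 : List (Nat × List Nat × Nat) :=
  [(132809, [14, 1, 16, 12, 11], 0)]

def cy6L174 : List (Nat × List Nat × Nat) :=
  [(219194, [12, 17, 2, 16, 8], 6)]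

def cy6L175 : List (Nat × List Nat × Nat) :=
  [(151772, [16, 5, 15, 13, 10], 10)]

def cy6L176 : List (Nat × List Nat × Nat) :=
  [(92349, [15, 18, 17, 11, 10], 11)]

def cy6L177 : List (Nat × List Nat × Nat) :=
  [(2596, [16, 9, 15, 20, 9], 5)]

def cy6L178 : List (Nat × List Nat × Nat) :=
  [(40625, [16, 18, 20, 18, 7], 1)]

def cy6L179 : List (Nat × List Nat × Nat) :=
  [(79637, [14, 16, 13, 13, 13], 10)]

def cy6L180 : List (Nat × List Nat × Nat) :=
  [(172231, [15, 1, 20, 1, 15], 5)]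

def cy6L181 : List (Nat × List Nat × Nat) :=
  [(79782, [19, 20, 12, 7, 18], 11)]

def cy6L182 : List (Nat × List Nat × Nat) :=
  [(99578, [16, 20, 1, 14, 6], 10)]

def cy6L183 : List (Nat × List Nat × Nat) :=
  [(142047, [1, 17, 9, 14, 3], 1)]

def cy6L184 : List (Nat × List Nat × Nat) :=
  [(161759, [12, 4, 16, 2, 13], 5)]

def cy6L185 : List (Nat × List Nat × Nat) :=
  [(183356, [19, 10, 18, 6, 10], 12)]

def cy6L186 : List (Nat × List Nat × Nat) :=
  [(283723, [17, 20, 9, 8, 18], 12)]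

def cy6L187 : List (Nat × List Nat × Nat) :=
  [(57340, [12, 20, 12, 20, 18], 11)]

def cy6L188 : List (Nat × List Nat × Nat) :=
  [(75306, [16, 1, 18, 0, 17], 12)]

def cy6L189 : List (Nat × List Nat × Nat) :=
  [(1053, [16, 3, 9, 11, 13], 4)]

def cy6L190 : List (Nat × List Nat × Nat) :=
  [(151513, [12, 4, 16, 5, 11], 5)]

def cy6L191 : List (Nat × List Nat × Nat) :=
  [(1174, [16, 4, 6, 7, 9], 8)]

def cy6L192 : List (Nat × List Nat × Nat) :=
  [(115630, [16, 4, 19, 18, 14], 2)]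

def cy6L193 : List (Nat × List Nat × Nat) :=
  [(4759, [18, 14, 3, 9, 18], 3)]

def cy6L194 : List (Nat × List Nat × Nat) :=
  [(49233, [16, 3, 16, 1, 10], 8)]

def cy6L195 : List (Nat × List Nat × Nat) :=
  [(141659, [1, 0, 14, 2, 15], 2)]

def cy6L196 : List (Nat × List Nat × Nat) :=
  [(231508, [12, 7, 18, 20, 7], 12)]

def cy6L197 : List (Nat × List Nat × Nat) :=
  [(123984, [1, 19, 20, 1, 15], 11)]

def cy6L198 : List (Nat × List Nat × Nat) :=
  [(300440, [12, 17, 10, 13, 17], 6)]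

def cy6L199 : List (Nat × List Nat × Nat) :=
  [(302642, [19, 0, 20, 17, 6], 9)]

def cy6L200 : List (Nat × List Nat × Nat) :=
  [(4757, [16, 2, 5, 20, 11], 3)]

def cy6L201 : List (Nat × List Nat × Nat) :=
  [(99772, [18, 7, 13, 12, 18], 12)]

def cy6L202 : List (Nat × List Nat × Nat) :=
  [(65670, [18, 14, 20, 7, 13], 11)]

def cy6L203 : List (Nat × List Nat × Nat) :=
  [(172638, [14, 0, 11, 18, 20], 12)]

def cy6L204 : List (Nat × List Nat × Nat) :=
  [(243380, [14, 3, 10, 20, 19], 0)]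

def cy6L205 : List (Nat × List Nat × Nat) :=
  [(141797, [14, 4, 12, 16, 2], 2)]

def cy6L206 : List (Nat × List Nat × Nat) :=
  [(99747, [15, 11, 17, 19, 13], 7)]

def cy6L207 : List (Nat × List Nat × Nat) :=
  [(107415, [12, 20, 14, 13, 17], 7)]

def cy6L208 : List (Nat × List Nat × Nat) :=
  [(132693, [12, 20, 1, 17, 20], 6)]

def cy6L209 : List (Nat × List Nat × Nat) :=
  [(295808, [19, 20, 17, 18, 7], 11)]

def cy6L210 : List (Nat × List Nat × Nat) :=
  [(61179, [14, 18, 15, 10, 12], 11)]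

def cy6L211 : List (Nat × List Nat × Nat) :=
  [(5689, [14, 1, 7, 16, 13], 3)]

def cy6L212 : List (Nat × List Nat × Nat) :=
  [(142043, [12, 15, 2, 16, 17], 1)]

def cy6L213 : List (Nat × List Nat × Nat) :=
  [(32351, [17, 2, 4, 11, 20], 7)]

def cy6L214 : List (Nat × List Nat × Nat) :=
  [(32350, [16, 19, 2, 12, 20], 10)]

def cy6L215 : List (Nat × List Nat × Nat) :=
  [(4716, [12, 9, 15, 18, 6], 9)]

def cy6L216 : List (Nat × List Nat × Nat) :=
  [(3892, [1, 13, 12, 18, 6], 3)]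

def cy6L217 : List (Nat × List Nat × Nat) :=
  [(265913, [12, 2, 12, 11, 17], 1)]

def cy6L218 : List (Nat × List Nat × Nat) :=
  [(123472, [19, 1, 4, 14, 6], 0)]

def cy6L219 : List (Nat × List Nat × Nat) :=
  [(107042, [1, 18, 10, 19, 2], 10)]

def cy6L220 : List (Nat × List Nat × Nat) :=
  [(276316, [18, 5, 17, 3, 5], 11)]

def cy6L221 : List (Nat × List Nat × Nat) :=
  [(161712, [15, 7, 12, 20, 10], 2)]

def cy6L222 : List (Nat × List Nat × Nat) :=
  [(39273, [17, 20, 3, 13, 15], 1)]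

def cy6L223 : List (Nat × List Nat × Nat) :=
  [(195039, [17, 2, 5, 10, 12], 1)]

def cy6L224 : List (Nat × List Nat × Nat) :=
  [(3815, [12, 19, 20, 11, 20], 0)]

def cy6L225 : List (Nat × List Nat × Nat) :=
  [(276236, [16, 7, 16, 12, 10], 0)]

def cy6L226 : List (Nat × List Nat × Nat) :=
  [(74416, [1, 17, 5, 7, 14], 11)]

def cy6L227 : List (Nat × List Nat × Nat) :=
  [(1204, [12, 18, 3, 2, 10], 9)]

def cy6L228 : List (Nat × List Nat × Nat) :=
  [(46944, [19, 17, 2, 18, 1], 12)]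

def cy6L229 : List (Nat × List Nat × Nat) :=
  [(9621, [15, 18, 6, 7, 12], 3)]

def cy6L230 : List (Nat × List Nat × Nat) :=
  [(1198, [14, 3, 15, 7, 12], 3)]

def cy6L231 : List (Nat × List Nat × Nat) :=
  [(1212, [16, 2, 6, 7, 9], 0)]

def cy6L232 : List (Nat × List Nat × Nat) :=
  [(243383, [17, 20, 6, 17, 3], 11)]

def cy6L233 : List (Nat × List Nat × Nat) :=
  [(107388, [19, 10, 19, 2, 14], 12)]

def cy6L234 : List (Nat × List Nat × Nat) :=
  [(276299, [16, 7, 16, 12, 4], 5)]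

def cy6L235 : List (Nat × List Nat × Nat) :=
  [(34364, [15, 3, 13, 18, 13], 12)]

def cy6L236 : List (Nat × List Nat × Nat) :=
  [(161787, [17, 19, 20, 5, 7], 12)]

def cy6L237 : List (Nat × List Nat × Nat) :=
  [(141871, [16, 4, 12, 0, 16], 2)]

def cy6L238 : List (Nat × List Nat × Nat) :=
  [(86433, [16, 1, 2, 18, 13], 4)]

def cy6L239 : List (Nat × List Nat × Nat) :=
  [(1197, [16, 6, 19, 18, 10], 9)]

def cy6L240 : List (Nat × List Nat × Nat) :=
  [(142025, [18, 6, 7, 19, 13], 7)]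

def cy6L241 : List (Nat × List Nat × Nat) :=
  [(123903, [18, 15, 2, 10, 16], 11)]

def cy6L242 : List (Nat × List Nat × Nat) :=
  [(3161, [17, 3, 4, 14, 4], 5)]

def cy6L243 : List (Nat × List Nat × Nat) :=
  [(48564, [15, 18, 14, 1, 20], 6)]

def cy6L244 : List (Nat × List Nat × Nat) :=
  [(243573, [14, 4, 3, 11, 20], 0)]

def cy6L245 : List (Nat × List Nat × Nat) :=
  [(206400, [15, 5, 4, 12, 16], 12)]

def cy6L246 : List (Nat × List Nat × Nat) :=
  [(107100, [15, 3, 18, 14, 1], 7)]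

def cy6L247 : List (Nat × List Nat × Nat) :=
  [(53769, [12, 7, 6, 5, 11], 6)]

def cy6L248 : List (Nat × List Nat × Nat) :=
  [(33373, [1, 14, 3, 19, 10], 7)]

def cy6L249 : List (Nat × List Nat × Nat) :=
  [(255627, [18, 14, 20, 5, 18], 6)]

def cy6L250 : List (Nat × List Nat × Nat) :=
  [(265990, [14, 2, 19, 9, 13], 2)]

def cy6L251 : List (Nat × List Nat × Nat) :=
  [(195030, [15, 20, 3, 18, 20], 2)]

def cy6L252 : List (Nat × List Nat × Nat) :=
  [(8109, [14, 4, 3, 6, 16], 3)]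

def cy6L253 : List (Nat × List Nat × Nat) :=
  [(6805, [12, 17, 20, 4, 15], 3)]

def cy6L254 : List (Nat × List Nat × Nat) :=
  [(219209, [14, 20, 12, 16, 18], 12)]

def cy6L255 : List (Nat × List Nat × Nat) :=
  [(34815, [1, 0, 13, 15, 7], 4)]

def cy6L256 : List (Nat × List Nat × Nat) :=
  [(3874, [12, 11, 13, 12, 2], 8)]

def cy6L257 : List (Nat × List Nat × Nat) :=
  [(151784, [14, 7, 19, 1, 16], 1)]

def cy6L258 : List (Nat × List Nat × Nat) :=
  [(92431, [12, 0, 16, 3, 16], 0)]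

def cy6L259 : List (Nat × List Nat × Nat) :=
  [(1185, [16, 5, 13, 20, 20], 3)]

def cy6L260 : List (Nat × List Nat × Nat) :=
  [(11382, [17, 7, 11, 14, 4], 3)]

def cy6L261 : List (Nat × List Nat × Nat) :=
  [(255245, [14, 15, 3, 20, 17], 7)]

def cy6L262 : List (Nat × List Nat × Nat) :=
  [(92401, [15, 19, 17, 6, 17], 12)]

def cy6L263 : List (Nat × List Nat × Nat) :=
  [(9682, [16, 4, 20, 1, 14], 3)]

def cy6L264 : List (Nat × List Nat × Nat) :=
  [(3893, [1, 14, 15, 3, 6], 9)]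

def cy6L265 : List (Nat × List Nat × Nat) :=
  [(291227, [15, 1, 20, 8, 15], 10)]

def cy6L266 : List (Nat × List Nat × Nat) :=
  [(5756, [15, 5, 20, 11, 14], 3)]

def cy6B : List Nat := [37193, 35216, 3155, 1045, 46989, 36454, 132836, 161679, 9560, 243196, 3163, 57113, 300324, 183323, 74328, 44928, 41855, 115925, 34298, 64766, 151828, 79640, 92346, 51297, 967, 3883, 4776, 79626, 1203, 151795, 291168, 8112, 75095, 43117, 2518, 206759, 79743, 3159, 9622, 65650, 152081, 1363, 1338, 1337, 115542, 43333, 79593, 115412, 93140, 79710, 3287, 115798, 35911, 912, 92435, 57962, 44727, 6778, 243239, 1372, 40554, 80405, 65640, 44671, 2537, 3220, 243578, 152084, 206738, 3162, 35916, 152078, 54488, 37387, 1539, 151727, 161726, 49221, 255508, 141839, 3275, 79751, 79603, 1573, 107406, 51711, 195040, 161705, 43469, 69309, 151496, 172272, 43456, 132782, 79601, 2643, 142017, 51195, 13313, 69154, 54549, 172207, 36647, 33974, 183384, 3819, 291121, 3881,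 100488, 13302, 57112, 69115, 305006, 33678, 64960, 32161, 41858, 74535, 35880, 265705, 69635, 1956, 219041, 172256, 1019, 43384, 74615, 86789, 9568, 302719, 1613, 48599, 161722, 123570, 74392, 265984, 195057, 132850, 265744, 11327, 79740, 8085, 231497, 64844, 60531, 132717, 161423, 2080, 69185, 64845, 9577, 276237, 75186, 64631, 218749, 51104, 40333, 86815, 92465, 92421, 172558, 43398, 64764, 3150, 64790, 1572, 9633, 206873, 64841, 132783, 255257, 92423, 57057, 132809, 219194, 151772, 92349, 2596, 40625, 79637, 172231, 79782, 99578, 142047, 161759, 183356, 283723, 57340, 75306, 1053, 151513, 1174, 115630, 4759, 49233, 141659, 231508, 123984, 300440, 302642, 4757, 99772, 65670, 172638, 243380, 141797, 99747, 107415, 132693, 295808, 61179, 5689, 142043, 32351, 32350, 4716, 3892, 265913, 123472, 107042, 276316, 161712, 39273, 195039, 3815, 276236, 74416, 1204, 46944, 9621, 1198, 1212, 243383, 107388, 276299, 34364, 161787, 141871, 86433,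 1197, 142025, 123903, 3161, 48564, 243573, 206400, 107100, 53769, 33373, 255627, 265990, 195030, 8109, 6805, 219209, 34815, 3874, 151784, 92431, 1185, 11382, 255245, 92401, 9682, 3893, 291227, 5756, 69745, 183375, 133132, 61065, 92345]

def cy7B : List Nat := [11547]

def cy8B : List Nat := [45]

def cy9B : List Nat := [4631]


end Cfsg.Agent.Comp.Fi24.O
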