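import Cfsg.Agent.Comp.Fi24.OutRD

set_option autoImplicit false
set_option maxRecDepth 100000

namespace Cfsg.Agent.Comp.Fi24.O
open Cfsg.Agent.Comp

theorem eqs2_0_11 : EqsP 306936 11 12 T2 eqs2_0L :=
  eqsP_of ok2 (by norm_num) (by norm_num) (by norm_num) (show eqsP (nat_lit 306936) (nat_lit 19) (nat_lit 11) (nat_lit 1) T2 eqs2_0L = true by decide +kernel)

theorem eqs2_0_12 : EqsP 306936 12 13 T2 eqs2_0L :=
  eqsP_of ok2 (by norm_num) (by norm_num) (by norm_num) (show eqsP (nat_lit 306936) (nat_lit 19) (nat_lit 12) (nat_lit 1) T2 eqs2_0L = true by decide +kernel)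

theorem eqs2_0_13 : EqsP 306936 13 14 T2 eqs2_0L :=
  eqsP_of ok2 (by norm_num) (by norm_num) (by norm_num) (show eqsP (nat_lit 306936) (nat_lit 19) (nat_lit 13) (nat_lit 1) T2 eqs2_0L = true by decide +kernel)

theorem eqs2_0_14 : EqsP 306936 14 15 T2 eqs2_0L :=
  eqsP_of ok2 (by norm_num) (by norm_num) (by norm_num) (show eqsP (nat_lit 306936) (nat_lit 19) (nat_lit 14) (nat_lit 1) T2 eqs2_0L = true by decide +kernel)

theorem eqs2_0_15 : EqsP 306936 15 16 T2 eqs2_0L :=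
  eqsP_of ok2 (by norm_num) (by norm_num) (by norm_num) (show eqsP (nat_lit 306936) (nat_lit 19) (nat_lit 15) (nat_lit 1) T2 eqs2_0L = true by decide +kernel)

theorem eqs2_0_16 : EqsP 306936 16 17 T2 eqs2_0L :=
  eqsP_of ok2 (by norm_num) (by norm_num) (by norm_num) (show eqsP (nat_lit 306936) (nat_lit 19) (nat_lit 16) (nat_lit 1) T2 eqs2_0L = true by decide +kernel)

theorem eqs2_0_17 : EqsP 306936 17 18 T2 eqs2_0L :=
  eqsP_of ok2 (by norm_num) (by norm_num) (by norm_num) (show eqsP (nat_lit 306936) (nat_lit 19) (nat_lit 17) (nat_lit 1) T2 eqs2_0L = true by decide +kernel)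

theorem eqs2_0_18 : EqsP 306936 18 19 T2 eqs2_0L :=
  eqsP_of ok2 (by norm_num) (by norm_num) (by norm_num) (show eqsP (nat_lit 306936) (nat_lit 19) (nat_lit 18) (nat_lit 1) T2 eqs2_0L = true by decide +kernel)

theorem eqs3_0_0 : EqsP 306936 0 10 T2 eqs3_0L :=
  eqsP_of ok2 (by norm_num) (by norm_num) (by norm_num) (show eqsP (nat_lit 306936) (nat_lit 19) (nat_lit 0) (nat_lit 10) T2 eqs3_0L = true by decide +kernel)

theorem eqs3_0_10 : EqsP 306936 10 19 T2 eqs3_0L :=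
  eqsP_of ok2 (by norm_num) (by norm_num) (by norm_num) (show eqsP (nat_lit 306936) (nat_lit 19) (nat_lit 10) (nat_lit 9) T2 eqs3_0L = true by decide +kernel)

theorem eqs3_1_0 : EqsP 306936 0 10 T2 eqs3_1L :=
  eqsP_of ok2 (by norm_num) (by norm_num) (by norm_num) (show eqsP (nat_lit 306936) (nat_lit 19) (nat_lit 0) (nat_lit 10) T2 eqs3_1L = true by decide +kernel)

theorem eqs3_1_10 : EqsP 306936 10 19 T2 eqs3_1L :=
  eqsP_of ok2 (by norm_num) (by norm_num) (by norm_num) (show eqsP (nat_lit 306936) (nat_lit 19) (nat_lit 10) (nat_lit 9) T2 eqs3_1L = true by decide +kernel)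

theorem eqs3_2_0 : EqsP 306936 0 2 T2 eqs3_2L :=
  eqsP_of ok2 (by norm_num) (by norm_num) (by norm_num) (show eqsP (nat_lit 306936) (nat_lit 19) (nat_lit 0) (nat_lit 2) T2 eqs3_2L = true by decide +kernel)

theorem eqs3_2_2 : EqsP 306936 2 4 T2 eqs3_2L :=
  eqsP_of ok2 (by norm_num) (by norm_num) (by norm_num) (show eqsP (nat_lit 306936) (nat_lit 19) (nat_lit 2) (nat_lit 2) T2 eqs3_2L = true by decide +kernel)

theorem eqs3_2_4 : EqsP 306936 4 6 T2 eqs3_2L :=
  eqsP_of ok2 (by norm_num) (by norm_num) (by norm_num) (show eqsP (nat_lit 306936) (nat_lit 19) (nat_lit 4) (nat_lit 2) T2 eqs3_2L = true by decide +kernel)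

theorem eqs3_2_6 : EqsP 306936 6 8 T2 eqs3_2L :=
  eqsP_of ok2 (by norm_num) (by norm_num) (by norm_num) (show eqsP (nat_lit 306936) (nat_lit 19) (nat_lit 6) (nat_lit 2) T2 eqs3_2L = true by decide +kernel)


end Cfsg.Agent.Comp.Fi24.O
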