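import Cfsg.Agent.Comp.Fi24.OutRD

set_option autoImplicit false
set_option maxRecDepth 100000

namespace Cfsg.Agent.Comp.Fi24.O
open Cfsg.Agent.Comp

theorem eqs3_2_8 : EqsP 306936 8 10 T2 eqs3_2L :=
  eqsP_of ok2 (by norm_num) (by norm_num) (by norm_num) (show eqsP (nat_lit 306936) (nat_lit 19) (nat_lit 8) (nat_lit 2) T2 eqs3_2L = true by decide +kernel)

theorem eqs3_2_10 : EqsP 306936 10 12 T2 eqs3_2L :=
  eqsP_of ok2 (by norm_num) (by norm_num) (by norm_num) (show eqsP (nat_lit 306936) (nat_lit 19) (nat_lit 10) (nat_lit 2) T2 eqs3_2L = true by decide +kernel)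

theorem eqs3_2_12 : EqsP 306936 12 14 T2 eqs3_2L :=
  eqsP_of ok2 (by norm_num) (by norm_num) (by norm_num) (show eqsP (nat_lit 306936) (nat_lit 19) (nat_lit 12) (nat_lit 2) T2 eqs3_2L = true by decide +kernel)

theorem eqs3_2_14 : EqsP 306936 14 16 T2 eqs3_2L :=
  eqsP_of ok2 (by norm_num) (by norm_num) (by norm_num) (show eqsP (nat_lit 306936) (nat_lit 19) (nat_lit 14) (nat_lit 2) T2 eqs3_2L = true by decide +kernel)

theorem eqs3_2_16 : EqsP 306936 16 18 T2 eqs3_2L :=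
  eqsP_of ok2 (by norm_num) (by norm_num) (by norm_num) (show eqsP (nat_lit 306936) (nat_lit 19) (nat_lit 16) (nat_lit 2) T2 eqs3_2L = true by decide +kernel)

theorem eqs3_2_18 : EqsP 306936 18 19 T2 eqs3_2L :=
  eqsP_of ok2 (by norm_num) (by norm_num) (by norm_num) (show eqsP (nat_lit 306936) (nat_lit 19) (nat_lit 18) (nat_lit 1) T2 eqs3_2L = true by decide +kernel)

theorem eqs3_3_0 : EqsP 306936 0 3 T2 eqs3_3L :=
  eqsP_of ok2 (by norm_num) (by norm_num) (by norm_num) (show eqsP (nat_lit 306936) (nat_lit 19) (nat_lit 0) (nat_lit 3) T2 eqs3_3L = true by decide +kernel)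

theorem eqs3_3_3 : EqsP 306936 3 6 T2 eqs3_3L :=
  eqsP_of ok2 (by norm_num) (by norm_num) (by norm_num) (show eqsP (nat_lit 306936) (nat_lit 19) (nat_lit 3) (nat_lit 3) T2 eqs3_3L = true by decide +kernel)

theorem eqs3_3_6 : EqsP 306936 6 9 T2 eqs3_3L :=
  eqsP_of ok2 (by norm_num) (by norm_num) (by norm_num) (show eqsP (nat_lit 306936) (nat_lit 19) (nat_lit 6) (nat_lit 3) T2 eqs3_3L = true by decide +kernel)

theorem eqs3_3_9 : EqsP 306936 9 12 T2 eqs3_3L :=
  eqsP_of ok2 (by norm_num) (by norm_num) (by norm_num) (show eqsP (nat_lit 306936) (nat_lit 19) (nat_lit 9) (nat_lit 3) T2 eqs3_3L = true by decide +kernel)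

theorem eqs3_3_12 : EqsP 306936 12 15 T2 eqs3_3L :=
  eqsP_of ok2 (by norm_num) (by norm_num) (by norm_num) (show eqsP (nat_lit 306936) (nat_lit 19) (nat_lit 12) (nat_lit 3) T2 eqs3_3L = true by decide +kernel)

theorem eqs3_3_15 : EqsP 306936 15 18 T2 eqs3_3L :=
  eqsP_of ok2 (by norm_num) (by norm_num) (by norm_num) (show eqsP (nat_lit 306936) (nat_lit 19) (nat_lit 15) (nat_lit 3) T2 eqs3_3L = true by decide +kernel)

theorem eqs3_3_18 : EqsP 306936 18 19 T2 eqs3_3L :=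
  eqsP_of ok2 (by norm_num) (by norm_num) (by norm_num) (show eqsP (nat_lit 306936) (nat_lit 19) (nat_lit 18) (nat_lit 1) T2 eqs3_3L = true by decide +kernel)


end Cfsg.Agent.Comp.Fi24.O
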