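import Cfsg.Agent.Comp.Fi24.OutR0
import Cfsg.Agent.Comp.Fi24.OutR1
import Cfsg.Agent.Comp.Fi24.OutR2

set_option autoImplicit false
set_option maxRecDepth 100000

namespace Cfsg.Agent.Comp.Fi24.O
open Cfsg.Agent.Comp

theorem eqs2_0 : ∀ e ∈ eqs2_0L, ev (sig T2) e.1 = ev (sig T2) e.2 := EqsP.eqs (EqsP.join (EqsP.join (EqsP.join (EqsP.join (EqsP.join (EqsP.join (EqsP.join (EqsP.join (EqsP.join (EqsP.join (EqsP.join (EqsP.join (EqsP.join (EqsP.join (EqsP.join (EqsP.join (EqsP.join (EqsP.join eqs2_0_0 eqs2_0_1) eqs2_0_2) eqs2_0_3) eqs2_0_4) eqs2_0_5) eqs2_0_6) eqs2_0_7) eqs2_0_8) eqs2_0_9) eqs2_0_10) eqs2_0_11) eqs2_0_12) eqs2_0_13) eqs2_0_14) eqs2_0_15) eqs2_0_16) eqs2_0_17) eqs2_0_18) ok2 (by norm_num)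

theorem eqs2 : ∀ e ∈ E2, ev (sig T2) e.1 = ev (sig T2) e.2 :=
  (show eqs2_0L = E2 by decide +kernel) ▸ eqs2_0

theorem eqs3_0 : ∀ e ∈ eqs3_0L, ev (sig T2) e.1 = ev (sig T2) e.2 := EqsP.eqs (EqsP.join eqs3_0_0 eqs3_0_10) ok2 (by norm_num)

theorem eqs3_1 : ∀ e ∈ eqs3_1L, ev (sig T2) e.1 = ev (sig T2) e.2 := EqsP.eqs (EqsP.join eqs3_1_0 eqs3_1_10) ok2 (by norm_num)

theorem eqs3_2 : ∀ e ∈ eqs3_2L, ev (sig T2) e.1 = ev (sig T2) e.2 := EqsP.eqs (EqsP.join (EqsP.join (EqsP.join (EqsP.join (EqsP.join (EqsP.join (EqsP.join (EqsP.join (EqsP.join eqs3_2_0 eqs3_2_2) eqs3_2_4) eqs3_2_6) eqs3_2_8) eqs3_2_10) eqs3_2_12) eqs3_2_14) eqs3_2_16) eqs3_2_18) ok2 (by norm_num)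

theorem eqs3_3 : ∀ e ∈ eqs3_3L, ev (sig T2) e.1 = ev (sig T2) e.2 := EqsP.eqs (EqsP.join (EqsP.join (EqsP.join (EqsP.join (EqsP.join (EqsP.join eqs3_3_0 eqs3_3_3) eqs3_3_6) eqs3_3_9) eqs3_3_12) eqs3_3_15) eqs3_3_18) ok2 (by norm_num)

theorem eqs3 : ∀ e ∈ E3, ev (sig T2) e.1 = ev (sig T2) e.2 :=
  (show (eqs3_0L ++ (eqs3_1L ++ (eqs3_2L ++ eqs3_3L))) = E3 by decide +kernel) ▸ (eqs_append eqs3_0 (eqs_append eqs3_1 (eqs_append eqs3_2 eqs3_3)))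

noncomputable def s2 : ℕ → Cfsg.Spor.Fi24 := liftS phi (sig T2)

theorem ext2 : Rep s2 21 306936 T2 phi ∧ ∀ x < 12, s2 x = s x := by
  have h2 := extH.1.extend inj ok2 (by intro x hx; interval_cases x <;> rfl) eqs2 (by decide +kernel) (L' := 21) rfl
  exact ⟨h2.1, fun x hx => (h2.2 x (by omega)).trans (extH.2 x hx)⟩

theorem rep2 : Rep s2 21 306936 T2 phi := ext2.1

noncomputable def Is : List Nat := [ivl 0 1, ivl 1 31671, ivl 31672 275264]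

theorem orbs : Orbs phi 306936 Is :=
  rep.orbs (by decide +kernel) stab.2 ((lall_eq _ _).mp (show lall (invS T W0) Is = true by decide +kernel))

theorem eqs2' : ∀ e ∈ E2, ev s2 e.1 = ev s2 e.2 := rep2.eqs_of_inj inj (by decide +kernel) eqs2

theorem eqs3' : ∀ e ∈ E3, ev s2 e.1 = ev s2 e.2 := rep2.eqs_of_inj inj (by decide +kernel) eqs3


end Cfsg.Agent.Comp.Fi24.O
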