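import Cfsg.Agent.Comp.Fi24.OutRD

set_option autoImplicit false
set_option maxRecDepth 100000

namespace Cfsg.Agent.Comp.Fi24.O
open Cfsg.Agent.Comp

theorem eqs2_0_0 : EqsP 306936 0 1 T2 eqs2_0L :=
  eqsP_of ok2 (by norm_num) (by norm_num) (by norm_num) (show eqsP (nat_lit 306936) (nat_lit 19) (nat_lit 0) (nat_lit 1) T2 eqs2_0L = true by decide +kernel)

theorem eqs2_0_1 : EqsP 306936 1 2 T2 eqs2_0L :=
  eqsP_of ok2 (by norm_num) (by norm_num) (by norm_num) (show eqsP (nat_lit 306936) (nat_lit 19) (nat_lit 1) (nat_lit 1) T2 eqs2_0L = true by decide +kernel)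

theorem eqs2_0_2 : EqsP 306936 2 3 T2 eqs2_0L :=
  eqsP_of ok2 (by norm_num) (by norm_num) (by norm_num) (show eqsP (nat_lit 306936) (nat_lit 19) (nat_lit 2) (nat_lit 1) T2 eqs2_0L = true by decide +kernel)

theorem eqs2_0_3 : EqsP 306936 3 4 T2 eqs2_0L :=
  eqsP_of ok2 (by norm_num) (by norm_num) (by norm_num) (show eqsP (nat_lit 306936) (nat_lit 19) (nat_lit 3) (nat_lit 1) T2 eqs2_0L = true by decide +kernel)

theorem eqs2_0_4 : EqsP 306936 4 5 T2 eqs2_0L :=
  eqsP_of ok2 (by norm_num) (by norm_num) (by norm_num) (show eqsP (nat_lit 306936) (nat_lit 19) (nat_lit 4) (nat_lit 1) T2 eqs2_0L = true by decide +kernel)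

theorem eqs2_0_5 : EqsP 306936 5 6 T2 eqs2_0L :=
  eqsP_of ok2 (by norm_num) (by norm_num) (by norm_num) (show eqsP (nat_lit 306936) (nat_lit 19) (nat_lit 5) (nat_lit 1) T2 eqs2_0L = true by decide +kernel)

theorem eqs2_0_6 : EqsP 306936 6 7 T2 eqs2_0L :=
  eqsP_of ok2 (by norm_num) (by norm_num) (by norm_num) (show eqsP (nat_lit 306936) (nat_lit 19) (nat_lit 6) (nat_lit 1) T2 eqs2_0L = true by decide +kernel)

theorem eqs2_0_7 : EqsP 306936 7 8 T2 eqs2_0L :=
  eqsP_of ok2 (by norm_num) (by norm_num) (by norm_num) (show eqsP (nat_lit 306936) (nat_lit 19) (nat_lit 7) (nat_lit 1) T2 eqs2_0L = true by decide +kernel)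

theorem eqs2_0_8 : EqsP 306936 8 9 T2 eqs2_0L :=
  eqsP_of ok2 (by norm_num) (by norm_num) (by norm_num) (show eqsP (nat_lit 306936) (nat_lit 19) (nat_lit 8) (nat_lit 1) T2 eqs2_0L = true by decide +kernel)

theorem eqs2_0_9 : EqsP 306936 9 10 T2 eqs2_0L :=
  eqsP_of ok2 (by norm_num) (by norm_num) (by norm_num) (show eqsP (nat_lit 306936) (nat_lit 19) (nat_lit 9) (nat_lit 1) T2 eqs2_0L = true by decide +kernel)

theorem eqs2_0_10 : EqsP 306936 10 11 T2 eqs2_0L :=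
  eqsP_of ok2 (by norm_num) (by norm_num) (by norm_num) (show eqsP (nat_lit 306936) (nat_lit 19) (nat_lit 10) (nat_lit 1) T2 eqs2_0L = true by decide +kernel)


end Cfsg.Agent.Comp.Fi24.O
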