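import Cfsg.Agent.Comp.Fi24.OutT

set_option autoImplicit false
set_option maxRecDepth 100000

namespace Cfsg.Agent.Comp.Fi24.O
open Cfsg.Agent.Comp

def E2 : List (List Nat × List Nat) :=
  [([20], [6, 5, 10, 11, 7, 6, 4, 5, 10, 7, 8, 6, 7, 4, 5, 6, 3, 4, 5, 10, 11, 8, 7, 5, 6, 3, 4, 5, 10, 2, 3, 4, 5, 6, 7, 8, 9, 7, 6, 2, 3, 4, 5, 10, 11, 7, 5, 6, 3, 4, 5, 10, 8, 7, 6, 5, 4, 3, 2, 6, 3, 4, 5, 10, 11, 7, 6, 4, 5, 10, 7, 8, 6, 7, 4, 5, 6, 3, 4, 5, 10, 11, 3, 4, 3, 5, 6, 8, 10, 5, 4, 3, 6, 5, 4, 10, 5, 6, 9, 8, 2, 0])]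

def E3 : List (List Nat × List Nat) :=
  [([20, 20], [20, 20]),
   ([0, 20], [20, 0]),
   ([1, 0, 8, 5, 3, 7, 10, 11, 4, 5, 6, 4], [8, 5, 3, 7, 10, 11, 4, 5, 6, 4, 1, 0]),
   ([1, 0, 5, 8, 6, 4, 7, 10, 9, 3], [5, 8, 6, 4, 7, 10, 9, 3, 1, 0])]

def eqs2_0L : List (List Nat × List Nat) :=
  [([20], [6, 5, 10, 11, 7, 6, 4, 5, 10, 7, 8, 6, 7, 4, 5, 6, 3, 4, 5, 10, 11, 8, 7, 5, 6, 3, 4, 5, 10, 2, 3, 4, 5, 6, 7, 8, 9, 7, 6, 2, 3, 4, 5, 10, 11, 7, 5, 6, 3, 4, 5, 10, 8, 7, 6, 5, 4, 3, 2, 6, 3, 4, 5, 10, 11, 7, 6, 4, 5, 10, 7, 8, 6, 7, 4, 5, 6, 3, 4, 5, 10, 11, 3, 4, 3, 5, 6, 8, 10, 5, 4, 3, 6, 5, 4, 10, 5, 6, 9, 8, 2, 0])]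

def eqs3_0L : List (List Nat × List Nat) :=
  [([20, 20], [20, 20])]

def eqs3_1L : List (List Nat × List Nat) :=
  [([0, 20], [20, 0])]

def eqs3_2L : List (List Nat × List Nat) :=
  [([1, 0, 8, 5, 3, 7, 10, 11, 4, 5, 6, 4], [8, 5, 3, 7, 10, 11, 4, 5, 6, 4, 1, 0])]

def eqs3_3L : List (List Nat × List Nat) :=
  [([1, 0, 5, 8, 6, 4, 7, 10, 9, 3], [5, 8, 6, 4, 7, 10, 9, 3, 1, 0])]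


end Cfsg.Agent.Comp.Fi24.O
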