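import Cfsg.Agent.Comp.TC
import Cfsg.Agent.Comp.Fi24.Pb0T0

set_option autoImplicit false
set_option maxRecDepth 100000

namespace Cfsg.Agent.Comp.Fi24.Pb0
open Cfsg.Agent.Comp

noncomputable def T : Tr := (Tr.node (nat_lit 1087) (Tr.node (nat_lit 511) (Tr.node (nat_lit 255) (Tr.node (nat_lit 127) (Tr.node (nat_lit 63) t0 t1) (Tr.node (nat_lit 191) t2 t3)) (Tr.node (nat_lit 383) (Tr.node (nat_lit 319) t4 t5) (Tr.node (nat_lit 447) t6 t7))) (Tr.node (nat_lit 767) (Tr.node (nat_lit 639) (Tr.node (nat_lit 575) t8 t9) (Tr.node (nat_lit 703) t10 t11)) (Tr.node (nat_lit 895) (Tr.node (nat_lit 831) t12 t13) (Tr.node (nat_lit 959) t14 (Tr.node (nat_lit 1023) t15 t16))))) (Tr.node (nat_lit 1663) (Tr.node (nat_lit 1343) (Tr.node (nat_lit 1215) (Tr.node (nat_lit 1151) t17 t18) (Tr.node (nat_lit 1279) t19 t20)) (Tr.node (nat_lit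 1471) (Tr.node (nat_lit 1407) t21 t22) (Tr.node (nat_lit 1535) t23 (Tr.node (nat_lit 1599) t24 t25)))) (Tr.node (nat_lit 1919) (Tr.node (nat_lit 1791) (Tr.node (nat_lit 1727) t26 t27) (Tr.node (nat_lit 1855) t28 t29)) (Tr.node (nat_lit 2047) (Tr.node (nat_lit 1983) t30 t31) (Tr.node (nat_lit 2111) t32 (Tr.node (nat_lit 2175) t33 t34))))))

def RT : List (List (List Nat)) := [
  [[nat_lit 11],
   [nat_lit 9, nat_lit 0, nat_lit 9],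
   [nat_lit 6, nat_lit 0, nat_lit 6],
   [nat_lit 5, nat_lit 0, nat_lit 5],
   [nat_lit 4, nat_lit 0, nat_lit 4],
   [nat_lit 3, nat_lit 0, nat_lit 3],
   [nat_lit 7, nat_lit 0, nat_lit 7],
   [nat_lit 2, nat_lit 0, nat_lit 2],
   [nat_lit 8, nat_lit 0, nat_lit 8],
   [nat_lit 1, nat_lit 0, nat_lit 1]],
  [[nat_lit 7, nat_lit 1, nat_lit 7],
   [nat_lit 4, nat_lit 1, nat_lit 4],
   [nat_lit 8, nat_lit 1, nat_lit 8],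
   [nat_lit 3, nat_lit 1, nat_lit 3],
   [nat_lit 5, nat_lit 1, nat_lit 5],
   [nat_lit 6, nat_lit 1, nat_lit 6],
   [nat_lit 9, nat_lit 1, nat_lit 9],
   [nat_lit 2, nat_lit 1, nat_lit 2, nat_lit 1, nat_lit 2],
   [nat_lit 11],
   [nat_lit 7, nat_lit 6, nat_lit 5, nat_lit 4, nat_lit 3, nat_lit 2, nat_lit 1, nat_lit 7, nat_lit 6, nat_lit 5, nat_lit 4, nat_lit 3, nat_lit 2, nat_lit 1, nat_lit 7, nat_lit 6, nat_lit 5, nat_lit 4, nat_lit 3, nat_lit 2, nat_lit 1, nat_lit 7, nat_lit 6, nat_lit 5, nat_lit 4, nat_lit 3, nat_lit 2, nat_lit 1, nat_lit 7, nat_lit 6, nat_lit 5, nat_lit 4, nat_lit 3, nat_lit 2, nat_lit 1, nat_lit 7, nat_lit 6, nat_lit 5, nat_lit 4, nat_lit 3, nat_lit 2, nat_lit 1, nat_lit 7, nat_lit 6, nat_lit 5, nat_lit 4, nat_lit 3, nat_lit 2, nat_lit 1, nat_lit 0, nat_lit 7, nat_lit 6, nat_lit 5, nat_lit 4,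 nat_lit 3, nat_lit 2, nat_lit 1, nat_lit 7, nat_lit 6, nat_lit 5, nat_lit 4, nat_lit 3, nat_lit 2],
   [nat_lit 1],
   [nat_lit 0, nat_lit 7, nat_lit 6, nat_lit 5, nat_lit 4, nat_lit 3, nat_lit 2, nat_lit 1, nat_lit 7, nat_lit 6, nat_lit 5, nat_lit 4, nat_lit 3, nat_lit 2, nat_lit 1, nat_lit 7, nat_lit 6, nat_lit 5, nat_lit 4, nat_lit 3, nat_lit 2, nat_lit 1, nat_lit 7, nat_lit 6, nat_lit 5, nat_lit 4, nat_lit 3, nat_lit 2, nat_lit 1, nat_lit 7, nat_lit 6, nat_lit 5, nat_lit 4, nat_lit 3, nat_lit 2, nat_lit 1, nat_lit 7, nat_lit 6, nat_lit 5, nat_lit 4, nat_lit 3, nat_lit 2, nat_lit 1, nat_lit 7, nat_lit 6, nat_lit 5, nat_lit 4, nat_lit 3, nat_lit 2, nat_lit 1, nat_lit 7, nat_lit 6, nat_lit 5, nat_lit 4, nat_lit 3, nat_lit 2, nat_lit 1, nat_lit 7, nat_lit 6, nat_lit 5, nat_lit 4, nat_lit 3, nat_lit 2]],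
  [[nat_lit 7, nat_lit 2, nat_lit 7],
   [nat_lit 4, nat_lit 2, nat_lit 4],
   [nat_lit 8, nat_lit 2, nat_lit 8],
   [nat_lit 5, nat_lit 2, nat_lit 5],
   [nat_lit 6, nat_lit 2, nat_lit 6],
   [nat_lit 9, nat_lit 2, nat_lit 9],
   [nat_lit 1, nat_lit 2, nat_lit 1, nat_lit 2, nat_lit 1],
   [nat_lit 3, nat_lit 2, nat_lit 3, nat_lit 2, nat_lit 3],
   [nat_lit 11],
   [nat_lit 1, nat_lit 0, nat_lit 7, nat_lit 6, nat_lit 5, nat_lit 4, nat_lit 3, nat_lit 2, nat_lit 1, nat_lit 7, nat_lit 6, nat_lit 5, nat_lit 4, nat_lit 3, nat_lit 2, nat_lit 1, nat_lit 7, nat_lit 6, nat_lit 5, nat_lit 4, nat_lit 3, nat_lit 2, nat_lit 1, nat_lit 7, nat_lit 6, nat_lit 5, nat_lit 4, nat_lit 3, nat_lit 2, nat_lit 1, nat_lit 7, nat_lit 6, nat_lit 5, nat_lit 4, nat_lit 3, nat_lit 2, nat_lit 1, nat_lit 7, nat_lit 6, nat_lit 5, nat_lit 4, nat_lit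 3, nat_lit 2, nat_lit 1, nat_lit 7, nat_lit 6, nat_lit 5, nat_lit 4, nat_lit 3, nat_lit 2, nat_lit 1, nat_lit 7, nat_lit 6, nat_lit 5, nat_lit 4, nat_lit 3, nat_lit 2, nat_lit 1, nat_lit 7, nat_lit 6, nat_lit 5, nat_lit 4, nat_lit 3],
   [nat_lit 2]],
  [[nat_lit 7, nat_lit 3, nat_lit 7],
   [nat_lit 8, nat_lit 3, nat_lit 8],
   [nat_lit 5, nat_lit 3, nat_lit 5],
   [nat_lit 6, nat_lit 3, nat_lit 6],
   [nat_lit 9, nat_lit 3, nat_lit 9],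
   [nat_lit 2, nat_lit 3, nat_lit 2, nat_lit 3, nat_lit 2],
   [nat_lit 1, nat_lit 3, nat_lit 1],
   [nat_lit 4, nat_lit 3, nat_lit 4, nat_lit 3, nat_lit 4],
   [nat_lit 11],
   [nat_lit 4, nat_lit 5, nat_lit 6, nat_lit 7, nat_lit 1, nat_lit 2, nat_lit 3, nat_lit 4, nat_lit 5, nat_lit 6, nat_lit 7, nat_lit 1, nat_lit 2, nat_lit 3, nat_lit 4, nat_lit 5, nat_lit 6, nat_lit 7, nat_lit 1, nat_lit 2, nat_lit 3, nat_lit 4, nat_lit 5, nat_lit 6, nat_lit 7, nat_lit 0, nat_lit 1, nat_lit 2, nat_lit 3, nat_lit 4, nat_lit 5, nat_lit 6, nat_lit 7, nat_lit 1, nat_lit 2, nat_lit 3, nat_lit 4, nat_lit 5, nat_lit 6, nat_lit 7, nat_lit 1, nat_lit 2, nat_lit 3, nat_lit 4, nat_lit 5, nat_lit 6, nat_lit 7, nat_lit 1, nat_lit 2, nat_lit 3, nat_lit 4, nat_lit 5, nat_lit 6, nat_lit 7, nat_lit 1, nat_lit 2, nat_lit 3, nat_lit 4, nat_lit 5,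 nat_lit 6, nat_lit 7, nat_lit 1, nat_lit 2],
   [nat_lit 3],
   [nat_lit 2, nat_lit 1, nat_lit 7, nat_lit 6, nat_lit 5, nat_lit 4, nat_lit 3, nat_lit 2, nat_lit 1, nat_lit 0, nat_lit 7, nat_lit 6, nat_lit 5, nat_lit 4, nat_lit 3, nat_lit 2, nat_lit 1, nat_lit 7, nat_lit 6, nat_lit 5, nat_lit 4, nat_lit 3, nat_lit 2, nat_lit 1, nat_lit 7, nat_lit 6, nat_lit 5, nat_lit 4, nat_lit 3, nat_lit 2, nat_lit 1, nat_lit 7, nat_lit 6, nat_lit 5, nat_lit 4, nat_lit 3, nat_lit 2, nat_lit 1, nat_lit 7, nat_lit 6, nat_lit 5, nat_lit 4, nat_lit 3, nat_lit 2, nat_lit 1, nat_lit 7, nat_lit 6, nat_lit 5, nat_lit 4, nat_lit 3, nat_lit 2, nat_lit 1, nat_lit 7, nat_lit 6, nat_lit 5, nat_lit 4, nat_lit 3, nat_lit 2, nat_lit 1, nat_lit 7, nat_lit 6, nat_lit 5, nat_lit 4]],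
  [[nat_lit 8, nat_lit 4, nat_lit 8],
   [nat_lit 6, nat_lit 4, nat_lit 6],
   [nat_lit 9, nat_lit 4, nat_lit 9],
   [nat_lit 5, nat_lit 4, nat_lit 5, nat_lit 4, nat_lit 5],
   [nat_lit 1, nat_lit 4, nat_lit 1],
   [nat_lit 2, nat_lit 4, nat_lit 2],
   [nat_lit 3, nat_lit 4, nat_lit 3, nat_lit 4, nat_lit 3],
   [nat_lit 7, nat_lit 4, nat_lit 7, nat_lit 4, nat_lit 7],
   [nat_lit 11],
   [nat_lit 3, nat_lit 2, nat_lit 1, nat_lit 7, nat_lit 6, nat_lit 5, nat_lit 4, nat_lit 3, nat_lit 2, nat_lit 1, nat_lit 7, nat_lit 6, nat_lit 5, nat_lit 4, nat_lit 3, nat_lit 2, nat_lit 1, nat_lit 7, nat_lit 6, nat_lit 5, nat_lit 4, nat_lit 3, nat_lit 2, nat_lit 1, nat_lit 7, nat_lit 6, nat_lit 5, nat_lit 4, nat_lit 3, nat_lit 2, nat_lit 1, nat_lit 7, nat_lit 6, nat_lit 5, nat_lit 4, nat_lit 3, nat_lit 2, nat_lit 1, nat_lit 0, nat_lit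 7, nat_lit 6, nat_lit 5, nat_lit 4, nat_lit 3, nat_lit 2, nat_lit 1, nat_lit 7, nat_lit 6, nat_lit 5, nat_lit 4, nat_lit 3, nat_lit 2, nat_lit 1, nat_lit 7, nat_lit 6, nat_lit 5, nat_lit 4, nat_lit 3, nat_lit 2, nat_lit 1, nat_lit 7, nat_lit 6, nat_lit 5],
   [nat_lit 3, nat_lit 2, nat_lit 1, nat_lit 0, nat_lit 7, nat_lit 6, nat_lit 5, nat_lit 4, nat_lit 3, nat_lit 2, nat_lit 1, nat_lit 7, nat_lit 6, nat_lit 5, nat_lit 4, nat_lit 3, nat_lit 2, nat_lit 1, nat_lit 7, nat_lit 6, nat_lit 5, nat_lit 4, nat_lit 3, nat_lit 2, nat_lit 1, nat_lit 7, nat_lit 6, nat_lit 5, nat_lit 4, nat_lit 3, nat_lit 2, nat_lit 1, nat_lit 7, nat_lit 6, nat_lit 5, nat_lit 4, nat_lit 3, nat_lit 2, nat_lit 1, nat_lit 7, nat_lit 6, nat_lit 5, nat_lit 4, nat_lit 3, nat_lit 2, nat_lit 1, nat_lit 7, nat_lit 6, nat_lit 5, nat_lit 4, nat_lit 3, nat_lit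 2, nat_lit 1, nat_lit 7, nat_lit 6, nat_lit 5, nat_lit 4, nat_lit 3, nat_lit 2, nat_lit 1, nat_lit 7, nat_lit 6, nat_lit 5],
   [nat_lit 5, nat_lit 6, nat_lit 7, nat_lit 1, nat_lit 2, nat_lit 3, nat_lit 4, nat_lit 5, nat_lit 6, nat_lit 7, nat_lit 1, nat_lit 2, nat_lit 3, nat_lit 4, nat_lit 5, nat_lit 6, nat_lit 7, nat_lit 1, nat_lit 2, nat_lit 3, nat_lit 4, nat_lit 5, nat_lit 6, nat_lit 7, nat_lit 1, nat_lit 2, nat_lit 3, nat_lit 4, nat_lit 5, nat_lit 6, nat_lit 7, nat_lit 1, nat_lit 2, nat_lit 3, nat_lit 4, nat_lit 5, nat_lit 6, nat_lit 7, nat_lit 1, nat_lit 2, nat_lit 3, nat_lit 4, nat_lit 5, nat_lit 6, nat_lit 7, nat_lit 1, nat_lit 2, nat_lit 3, nat_lit 4, nat_lit 5, nat_lit 6, nat_lit 7, nat_lit 1, nat_lit 2, nat_lit 3, nat_lit 4, nat_lit 5, nat_lit 6, nat_lit 7, nat_lit 0, nat_lit 1, nat_lit 2, nat_lit 3],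
   [nat_lit 5, nat_lit 6, nat_lit 7, nat_lit 0, nat_lit 1, nat_lit 2, nat_lit 3, nat_lit 4, nat_lit 5, nat_lit 6, nat_lit 7, nat_lit 1, nat_lit 2, nat_lit 3, nat_lit 4, nat_lit 5, nat_lit 6, nat_lit 7, nat_lit 1, nat_lit 2, nat_lit 3, nat_lit 4, nat_lit 5, nat_lit 6, nat_lit 7, nat_lit 1, nat_lit 2, nat_lit 3, nat_lit 4, nat_lit 5, nat_lit 6, nat_lit 7, nat_lit 1, nat_lit 2, nat_lit 3, nat_lit 4, nat_lit 5, nat_lit 6, nat_lit 7, nat_lit 1, nat_lit 2, nat_lit 3, nat_lit 4, nat_lit 5, nat_lit 6, nat_lit 7, nat_lit 1, nat_lit 2, nat_lit 3, nat_lit 4, nat_lit 5, nat_lit 6, nat_lit 7, nat_lit 1, nat_lit 2, nat_lit 3, nat_lit 4, nat_lit 5, nat_lit 6, nat_lit 7, nat_lit 1, nat_lit 2, nat_lit 3],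
   [nat_lit 4]],
  [[nat_lit 8, nat_lit 5, nat_lit 8],
   [nat_lit 7, nat_lit 5, nat_lit 7],
   [nat_lit 9, nat_lit 5, nat_lit 9],
   [nat_lit 6, nat_lit 5, nat_lit 6, nat_lit 5, nat_lit 6],
   [nat_lit 1, nat_lit 5, nat_lit 1],
   [nat_lit 3, nat_lit 5, nat_lit 3],
   [nat_lit 2, nat_lit 5, nat_lit 2],
   [nat_lit 4, nat_lit 5, nat_lit 4, nat_lit 5, nat_lit 4],
   [nat_lit 11],
   [nat_lit 4, nat_lit 3, nat_lit 2, nat_lit 1, nat_lit 7, nat_lit 6, nat_lit 5, nat_lit 4, nat_lit 3, nat_lit 2, nat_lit 1, nat_lit 7, nat_lit 6, nat_lit 5, nat_lit 4, nat_lit 3, nat_lit 2, nat_lit 1, nat_lit 7, nat_lit 6, nat_lit 5, nat_lit 4, nat_lit 3, nat_lit 2, nat_lit 1, nat_lit 7, nat_lit 6, nat_lit 5, nat_lit 4, nat_lit 3, nat_lit 2, nat_lit 1, nat_lit 7, nat_lit 6, nat_lit 5, nat_lit 4, nat_lit 3, nat_lit 2, nat_lit 1, nat_lit 7, nat_lit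 6, nat_lit 5, nat_lit 4, nat_lit 3, nat_lit 2, nat_lit 1, nat_lit 7, nat_lit 6, nat_lit 5, nat_lit 4, nat_lit 3, nat_lit 2, nat_lit 1, nat_lit 7, nat_lit 6, nat_lit 5, nat_lit 4, nat_lit 3, nat_lit 2, nat_lit 1, nat_lit 0, nat_lit 7, nat_lit 6],
   [nat_lit 6, nat_lit 7, nat_lit 0, nat_lit 1, nat_lit 2, nat_lit 3, nat_lit 4, nat_lit 5, nat_lit 6, nat_lit 7, nat_lit 1, nat_lit 2, nat_lit 3, nat_lit 4, nat_lit 5, nat_lit 6, nat_lit 7, nat_lit 1, nat_lit 2, nat_lit 3, nat_lit 4, nat_lit 5, nat_lit 6, nat_lit 7, nat_lit 1, nat_lit 2, nat_lit 3, nat_lit 4, nat_lit 5, nat_lit 6, nat_lit 7, nat_lit 1, nat_lit 2, nat_lit 3, nat_lit 4, nat_lit 5, nat_lit 6, nat_lit 7, nat_lit 1, nat_lit 2, nat_lit 3, nat_lit 4, nat_lit 5, nat_lit 6, nat_lit 7, nat_lit 1, nat_lit 2, nat_lit 3, nat_lit 4, nat_lit 5, nat_lit 6, nat_lit 7, nat_lit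 1, nat_lit 2, nat_lit 3, nat_lit 4, nat_lit 5, nat_lit 6, nat_lit 7, nat_lit 1, nat_lit 2, nat_lit 3, nat_lit 4],
   [nat_lit 6, nat_lit 7, nat_lit 1, nat_lit 2, nat_lit 3, nat_lit 4, nat_lit 5, nat_lit 6, nat_lit 7, nat_lit 1, nat_lit 2, nat_lit 3, nat_lit 4, nat_lit 5, nat_lit 6, nat_lit 7, nat_lit 1, nat_lit 2, nat_lit 3, nat_lit 4, nat_lit 5, nat_lit 6, nat_lit 7, nat_lit 1, nat_lit 2, nat_lit 3, nat_lit 4, nat_lit 5, nat_lit 6, nat_lit 7, nat_lit 1, nat_lit 2, nat_lit 3, nat_lit 4, nat_lit 5, nat_lit 6, nat_lit 7, nat_lit 1, nat_lit 2, nat_lit 3, nat_lit 4, nat_lit 5, nat_lit 6, nat_lit 7, nat_lit 1, nat_lit 2, nat_lit 3, nat_lit 4, nat_lit 5, nat_lit 6, nat_lit 7, nat_lit 1, nat_lit 2, nat_lit 3, nat_lit 4, nat_lit 5, nat_lit 6, nat_lit 7, nat_lit 0, nat_lit 1, nat_lit 2, nat_lit 3, nat_lit 4],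
   [nat_lit 5]],
  [[nat_lit 8, nat_lit 6, nat_lit 8],
   [nat_lit 7, nat_lit 6, nat_lit 7],
   [nat_lit 4, nat_lit 6, nat_lit 4],
   [nat_lit 3, nat_lit 6, nat_lit 3],
   [nat_lit 2, nat_lit 6, nat_lit 2],
   [nat_lit 1, nat_lit 6, nat_lit 1],
   [nat_lit 5, nat_lit 6, nat_lit 5, nat_lit 6, nat_lit 5],
   [nat_lit 9, nat_lit 6, nat_lit 9, nat_lit 6, nat_lit 9],
   [nat_lit 11],
   [nat_lit 6],
   [nat_lit 5, nat_lit 4, nat_lit 3, nat_lit 2, nat_lit 1, nat_lit 7, nat_lit 6, nat_lit 5, nat_lit 4, nat_lit 3, nat_lit 2, nat_lit 1, nat_lit 7, nat_lit 6, nat_lit 5, nat_lit 4, nat_lit 3, nat_lit 2, nat_lit 1, nat_lit 7, nat_lit 6, nat_lit 5, nat_lit 4, nat_lit 3, nat_lit 2, nat_lit 1, nat_lit 7, nat_lit 6, nat_lit 5, nat_lit 4, nat_lit 3, nat_lit 2, nat_lit 1, nat_lit 7, nat_lit 6, nat_lit 5, nat_lit 4, nat_lit 3, nat_lit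 2, nat_lit 1, nat_lit 7, nat_lit 6, nat_lit 5, nat_lit 4, nat_lit 3, nat_lit 2, nat_lit 1, nat_lit 7, nat_lit 6, nat_lit 5, nat_lit 4, nat_lit 3, nat_lit 2, nat_lit 1, nat_lit 7, nat_lit 6, nat_lit 5, nat_lit 4, nat_lit 3, nat_lit 2, nat_lit 1, nat_lit 0, nat_lit 7]],
  [[nat_lit 9, nat_lit 7, nat_lit 9],
   [nat_lit 6, nat_lit 7, nat_lit 6],
   [nat_lit 5, nat_lit 7, nat_lit 5],
   [nat_lit 4, nat_lit 7, nat_lit 4, nat_lit 7, nat_lit 4],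
   [nat_lit 1, nat_lit 7, nat_lit 1],
   [nat_lit 3, nat_lit 7, nat_lit 3],
   [nat_lit 2, nat_lit 7, nat_lit 2],
   [nat_lit 8, nat_lit 7, nat_lit 8, nat_lit 7, nat_lit 8],
   [nat_lit 11],
   [nat_lit 6, nat_lit 5, nat_lit 4, nat_lit 3, nat_lit 2, nat_lit 1, nat_lit 7, nat_lit 6, nat_lit 5, nat_lit 4, nat_lit 3, nat_lit 2, nat_lit 1, nat_lit 7, nat_lit 6, nat_lit 5, nat_lit 4, nat_lit 3, nat_lit 2, nat_lit 1, nat_lit 7, nat_lit 6, nat_lit 5, nat_lit 4, nat_lit 3, nat_lit 2, nat_lit 1, nat_lit 7, nat_lit 6, nat_lit 5, nat_lit 4, nat_lit 3, nat_lit 2, nat_lit 1, nat_lit 7, nat_lit 6, nat_lit 5, nat_lit 4, nat_lit 3, nat_lit 2, nat_lit 1, nat_lit 7, nat_lit 6, nat_lit 5, nat_lit 4, nat_lit 3, nat_lit 2, nat_lit 1, nat_lit 7, nat_lit 6, nat_lit 5, nat_lit 4, nat_lit 3, nat_lit 2, nat_lit 1, nat_lit 7, nat_lit 6, nat_lit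 5, nat_lit 4, nat_lit 3, nat_lit 2, nat_lit 1, nat_lit 0],
   [nat_lit 7],
   [nat_lit 0, nat_lit 1, nat_lit 2, nat_lit 3, nat_lit 4, nat_lit 5, nat_lit 6, nat_lit 7, nat_lit 1, nat_lit 2, nat_lit 3, nat_lit 4, nat_lit 5, nat_lit 6, nat_lit 7, nat_lit 1, nat_lit 2, nat_lit 3, nat_lit 4, nat_lit 5, nat_lit 6, nat_lit 7, nat_lit 1, nat_lit 2, nat_lit 3, nat_lit 4, nat_lit 5, nat_lit 6, nat_lit 7, nat_lit 1, nat_lit 2, nat_lit 3, nat_lit 4, nat_lit 5, nat_lit 6, nat_lit 7, nat_lit 1, nat_lit 2, nat_lit 3, nat_lit 4, nat_lit 5, nat_lit 6, nat_lit 7, nat_lit 1, nat_lit 2, nat_lit 3, nat_lit 4, nat_lit 5, nat_lit 6, nat_lit 7, nat_lit 1, nat_lit 2, nat_lit 3, nat_lit 4, nat_lit 5, nat_lit 6, nat_lit 7, nat_lit 1, nat_lit 2, nat_lit 3, nat_lit 4, nat_lit 5, nat_lit 6]],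
  [[nat_lit 9, nat_lit 8, nat_lit 9],
   [nat_lit 6, nat_lit 8, nat_lit 6],
   [nat_lit 5, nat_lit 8, nat_lit 5],
   [nat_lit 4, nat_lit 8, nat_lit 4],
   [nat_lit 3, nat_lit 8, nat_lit 3],
   [nat_lit 2, nat_lit 8, nat_lit 2],
   [nat_lit 1, nat_lit 8, nat_lit 1],
   [nat_lit 7, nat_lit 8, nat_lit 7, nat_lit 8, nat_lit 7],
   [nat_lit 11],
   [nat_lit 8]],
  [[nat_lit 6, nat_lit 9, nat_lit 6, nat_lit 9, nat_lit 6],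
   [nat_lit 1, nat_lit 9, nat_lit 1],
   [nat_lit 3, nat_lit 9, nat_lit 3],
   [nat_lit 7, nat_lit 9, nat_lit 7],
   [nat_lit 2, nat_lit 9, nat_lit 2],
   [nat_lit 4, nat_lit 9, nat_lit 4],
   [nat_lit 8, nat_lit 9, nat_lit 8],
   [nat_lit 5, nat_lit 9, nat_lit 5],
   [nat_lit 9]],
  [[nat_lit 1, nat_lit 4, nat_lit 1, nat_lit 4],
   [nat_lit 3, nat_lit 3],
   [nat_lit 2, nat_lit 2],
   [nat_lit 1, nat_lit 1],
   [nat_lit 4, nat_lit 4],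
   [nat_lit 7, nat_lit 7],
   [nat_lit 6, nat_lit 6],
   [nat_lit 5, nat_lit 5],
   [nat_lit 8, nat_lit 8],
   [nat_lit 9, nat_lit 9],
   [nat_lit 3, nat_lit 4, nat_lit 5, nat_lit 6, nat_lit 7, nat_lit 1, nat_lit 2, nat_lit 3, nat_lit 4, nat_lit 5, nat_lit 6, nat_lit 7, nat_lit 1, nat_lit 2, nat_lit 3, nat_lit 4, nat_lit 5, nat_lit 6, nat_lit 7, nat_lit 1, nat_lit 2, nat_lit 3, nat_lit 4, nat_lit 5, nat_lit 6, nat_lit 7, nat_lit 1, nat_lit 2, nat_lit 3, nat_lit 4, nat_lit 5, nat_lit 6, nat_lit 7, nat_lit 0, nat_lit 1, nat_lit 2, nat_lit 3, nat_lit 4, nat_lit 5, nat_lit 6, nat_lit 7, nat_lit 1, nat_lit 2, nat_lit 3, nat_lit 4, nat_lit 5, nat_lit 6, nat_lit 7, nat_lit 1, nat_lit 2, nat_lit 3, nat_lit 4, nat_lit 5, nat_lit 6, nat_lit 7, nat_lit 1, nat_lit 2, nat_lit 3, nat_lit 4, nat_lit 5, nat_lit 6, nat_lit 7, nat_lit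 1, nat_lit 2],
   [nat_lit 1, nat_lit 2, nat_lit 3, nat_lit 4, nat_lit 5, nat_lit 6, nat_lit 7, nat_lit 1, nat_lit 2, nat_lit 3, nat_lit 4, nat_lit 5, nat_lit 6, nat_lit 7, nat_lit 1, nat_lit 2, nat_lit 3, nat_lit 4, nat_lit 5, nat_lit 6, nat_lit 7, nat_lit 1, nat_lit 2, nat_lit 3, nat_lit 4, nat_lit 5, nat_lit 6, nat_lit 7, nat_lit 1, nat_lit 2, nat_lit 3, nat_lit 4, nat_lit 5, nat_lit 6, nat_lit 7, nat_lit 0, nat_lit 1, nat_lit 2, nat_lit 3, nat_lit 4, nat_lit 5, nat_lit 6, nat_lit 7, nat_lit 1, nat_lit 2, nat_lit 3, nat_lit 4, nat_lit 5, nat_lit 6, nat_lit 7, nat_lit 1, nat_lit 2, nat_lit 3, nat_lit 4, nat_lit 5, nat_lit 6, nat_lit 7, nat_lit 1, nat_lit 2, nat_lit 3, nat_lit 4, nat_lit 5, nat_lit 6, nat_lit 7],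
   [nat_lit 4, nat_lit 5, nat_lit 6, nat_lit 7, nat_lit 1, nat_lit 2, nat_lit 3, nat_lit 4, nat_lit 5, nat_lit 6, nat_lit 7, nat_lit 0, nat_lit 1, nat_lit 2, nat_lit 3, nat_lit 4, nat_lit 5, nat_lit 6, nat_lit 7, nat_lit 1, nat_lit 2, nat_lit 3, nat_lit 4, nat_lit 5, nat_lit 6, nat_lit 7, nat_lit 1, nat_lit 2, nat_lit 3, nat_lit 4, nat_lit 5, nat_lit 6, nat_lit 7, nat_lit 1, nat_lit 2, nat_lit 3, nat_lit 4, nat_lit 5, nat_lit 6, nat_lit 7, nat_lit 1, nat_lit 2, nat_lit 3, nat_lit 4, nat_lit 5, nat_lit 6, nat_lit 7, nat_lit 1, nat_lit 2, nat_lit 3, nat_lit 4, nat_lit 5, nat_lit 6, nat_lit 7, nat_lit 1, nat_lit 2, nat_lit 3, nat_lit 4, nat_lit 5, nat_lit 6, nat_lit 7, nat_lit 1, nat_lit 2, nat_lit 3],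
   [nat_lit 7, nat_lit 4, nat_lit 7, nat_lit 4, nat_lit 7, nat_lit 4],
   [nat_lit 8, nat_lit 7, nat_lit 8, nat_lit 7, nat_lit 8, nat_lit 7],
   [nat_lit 8, nat_lit 1, nat_lit 8, nat_lit 1],
   [nat_lit 8, nat_lit 6, nat_lit 8, nat_lit 6],
   [nat_lit 8, nat_lit 5, nat_lit 8, nat_lit 5],
   [nat_lit 7, nat_lit 8, nat_lit 7, nat_lit 8, nat_lit 7, nat_lit 8],
   [nat_lit 6, nat_lit 7, nat_lit 6, nat_lit 7],
   [nat_lit 8, nat_lit 4, nat_lit 8, nat_lit 4],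
   [nat_lit 3, nat_lit 5, nat_lit 3, nat_lit 5],
   [nat_lit 6, nat_lit 5, nat_lit 6, nat_lit 5, nat_lit 6, nat_lit 5],
   [nat_lit 4, nat_lit 6, nat_lit 4, nat_lit 6]]]

def HT : List (List (Nat × Nat × Nat)) := [
  [(2, 0, 0), (0, 16, 1), (0, 15, 1), (0, 14, 1), (0, 13, 1), (0, 12, 1), (0, 17, 1), (0, 11, 1), (0, 18, 1), (0, 10, 1)],
  [(0, 25, 1), (0, 21, 1), (0, 26, 1), (0, 20, 1), (0, 22, 1), (0, 23, 1), (0, 24, 1), (0, 19, 1), (2, 1, 0), (0, 55, 15), (0, 1, 0), (0, 55, 0)],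
  [(0, 32, 1), (0, 28, 1), (0, 33, 1), (0, 29, 1), (0, 30, 1), (0, 31, 1), (0, 19, 0), (0, 27, 1), (2, 2, 0), (0, 55, 63), (0, 2, 0)],
  [(0, 38, 1), (0, 39, 1), (0, 35, 1), (0, 36, 1), (0, 37, 1), (0, 27, 0), (0, 20, 0), (0, 34, 1), (2, 3, 0), (1, 55, 38), (0, 3, 0), (0, 55, 55)],
  [(0, 44, 1), (0, 41, 1), (0, 42, 1), (0, 40, 1), (0, 21, 0), (0, 28, 0), (0, 34, 0), (0, 43, 1), (2, 4, 0), (0, 55, 26), (0, 55, 61), (1, 55, 4), (1, 55, 60), (0, 4, 0)],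
  [(0, 48, 1), (0, 47, 1), (0, 46, 1), (0, 45, 1), (0, 22, 0), (0, 35, 0), (0, 29, 0), (0, 40, 0), (2, 5, 0), (0, 55, 4), (1, 55, 61), (1, 55, 5), (0, 5, 0)],
  [(0, 51, 1), (0, 50, 1), (0, 41, 0), (0, 36, 0), (0, 30, 0), (0, 23, 0), (0, 45, 0), (0, 49, 1), (2, 6, 0), (0, 6, 0), (0, 55, 3)],
  [(0, 52, 0), (0, 50, 0), (0, 47, 0), (0, 43, 0), (0, 25, 0), (0, 38, 0), (0, 32, 0), (0, 54, 1), (2, 7, 0), (0, 55, 2), (0, 8, 0), (1, 55, 63)],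
  [(0, 53, 0), (0, 51, 0), (0, 48, 0), (0, 44, 0), (0, 39, 0), (0, 33, 0), (0, 26, 0), (0, 54, 0), (2, 8, 0), (0, 9, 0)],
  [(0, 49, 0), (0, 24, 0), (0, 37, 0), (0, 52, 1), (0, 31, 0), (0, 42, 0), (0, 53, 1), (0, 46, 0), (0, 7, 0)],
  [(0, 21, 0), (0, 3, 0), (0, 2, 0), (0, 1, 0), (0, 4, 0), (0, 8, 0), (0, 6, 0), (0, 5, 0), (0, 9, 0), (0, 7, 0), (1, 55, 30), (1, 55, 28), (1, 55, 52), (0, 43, 1), (0, 54, 1), (0, 26, 1), (0, 51, 1), (0, 48, 1), (0, 54, 0), (0, 50, 0), (0, 44, 1), (0, 35, 0), (0, 45, 1), (0, 41, 0)]]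

def R : List (List Nat) :=
  [[0, 0],
   [1, 1],
   [2, 2],
   [3, 3],
   [4, 4],
   [5, 5],
   [6, 6],
   [9, 9],
   [7, 7],
   [8, 8],
   [0, 1, 0, 1],
   [0, 2, 0, 2],
   [0, 3, 0, 3],
   [0, 4, 0, 4],
   [0, 5, 0, 5],
   [0, 6, 0, 6],
   [0, 9, 0, 9],
   [0, 7, 0, 7],
   [0, 8, 0, 8],
   [1, 2, 1, 2, 1, 2],
   [1, 3, 1, 3],
   [1, 4, 1, 4],
   [1, 5, 1, 5],
   [1, 6, 1, 6],
   [1, 9, 1, 9],
   [1, 7, 1, 7],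
   [1, 8, 1, 8],
   [2, 3, 2, 3, 2, 3],
   [2, 4, 2, 4],
   [2, 5, 2, 5],
   [2, 6, 2, 6],
   [2, 9, 2, 9],
   [2, 7, 2, 7],
   [2, 8, 2, 8],
   [3, 4, 3, 4, 3, 4],
   [3, 5, 3, 5],
   [3, 6, 3, 6],
   [3, 9, 3, 9],
   [3, 7, 3, 7],
   [3, 8, 3, 8],
   [4, 5, 4, 5, 4, 5],
   [4, 6, 4, 6],
   [4, 9, 4, 9],
   [4, 7, 4, 7, 4, 7],
   [4, 8, 4, 8],
   [5, 6, 5, 6, 5, 6],
   [5, 9, 5, 9],
   [5, 7, 5, 7],
   [5, 8, 5, 8],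
   [6, 9, 6, 9, 6, 9],
   [6, 7, 6, 7],
   [6, 8, 6, 8],
   [9, 7, 9, 7],
   [9, 8, 9, 8],
   [7, 8, 7, 8, 7, 8],
   [0, 7, 6, 5, 4, 3, 2, 1, 7, 6, 5, 4, 3, 2, 1, 7, 6, 5, 4, 3, 2, 1, 7, 6, 5, 4, 3, 2, 1, 7, 6, 5, 4, 3, 2, 1, 7, 6, 5, 4, 3, 2, 1, 7, 6, 5, 4, 3, 2, 1, 7, 6, 5, 4, 3, 2, 1, 7, 6, 5, 4, 3, 2, 1]]

def W : List (List Nat) := [[0],
   [1],
   [2],
   [3],
   [4],
   [5],
   [6],
   [7],
   [8]]

noncomputable def P : Par := ⟨T, (nat_lit 4), (nat_lit 15), (nat_lit 324), (nat_lit 27), (nat_lit 134217727), (nat_lit 16), (nat_lit 65535), (nat_lit 10), (nat_lit 28176), (nat_lit 35168), (nat_lit 0x5a928398a418820), RT⟩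


end Cfsg.Agent.Comp.Fi24.Pb0
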