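import Cfsg.Agent.Comp.Fi24.TopC0
import Cfsg.Agent.Comp.Fi24.TopC1
import Cfsg.Agent.Comp.Fi24.TopC2
import Cfsg.Agent.Comp.Fi24.TopC3
import Cfsg.Agent.Comp.Fi24.TopC4
import Cfsg.Agent.Comp.Fi24.TopC5
import Cfsg.Agent.Comp.Fi24.TopC6
import Cfsg.Agent.Comp.Fi24.TopC7
import Cfsg.Agent.Comp.Fi24.TopC8
import Cfsg.Agent.Comp.Fi24.TopC9
import Cfsg.Agent.Comp.Fi24.TopC10
import Cfsg.Agent.Comp.Fi24.TopC11
import Cfsg.Agent.Comp.Fi24.TopC12
import Cfsg.Agent.Comp.Fi24.TopC13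
import Cfsg.Agent.Comp.Fi24.TopC14
import Cfsg.Agent.Comp.Fi24.TopC15
import Cfsg.Agent.Comp.Fi24.TopC16
import Cfsg.Agent.Comp.Fi24.TopC17
import Cfsg.Agent.Comp.Fi24.TopC18
import Cfsg.Agent.Comp.Fi24.TopC19

set_option autoImplicit false
set_option maxRecDepth 100000

namespace Cfsg.Agent.Comp.Fi24.Top
open Cfsg.Agent.Comp

theorem index.{u} : IndexLe.{u} 12 Fi24.R W 306936 :=
  indexLe_of_cert P HT (by decide +kernel)
    (show P.RowsOK 16 308176 from (Par.RowsOK.join (Par.RowsOK.join (Par.RowsOK.join (Par.RowsOK.join (Par.RowsOK.join (Par.RowsOK.join r0 (Par.RowsOK.join r1 r2)) (Par.RowsOK.join (Par.RowsOK.join r3 r4) (Par.RowsOK.join r5 r6))) (Par.RowsOK.join (Par.RowsOK.join r7 (Par.RowsOK.join r8 r9)) (Par.RowsOK.join (Par.RowsOK.join r10 r11) (Par.RowsOK.join r12 r13)))) (Par.RowsOK.join (Par.RowsOK.join (Par.RowsOK.join r14 (Par.RowsOK.join r15 r16)) (Par.RowsOK.join (Par.RowsOK.join r17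 r18) (Par.RowsOK.join r19 r20))) (Par.RowsOK.join (Par.RowsOK.join (Par.RowsOK.join r21 r22) (Par.RowsOK.join r23 r24)) (Par.RowsOK.join (Par.RowsOK.join r25 r26) (Par.RowsOK.join r27 r28))))) (Par.RowsOK.join (Par.RowsOK.join (Par.RowsOK.join (Par.RowsOK.join r29 (Par.RowsOK.join r30 r31)) (Par.RowsOK.join (Par.RowsOK.join r32 r33) (Par.RowsOK.join r34 r35))) (Par.RowsOK.join (Par.RowsOK.join (Par.RowsOK.join r36 r37) (Par.RowsOK.join r38 r39)) (Par.RowsOK.join (Par.RowsOK.join r40 r41) (Par.RowsOK.join r42 r43)))) (Par.RowsOK.join (Par.RowsOK.join (Par.RowsOK.join r44 (Par.RowsOK.join r45 r46)) (Par.RowsOK.join (Par.RowsOK.join r47 r48) (Par.RowsOK.join r49 r50))) (Par.RowsOK.join (Par.RowsOK.join (Par.RowsOK.join r51 r52) (Par.RowsOK.join r53 r54)) (Par.RowsOK.join (Par.RowsOK.join r55 r56) (Par.RowsOK.join r57 r58)))))) (Par.RowsOK.join (Par.RowsOK.join (Par.RowsOK.join (Par.RowsOK.join (Par.RowsOK.join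 r59 (Par.RowsOK.join r60 r61)) (Par.RowsOK.join (Par.RowsOK.join r62 r63) (Par.RowsOK.join r64 r65))) (Par.RowsOK.join (Par.RowsOK.join r66 (Par.RowsOK.join r67 r68)) (Par.RowsOK.join (Par.RowsOK.join r69 r70) (Par.RowsOK.join r71 r72)))) (Par.RowsOK.join (Par.RowsOK.join (Par.RowsOK.join r73 (Par.RowsOK.join r74 r75)) (Par.RowsOK.join (Par.RowsOK.join r76 r77) (Par.RowsOK.join r78 r79))) (Par.RowsOK.join (Par.RowsOK.join (Par.RowsOK.join r80 r81) (Par.RowsOK.join r82 r83)) (Par.RowsOK.join (Par.RowsOK.join r84 r85) (Par.RowsOK.join r86 r87))))) (Par.RowsOK.join (Par.RowsOK.join (Par.RowsOK.join (Par.RowsOK.join r88 (Par.RowsOK.join r89 r90)) (Par.RowsOK.join (Par.RowsOK.join r91 r92) (Par.RowsOK.join r93 r94))) (Par.RowsOK.join (Par.RowsOK.join (Par.RowsOK.join r95 r96) (Par.RowsOK.join r97 r98)) (Par.RowsOK.join (Par.RowsOK.join r99 r100) (Par.RowsOK.join r101 r102)))) (Par.RowsOK.join (Par.RowsOK.join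 (Par.RowsOK.join r103 (Par.RowsOK.join r104 r105)) (Par.RowsOK.join (Par.RowsOK.join r106 r107) (Par.RowsOK.join r108 r109))) (Par.RowsOK.join (Par.RowsOK.join (Par.RowsOK.join r110 r111) (Par.RowsOK.join r112 r113)) (Par.RowsOK.join (Par.RowsOK.join r114 r115) (Par.RowsOK.join r116 r117))))))))

end Cfsg.Agent.Comp.Fi24.Top
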