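import Cfsg.Agent.Comp.Fi24.SatD

set_option autoImplicit false
set_option maxRecDepth 100000

namespace Cfsg.Agent.Comp.Fi24
open Cfsg.Agent.Comp

theorem satA_24_10 : SatP 306936 10 19 T satA_24L :=
  satP_of_relsP ok (by norm_num) (by norm_num) (by norm_num) (show relsP (nat_lit 306936) (nat_lit 19) (nat_lit 10) (nat_lit 9) T satA_24L = true by decide +kernel)

theorem satA_25_0 : SatP 306936 0 10 T satA_25L :=
  satP_of_relsP ok (by norm_num) (by norm_num) (by norm_num) (show relsP (nat_lit 306936) (nat_lit 19) (nat_lit 0) (nat_lit 10) T satA_25L = true by decide +kernel)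

theorem satA_25_10 : SatP 306936 10 19 T satA_25L :=
  satP_of_relsP ok (by norm_num) (by norm_num) (by norm_num) (show relsP (nat_lit 306936) (nat_lit 19) (nat_lit 10) (nat_lit 9) T satA_25L = true by decide +kernel)

theorem satA_26_0 : SatP 306936 0 10 T satA_26L :=
  satP_of_relsP ok (by norm_num) (by norm_num) (by norm_num) (show relsP (nat_lit 306936) (nat_lit 19) (nat_lit 0) (nat_lit 10) T satA_26L = true by decide +kernel)

theorem satA_26_10 : SatP 306936 10 19 T satA_26L :=
  satP_of_relsP ok (by norm_num) (by norm_num) (by norm_num) (show relsP (nat_lit 306936) (nat_lit 19) (nat_lit 10) (nat_lit 9) T satA_26L = true by decide +kernel)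

theorem satA_27_0 : SatP 306936 0 10 T satA_27L :=
  satP_of_relsP ok (by norm_num) (by norm_num) (by norm_num) (show relsP (nat_lit 306936) (nat_lit 19) (nat_lit 0) (nat_lit 10) T satA_27L = true by decide +kernel)

theorem satA_27_10 : SatP 306936 10 19 T satA_27L :=
  satP_of_relsP ok (by norm_num) (by norm_num) (by norm_num) (show relsP (nat_lit 306936) (nat_lit 19) (nat_lit 10) (nat_lit 9) T satA_27L = true by decide +kernel)

theorem satA_28_0 : SatP 306936 0 10 T satA_28L :=
  satP_of_relsP ok (by norm_num) (by norm_num) (by norm_num) (show relsP (nat_lit 306936) (nat_lit 19) (nat_lit 0) (nat_lit 10) T satA_28L = true by decide +kernel)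

theorem satA_28_10 : SatP 306936 10 19 T satA_28L :=
  satP_of_relsP ok (by norm_num) (by norm_num) (by norm_num) (show relsP (nat_lit 306936) (nat_lit 19) (nat_lit 10) (nat_lit 9) T satA_28L = true by decide +kernel)

theorem satA_29_0 : SatP 306936 0 10 T satA_29L :=
  satP_of_relsP ok (by norm_num) (by norm_num) (by norm_num) (show relsP (nat_lit 306936) (nat_lit 19) (nat_lit 0) (nat_lit 10) T satA_29L = true by decide +kernel)

theorem satA_29_10 : SatP 306936 10 19 T satA_29L :=
  satP_of_relsP ok (by norm_num) (by norm_num) (by norm_num) (show relsP (nat_lit 306936) (nat_lit 19) (nat_lit 10) (nat_lit 9) T satA_29L = true by decide +kernel)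

theorem satA_30_0 : SatP 306936 0 10 T satA_30L :=
  satP_of_relsP ok (by norm_num) (by norm_num) (by norm_num) (show relsP (nat_lit 306936) (nat_lit 19) (nat_lit 0) (nat_lit 10) T satA_30L = true by decide +kernel)

theorem satA_30_10 : SatP 306936 10 19 T satA_30L :=
  satP_of_relsP ok (by norm_num) (by norm_num) (by norm_num) (show relsP (nat_lit 306936) (nat_lit 19) (nat_lit 10) (nat_lit 9) T satA_30L = true by decide +kernel)

theorem satA_31_0 : SatP 306936 0 10 T satA_31L :=
  satP_of_relsP ok (by norm_num) (by norm_num) (by norm_num) (show relsP (nat_lit 306936) (nat_lit 19) (nat_lit 0) (nat_lit 10) T satA_31L = true by decide +kernel)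

theorem satA_31_10 : SatP 306936 10 19 T satA_31L :=
  satP_of_relsP ok (by norm_num) (by norm_num) (by norm_num) (show relsP (nat_lit 306936) (nat_lit 19) (nat_lit 10) (nat_lit 9) T satA_31L = true by decide +kernel)

theorem satA_32_0 : SatP 306936 0 10 T satA_32L :=
  satP_of_relsP ok (by norm_num) (by norm_num) (by norm_num) (show relsP (nat_lit 306936) (nat_lit 19) (nat_lit 0) (nat_lit 10) T satA_32L = true by decide +kernel)

theorem satA_32_10 : SatP 306936 10 19 T satA_32L :=
  satP_of_relsP ok (by norm_num) (by norm_num) (by norm_num) (show relsP (nat_lit 306936) (nat_lit 19) (nat_lit 10) (nat_lit 9) T satA_32L = true by decide +kernel)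

theorem satA_33_0 : SatP 306936 0 10 T satA_33L :=
  satP_of_relsP ok (by norm_num) (by norm_num) (by norm_num) (show relsP (nat_lit 306936) (nat_lit 19) (nat_lit 0) (nat_lit 10) T satA_33L = true by decide +kernel)

theorem satA_33_10 : SatP 306936 10 19 T satA_33L :=
  satP_of_relsP ok (by norm_num) (by norm_num) (by norm_num) (show relsP (nat_lit 306936) (nat_lit 19) (nat_lit 10) (nat_lit 9) T satA_33L = true by decide +kernel)

theorem satA_34_0 : SatP 306936 0 10 T satA_34L :=
  satP_of_relsP ok (by norm_num) (by norm_num) (by norm_num) (show relsP (nat_lit 306936) (nat_lit 19) (nat_lit 0) (nat_lit 10) T satA_34L = true by decide +kernel)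

theorem satA_34_10 : SatP 306936 10 19 T satA_34L :=
  satP_of_relsP ok (by norm_num) (by norm_num) (by norm_num) (show relsP (nat_lit 306936) (nat_lit 19) (nat_lit 10) (nat_lit 9) T satA_34L = true by decide +kernel)

theorem satA_35_0 : SatP 306936 0 10 T satA_35L :=
  satP_of_relsP ok (by norm_num) (by norm_num) (by norm_num) (show relsP (nat_lit 306936) (nat_lit 19) (nat_lit 0) (nat_lit 10) T satA_35L = true by decide +kernel)

theorem satA_35_10 : SatP 306936 10 19 T satA_35L :=
  satP_of_relsP ok (by norm_num) (by norm_num) (by norm_num) (show relsP (nat_lit 306936) (nat_lit 19) (nat_lit 10) (nat_lit 9) T satA_35L = true by decide +kernel)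

theorem satA_36_0 : SatP 306936 0 10 T satA_36L :=
  satP_of_relsP ok (by norm_num) (by norm_num) (by norm_num) (show relsP (nat_lit 306936) (nat_lit 19) (nat_lit 0) (nat_lit 10) T satA_36L = true by decide +kernel)

theorem satA_36_10 : SatP 306936 10 19 T satA_36L :=
  satP_of_relsP ok (by norm_num) (by norm_num) (by norm_num) (show relsP (nat_lit 306936) (nat_lit 19) (nat_lit 10) (nat_lit 9) T satA_36L = true by decide +kernel)

theorem satA_37_0 : SatP 306936 0 10 T satA_37L :=
  satP_of_relsP ok (by norm_num) (by norm_num) (by norm_num) (show relsP (nat_lit 306936) (nat_lit 19) (nat_lit 0) (nat_lit 10) T satA_37L = true by decide +kernel)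

theorem satA_37_10 : SatP 306936 10 19 T satA_37L :=
  satP_of_relsP ok (by norm_num) (by norm_num) (by norm_num) (show relsP (nat_lit 306936) (nat_lit 19) (nat_lit 10) (nat_lit 9) T satA_37L = true by decide +kernel)

theorem satA_38_0 : SatP 306936 0 10 T satA_38L :=
  satP_of_relsP ok (by norm_num) (by norm_num) (by norm_num) (show relsP (nat_lit 306936) (nat_lit 19) (nat_lit 0) (nat_lit 10) T satA_38L = true by decide +kernel)

theorem satA_38_10 : SatP 306936 10 19 T satA_38L :=
  satP_of_relsP ok (by norm_num) (by norm_num) (by norm_num) (show relsP (nat_lit 306936) (nat_lit 19) (nat_lit 10) (nat_lit 9) T satA_38L = true by decide +kernel)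

theorem satA_39_0 : SatP 306936 0 10 T satA_39L :=
  satP_of_relsP ok (by norm_num) (by norm_num) (by norm_num) (show relsP (nat_lit 306936) (nat_lit 19) (nat_lit 0) (nat_lit 10) T satA_39L = true by decide +kernel)

theorem satA_39_10 : SatP 306936 10 19 T satA_39L :=
  satP_of_relsP ok (by norm_num) (by norm_num) (by norm_num) (show relsP (nat_lit 306936) (nat_lit 19) (nat_lit 10) (nat_lit 9) T satA_39L = true by decide +kernel)

theorem satA_40_0 : SatP 306936 0 10 T satA_40L :=
  satP_of_relsP ok (by norm_num) (by norm_num) (by norm_num) (show relsP (nat_lit 306936) (nat_lit 19) (nat_lit 0) (nat_lit 10) T satA_40L = true by decide +kernel)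

theorem satA_40_10 : SatP 306936 10 19 T satA_40L :=
  satP_of_relsP ok (by norm_num) (by norm_num) (by norm_num) (show relsP (nat_lit 306936) (nat_lit 19) (nat_lit 10) (nat_lit 9) T satA_40L = true by decide +kernel)

theorem satA_41_0 : SatP 306936 0 10 T satA_41L :=
  satP_of_relsP ok (by norm_num) (by norm_num) (by norm_num) (show relsP (nat_lit 306936) (nat_lit 19) (nat_lit 0) (nat_lit 10) T satA_41L = true by decide +kernel)

theorem satA_41_10 : SatP 306936 10 19 T satA_41L :=
  satP_of_relsP ok (by norm_num) (by norm_num) (by norm_num) (show relsP (nat_lit 306936) (nat_lit 19) (nat_lit 10) (nat_lit 9) T satA_41L = true by decide +kernel)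

theorem satA_42_0 : SatP 306936 0 10 T satA_42L :=
  satP_of_relsP ok (by norm_num) (by norm_num) (by norm_num) (show relsP (nat_lit 306936) (nat_lit 19) (nat_lit 0) (nat_lit 10) T satA_42L = true by decide +kernel)

theorem satA_42_10 : SatP 306936 10 19 T satA_42L :=
  satP_of_relsP ok (by norm_num) (by norm_num) (by norm_num) (show relsP (nat_lit 306936) (nat_lit 19) (nat_lit 10) (nat_lit 9) T satA_42L = true by decide +kernel)


end Cfsg.Agent.Comp.Fi24
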