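import Cfsg.Agent.Comp.Fi24.SatD

set_option autoImplicit false
set_option maxRecDepth 100000

namespace Cfsg.Agent.Comp.Fi24
open Cfsg.Agent.Comp

theorem satA_43_0 : SatP 306936 0 10 T satA_43L :=
  satP_of_relsP ok (by norm_num) (by norm_num) (by norm_num) (show relsP (nat_lit 306936) (nat_lit 19) (nat_lit 0) (nat_lit 10) T satA_43L = true by decide +kernel)

theorem satA_43_10 : SatP 306936 10 19 T satA_43L :=
  satP_of_relsP ok (by norm_num) (by norm_num) (by norm_num) (show relsP (nat_lit 306936) (nat_lit 19) (nat_lit 10) (nat_lit 9) T satA_43L = true by decide +kernel)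

theorem satA_44_0 : SatP 306936 0 10 T satA_44L :=
  satP_of_relsP ok (by norm_num) (by norm_num) (by norm_num) (show relsP (nat_lit 306936) (nat_lit 19) (nat_lit 0) (nat_lit 10) T satA_44L = true by decide +kernel)

theorem satA_44_10 : SatP 306936 10 19 T satA_44L :=
  satP_of_relsP ok (by norm_num) (by norm_num) (by norm_num) (show relsP (nat_lit 306936) (nat_lit 19) (nat_lit 10) (nat_lit 9) T satA_44L = true by decide +kernel)

theorem satA_45_0 : SatP 306936 0 10 T satA_45L :=
  satP_of_relsP ok (by norm_num) (by norm_num) (by norm_num) (show relsP (nat_lit 306936) (nat_lit 19) (nat_lit 0) (nat_lit 10) T satA_45L = true by decide +kernel)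

theorem satA_45_10 : SatP 306936 10 19 T satA_45L :=
  satP_of_relsP ok (by norm_num) (by norm_num) (by norm_num) (show relsP (nat_lit 306936) (nat_lit 19) (nat_lit 10) (nat_lit 9) T satA_45L = true by decide +kernel)

theorem satA_46_0 : SatP 306936 0 10 T satA_46L :=
  satP_of_relsP ok (by norm_num) (by norm_num) (by norm_num) (show relsP (nat_lit 306936) (nat_lit 19) (nat_lit 0) (nat_lit 10) T satA_46L = true by decide +kernel)

theorem satA_46_10 : SatP 306936 10 19 T satA_46L :=
  satP_of_relsP ok (by norm_num) (by norm_num) (by norm_num) (show relsP (nat_lit 306936) (nat_lit 19) (nat_lit 10) (nat_lit 9) T satA_46L = true by decide +kernel)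

theorem satA_47_0 : SatP 306936 0 10 T satA_47L :=
  satP_of_relsP ok (by norm_num) (by norm_num) (by norm_num) (show relsP (nat_lit 306936) (nat_lit 19) (nat_lit 0) (nat_lit 10) T satA_47L = true by decide +kernel)

theorem satA_47_10 : SatP 306936 10 19 T satA_47L :=
  satP_of_relsP ok (by norm_num) (by norm_num) (by norm_num) (show relsP (nat_lit 306936) (nat_lit 19) (nat_lit 10) (nat_lit 9) T satA_47L = true by decide +kernel)

theorem satA_48_0 : SatP 306936 0 10 T satA_48L :=
  satP_of_relsP ok (by norm_num) (by norm_num) (by norm_num) (show relsP (nat_lit 306936) (nat_lit 19) (nat_lit 0) (nat_lit 10) T satA_48L = true by decide +kernel)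

theorem satA_48_10 : SatP 306936 10 19 T satA_48L :=
  satP_of_relsP ok (by norm_num) (by norm_num) (by norm_num) (show relsP (nat_lit 306936) (nat_lit 19) (nat_lit 10) (nat_lit 9) T satA_48L = true by decide +kernel)

theorem satA_49_0 : SatP 306936 0 10 T satA_49L :=
  satP_of_relsP ok (by norm_num) (by norm_num) (by norm_num) (show relsP (nat_lit 306936) (nat_lit 19) (nat_lit 0) (nat_lit 10) T satA_49L = true by decide +kernel)

theorem satA_49_10 : SatP 306936 10 19 T satA_49L :=
  satP_of_relsP ok (by norm_num) (by norm_num) (by norm_num) (show relsP (nat_lit 306936) (nat_lit 19) (nat_lit 10) (nat_lit 9) T satA_49L = true by decide +kernel)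

theorem satA_50_0 : SatP 306936 0 10 T satA_50L :=
  satP_of_relsP ok (by norm_num) (by norm_num) (by norm_num) (show relsP (nat_lit 306936) (nat_lit 19) (nat_lit 0) (nat_lit 10) T satA_50L = true by decide +kernel)

theorem satA_50_10 : SatP 306936 10 19 T satA_50L :=
  satP_of_relsP ok (by norm_num) (by norm_num) (by norm_num) (show relsP (nat_lit 306936) (nat_lit 19) (nat_lit 10) (nat_lit 9) T satA_50L = true by decide +kernel)

theorem satA_51_0 : SatP 306936 0 10 T satA_51L :=
  satP_of_relsP ok (by norm_num) (by norm_num) (by norm_num) (show relsP (nat_lit 306936) (nat_lit 19) (nat_lit 0) (nat_lit 10) T satA_51L = true by decide +kernel)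

theorem satA_51_10 : SatP 306936 10 19 T satA_51L :=
  satP_of_relsP ok (by norm_num) (by norm_num) (by norm_num) (show relsP (nat_lit 306936) (nat_lit 19) (nat_lit 10) (nat_lit 9) T satA_51L = true by decide +kernel)

theorem satA_52_0 : SatP 306936 0 10 T satA_52L :=
  satP_of_relsP ok (by norm_num) (by norm_num) (by norm_num) (show relsP (nat_lit 306936) (nat_lit 19) (nat_lit 0) (nat_lit 10) T satA_52L = true by decide +kernel)

theorem satA_52_10 : SatP 306936 10 19 T satA_52L :=
  satP_of_relsP ok (by norm_num) (by norm_num) (by norm_num) (show relsP (nat_lit 306936) (nat_lit 19) (nat_lit 10) (nat_lit 9) T satA_52L = true by decide +kernel)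

theorem satA_53_0 : SatP 306936 0 10 T satA_53L :=
  satP_of_relsP ok (by norm_num) (by norm_num) (by norm_num) (show relsP (nat_lit 306936) (nat_lit 19) (nat_lit 0) (nat_lit 10) T satA_53L = true by decide +kernel)

theorem satA_53_10 : SatP 306936 10 19 T satA_53L :=
  satP_of_relsP ok (by norm_num) (by norm_num) (by norm_num) (show relsP (nat_lit 306936) (nat_lit 19) (nat_lit 10) (nat_lit 9) T satA_53L = true by decide +kernel)

theorem satA_54_0 : SatP 306936 0 10 T satA_54L :=
  satP_of_relsP ok (by norm_num) (by norm_num) (by norm_num) (show relsP (nat_lit 306936) (nat_lit 19) (nat_lit 0) (nat_lit 10) T satA_54L = true by decide +kernel)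

theorem satA_54_10 : SatP 306936 10 19 T satA_54L :=
  satP_of_relsP ok (by norm_num) (by norm_num) (by norm_num) (show relsP (nat_lit 306936) (nat_lit 19) (nat_lit 10) (nat_lit 9) T satA_54L = true by decide +kernel)

theorem satA_55_0 : SatP 306936 0 10 T satA_55L :=
  satP_of_relsP ok (by norm_num) (by norm_num) (by norm_num) (show relsP (nat_lit 306936) (nat_lit 19) (nat_lit 0) (nat_lit 10) T satA_55L = true by decide +kernel)

theorem satA_55_10 : SatP 306936 10 19 T satA_55L :=
  satP_of_relsP ok (by norm_num) (by norm_num) (by norm_num) (show relsP (nat_lit 306936) (nat_lit 19) (nat_lit 10) (nat_lit 9) T satA_55L = true by decide +kernel)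

theorem satA_56_0 : SatP 306936 0 10 T satA_56L :=
  satP_of_relsP ok (by norm_num) (by norm_num) (by norm_num) (show relsP (nat_lit 306936) (nat_lit 19) (nat_lit 0) (nat_lit 10) T satA_56L = true by decide +kernel)

theorem satA_56_10 : SatP 306936 10 19 T satA_56L :=
  satP_of_relsP ok (by norm_num) (by norm_num) (by norm_num) (show relsP (nat_lit 306936) (nat_lit 19) (nat_lit 10) (nat_lit 9) T satA_56L = true by decide +kernel)

theorem satA_57_0 : SatP 306936 0 10 T satA_57L :=
  satP_of_relsP ok (by norm_num) (by norm_num) (by norm_num) (show relsP (nat_lit 306936) (nat_lit 19) (nat_lit 0) (nat_lit 10) T satA_57L = true by decide +kernel)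

theorem satA_57_10 : SatP 306936 10 19 T satA_57L :=
  satP_of_relsP ok (by norm_num) (by norm_num) (by norm_num) (show relsP (nat_lit 306936) (nat_lit 19) (nat_lit 10) (nat_lit 9) T satA_57L = true by decide +kernel)

theorem satA_58_0 : SatP 306936 0 10 T satA_58L :=
  satP_of_relsP ok (by norm_num) (by norm_num) (by norm_num) (show relsP (nat_lit 306936) (nat_lit 19) (nat_lit 0) (nat_lit 10) T satA_58L = true by decide +kernel)

theorem satA_58_10 : SatP 306936 10 19 T satA_58L :=
  satP_of_relsP ok (by norm_num) (by norm_num) (by norm_num) (show relsP (nat_lit 306936) (nat_lit 19) (nat_lit 10) (nat_lit 9) T satA_58L = true by decide +kernel)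

theorem satA_59_0 : SatP 306936 0 10 T satA_59L :=
  satP_of_relsP ok (by norm_num) (by norm_num) (by norm_num) (show relsP (nat_lit 306936) (nat_lit 19) (nat_lit 0) (nat_lit 10) T satA_59L = true by decide +kernel)

theorem satA_59_10 : SatP 306936 10 19 T satA_59L :=
  satP_of_relsP ok (by norm_num) (by norm_num) (by norm_num) (show relsP (nat_lit 306936) (nat_lit 19) (nat_lit 10) (nat_lit 9) T satA_59L = true by decide +kernel)

theorem satA_60_0 : SatP 306936 0 10 T satA_60L :=
  satP_of_relsP ok (by norm_num) (by norm_num) (by norm_num) (show relsP (nat_lit 306936) (nat_lit 19) (nat_lit 0) (nat_lit 10) T satA_60L = true by decide +kernel)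

theorem satA_60_10 : SatP 306936 10 19 T satA_60L :=
  satP_of_relsP ok (by norm_num) (by norm_num) (by norm_num) (show relsP (nat_lit 306936) (nat_lit 19) (nat_lit 10) (nat_lit 9) T satA_60L = true by decide +kernel)


end Cfsg.Agent.Comp.Fi24
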