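import Cfsg.Agent.Comp.Fi24.SatD

set_option autoImplicit false
set_option maxRecDepth 100000

namespace Cfsg.Agent.Comp.Fi24
open Cfsg.Agent.Comp

theorem satA_61_0 : SatP 306936 0 10 T satA_61L :=
  satP_of_relsP ok (by norm_num) (by norm_num) (by norm_num) (show relsP (nat_lit 306936) (nat_lit 19) (nat_lit 0) (nat_lit 10) T satA_61L = true by decide +kernel)

theorem satA_61_10 : SatP 306936 10 19 T satA_61L :=
  satP_of_relsP ok (by norm_num) (by norm_num) (by norm_num) (show relsP (nat_lit 306936) (nat_lit 19) (nat_lit 10) (nat_lit 9) T satA_61L = true by decide +kernel)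

theorem satA_62_0 : SatP 306936 0 10 T satA_62L :=
  satP_of_relsP ok (by norm_num) (by norm_num) (by norm_num) (show relsP (nat_lit 306936) (nat_lit 19) (nat_lit 0) (nat_lit 10) T satA_62L = true by decide +kernel)

theorem satA_62_10 : SatP 306936 10 19 T satA_62L :=
  satP_of_relsP ok (by norm_num) (by norm_num) (by norm_num) (show relsP (nat_lit 306936) (nat_lit 19) (nat_lit 10) (nat_lit 9) T satA_62L = true by decide +kernel)

theorem satA_63_0 : SatP 306936 0 10 T satA_63L :=
  satP_of_relsP ok (by norm_num) (by norm_num) (by norm_num) (show relsP (nat_lit 306936) (nat_lit 19) (nat_lit 0) (nat_lit 10) T satA_63L = true by decide +kernel)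

theorem satA_63_10 : SatP 306936 10 19 T satA_63L :=
  satP_of_relsP ok (by norm_num) (by norm_num) (by norm_num) (show relsP (nat_lit 306936) (nat_lit 19) (nat_lit 10) (nat_lit 9) T satA_63L = true by decide +kernel)

theorem satA_64_0 : SatP 306936 0 10 T satA_64L :=
  satP_of_relsP ok (by norm_num) (by norm_num) (by norm_num) (show relsP (nat_lit 306936) (nat_lit 19) (nat_lit 0) (nat_lit 10) T satA_64L = true by decide +kernel)

theorem satA_64_10 : SatP 306936 10 19 T satA_64L :=
  satP_of_relsP ok (by norm_num) (by norm_num) (by norm_num) (show relsP (nat_lit 306936) (nat_lit 19) (nat_lit 10) (nat_lit 9) T satA_64L = true by decide +kernel)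

theorem satA_65_0 : SatP 306936 0 10 T satA_65L :=
  satP_of_relsP ok (by norm_num) (by norm_num) (by norm_num) (show relsP (nat_lit 306936) (nat_lit 19) (nat_lit 0) (nat_lit 10) T satA_65L = true by decide +kernel)

theorem satA_65_10 : SatP 306936 10 19 T satA_65L :=
  satP_of_relsP ok (by norm_num) (by norm_num) (by norm_num) (show relsP (nat_lit 306936) (nat_lit 19) (nat_lit 10) (nat_lit 9) T satA_65L = true by decide +kernel)

theorem satA_66_0 : SatP 306936 0 10 T satA_66L :=
  satP_of_relsP ok (by norm_num) (by norm_num) (by norm_num) (show relsP (nat_lit 306936) (nat_lit 19) (nat_lit 0) (nat_lit 10) T satA_66L = true by decide +kernel)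

theorem satA_66_10 : SatP 306936 10 19 T satA_66L :=
  satP_of_relsP ok (by norm_num) (by norm_num) (by norm_num) (show relsP (nat_lit 306936) (nat_lit 19) (nat_lit 10) (nat_lit 9) T satA_66L = true by decide +kernel)

theorem satA_67_0 : SatP 306936 0 10 T satA_67L :=
  satP_of_relsP ok (by norm_num) (by norm_num) (by norm_num) (show relsP (nat_lit 306936) (nat_lit 19) (nat_lit 0) (nat_lit 10) T satA_67L = true by decide +kernel)

theorem satA_67_10 : SatP 306936 10 19 T satA_67L :=
  satP_of_relsP ok (by norm_num) (by norm_num) (by norm_num) (show relsP (nat_lit 306936) (nat_lit 19) (nat_lit 10) (nat_lit 9) T satA_67L = true by decide +kernel)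

theorem satA_68_0 : SatP 306936 0 10 T satA_68L :=
  satP_of_relsP ok (by norm_num) (by norm_num) (by norm_num) (show relsP (nat_lit 306936) (nat_lit 19) (nat_lit 0) (nat_lit 10) T satA_68L = true by decide +kernel)

theorem satA_68_10 : SatP 306936 10 19 T satA_68L :=
  satP_of_relsP ok (by norm_num) (by norm_num) (by norm_num) (show relsP (nat_lit 306936) (nat_lit 19) (nat_lit 10) (nat_lit 9) T satA_68L = true by decide +kernel)

theorem satA_69_0 : SatP 306936 0 10 T satA_69L :=
  satP_of_relsP ok (by norm_num) (by norm_num) (by norm_num) (show relsP (nat_lit 306936) (nat_lit 19) (nat_lit 0) (nat_lit 10) T satA_69L = true by decide +kernel)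

theorem satA_69_10 : SatP 306936 10 19 T satA_69L :=
  satP_of_relsP ok (by norm_num) (by norm_num) (by norm_num) (show relsP (nat_lit 306936) (nat_lit 19) (nat_lit 10) (nat_lit 9) T satA_69L = true by decide +kernel)

theorem satA_70_0 : SatP 306936 0 10 T satA_70L :=
  satP_of_relsP ok (by norm_num) (by norm_num) (by norm_num) (show relsP (nat_lit 306936) (nat_lit 19) (nat_lit 0) (nat_lit 10) T satA_70L = true by decide +kernel)

theorem satA_70_10 : SatP 306936 10 19 T satA_70L :=
  satP_of_relsP ok (by norm_num) (by norm_num) (by norm_num) (show relsP (nat_lit 306936) (nat_lit 19) (nat_lit 10) (nat_lit 9) T satA_70L = true by decide +kernel)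

theorem satA_71_0 : SatP 306936 0 10 T satA_71L :=
  satP_of_relsP ok (by norm_num) (by norm_num) (by norm_num) (show relsP (nat_lit 306936) (nat_lit 19) (nat_lit 0) (nat_lit 10) T satA_71L = true by decide +kernel)

theorem satA_71_10 : SatP 306936 10 19 T satA_71L :=
  satP_of_relsP ok (by norm_num) (by norm_num) (by norm_num) (show relsP (nat_lit 306936) (nat_lit 19) (nat_lit 10) (nat_lit 9) T satA_71L = true by decide +kernel)

theorem satA_72_0 : SatP 306936 0 10 T satA_72L :=
  satP_of_relsP ok (by norm_num) (by norm_num) (by norm_num) (show relsP (nat_lit 306936) (nat_lit 19) (nat_lit 0) (nat_lit 10) T satA_72L = true by decide +kernel)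

theorem satA_72_10 : SatP 306936 10 19 T satA_72L :=
  satP_of_relsP ok (by norm_num) (by norm_num) (by norm_num) (show relsP (nat_lit 306936) (nat_lit 19) (nat_lit 10) (nat_lit 9) T satA_72L = true by decide +kernel)

theorem satA_73_0 : SatP 306936 0 10 T satA_73L :=
  satP_of_relsP ok (by norm_num) (by norm_num) (by norm_num) (show relsP (nat_lit 306936) (nat_lit 19) (nat_lit 0) (nat_lit 10) T satA_73L = true by decide +kernel)

theorem satA_73_10 : SatP 306936 10 19 T satA_73L :=
  satP_of_relsP ok (by norm_num) (by norm_num) (by norm_num) (show relsP (nat_lit 306936) (nat_lit 19) (nat_lit 10) (nat_lit 9) T satA_73L = true by decide +kernel)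

theorem satA_74_0 : SatP 306936 0 10 T satA_74L :=
  satP_of_relsP ok (by norm_num) (by norm_num) (by norm_num) (show relsP (nat_lit 306936) (nat_lit 19) (nat_lit 0) (nat_lit 10) T satA_74L = true by decide +kernel)

theorem satA_74_10 : SatP 306936 10 19 T satA_74L :=
  satP_of_relsP ok (by norm_num) (by norm_num) (by norm_num) (show relsP (nat_lit 306936) (nat_lit 19) (nat_lit 10) (nat_lit 9) T satA_74L = true by decide +kernel)

theorem satA_75_0 : SatP 306936 0 10 T satA_75L :=
  satP_of_relsP ok (by norm_num) (by norm_num) (by norm_num) (show relsP (nat_lit 306936) (nat_lit 19) (nat_lit 0) (nat_lit 10) T satA_75L = true by decide +kernel)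

theorem satA_75_10 : SatP 306936 10 19 T satA_75L :=
  satP_of_relsP ok (by norm_num) (by norm_num) (by norm_num) (show relsP (nat_lit 306936) (nat_lit 19) (nat_lit 10) (nat_lit 9) T satA_75L = true by decide +kernel)

theorem satA_76_0 : SatP 306936 0 10 T satA_76L :=
  satP_of_relsP ok (by norm_num) (by norm_num) (by norm_num) (show relsP (nat_lit 306936) (nat_lit 19) (nat_lit 0) (nat_lit 10) T satA_76L = true by decide +kernel)

theorem satA_76_10 : SatP 306936 10 19 T satA_76L :=
  satP_of_relsP ok (by norm_num) (by norm_num) (by norm_num) (show relsP (nat_lit 306936) (nat_lit 19) (nat_lit 10) (nat_lit 9) T satA_76L = true by decide +kernel)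

theorem satA_77_0 : SatP 306936 0 10 T satA_77L :=
  satP_of_relsP ok (by norm_num) (by norm_num) (by norm_num) (show relsP (nat_lit 306936) (nat_lit 19) (nat_lit 0) (nat_lit 10) T satA_77L = true by decide +kernel)

theorem satA_77_10 : SatP 306936 10 19 T satA_77L :=
  satP_of_relsP ok (by norm_num) (by norm_num) (by norm_num) (show relsP (nat_lit 306936) (nat_lit 19) (nat_lit 10) (nat_lit 9) T satA_77L = true by decide +kernel)


end Cfsg.Agent.Comp.Fi24
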