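import Cfsg.Agent.Comp.Fi24.SatD

set_option autoImplicit false
set_option maxRecDepth 100000

namespace Cfsg.Agent.Comp.Fi24
open Cfsg.Agent.Comp

theorem satB_0_0 : SatP 306936 0 7 T2 satB_0L :=
  satP_of_relsP ok2 (by norm_num) (by norm_num) (by norm_num) (show relsP (nat_lit 306936) (nat_lit 19) (nat_lit 0) (nat_lit 7) T2 satB_0L = true by decide +kernel)

theorem satB_0_7 : SatP 306936 7 14 T2 satB_0L :=
  satP_of_relsP ok2 (by norm_num) (by norm_num) (by norm_num) (show relsP (nat_lit 306936) (nat_lit 19) (nat_lit 7) (nat_lit 7) T2 satB_0L = true by decide +kernel)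

theorem satB_0_14 : SatP 306936 14 19 T2 satB_0L :=
  satP_of_relsP ok2 (by norm_num) (by norm_num) (by norm_num) (show relsP (nat_lit 306936) (nat_lit 19) (nat_lit 14) (nat_lit 5) T2 satB_0L = true by decide +kernel)

theorem satB_1_0 : SatP 306936 0 4 T2 satB_1L :=
  satP_of_relsP ok2 (by norm_num) (by norm_num) (by norm_num) (show relsP (nat_lit 306936) (nat_lit 19) (nat_lit 0) (nat_lit 4) T2 satB_1L = true by decide +kernel)

theorem satB_1_4 : SatP 306936 4 8 T2 satB_1L :=
  satP_of_relsP ok2 (by norm_num) (by norm_num) (by norm_num) (show relsP (nat_lit 306936) (nat_lit 19) (nat_lit 4) (nat_lit 4) T2 satB_1L = true by decide +kernel)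

theorem satB_1_8 : SatP 306936 8 12 T2 satB_1L :=
  satP_of_relsP ok2 (by norm_num) (by norm_num) (by norm_num) (show relsP (nat_lit 306936) (nat_lit 19) (nat_lit 8) (nat_lit 4) T2 satB_1L = true by decide +kernel)

theorem satB_1_12 : SatP 306936 12 16 T2 satB_1L :=
  satP_of_relsP ok2 (by norm_num) (by norm_num) (by norm_num) (show relsP (nat_lit 306936) (nat_lit 19) (nat_lit 12) (nat_lit 4) T2 satB_1L = true by decide +kernel)

theorem satB_1_16 : SatP 306936 16 19 T2 satB_1L :=
  satP_of_relsP ok2 (by norm_num) (by norm_num) (by norm_num) (show relsP (nat_lit 306936) (nat_lit 19) (nat_lit 16) (nat_lit 3) T2 satB_1L = true by decide +kernel)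

theorem eqB_0_0 : EqsP 306936 0 4 T2 eqB_0L :=
  eqsP_of ok2 (by norm_num) (by norm_num) (by norm_num) (show eqsP (nat_lit 306936) (nat_lit 19) (nat_lit 0) (nat_lit 4) T2 eqB_0L = true by decide +kernel)

theorem eqB_0_4 : EqsP 306936 4 8 T2 eqB_0L :=
  eqsP_of ok2 (by norm_num) (by norm_num) (by norm_num) (show eqsP (nat_lit 306936) (nat_lit 19) (nat_lit 4) (nat_lit 4) T2 eqB_0L = true by decide +kernel)

theorem eqB_0_8 : EqsP 306936 8 12 T2 eqB_0L :=
  eqsP_of ok2 (by norm_num) (by norm_num) (by norm_num) (show eqsP (nat_lit 306936) (nat_lit 19) (nat_lit 8) (nat_lit 4) T2 eqB_0L = true by decide +kernel)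

theorem eqB_0_12 : EqsP 306936 12 16 T2 eqB_0L :=
  eqsP_of ok2 (by norm_num) (by norm_num) (by norm_num) (show eqsP (nat_lit 306936) (nat_lit 19) (nat_lit 12) (nat_lit 4) T2 eqB_0L = true by decide +kernel)

theorem eqB_0_16 : EqsP 306936 16 19 T2 eqB_0L :=
  eqsP_of ok2 (by norm_num) (by norm_num) (by norm_num) (show eqsP (nat_lit 306936) (nat_lit 19) (nat_lit 16) (nat_lit 3) T2 eqB_0L = true by decide +kernel)

theorem eqB_1_0 : EqsP 306936 0 7 T2 eqB_1L :=
  eqsP_of ok2 (by norm_num) (by norm_num) (by norm_num) (show eqsP (nat_lit 306936) (nat_lit 19) (nat_lit 0) (nat_lit 7) T2 eqB_1L = true by decide +kernel)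

theorem eqB_1_7 : EqsP 306936 7 14 T2 eqB_1L :=
  eqsP_of ok2 (by norm_num) (by norm_num) (by norm_num) (show eqsP (nat_lit 306936) (nat_lit 19) (nat_lit 7) (nat_lit 7) T2 eqB_1L = true by decide +kernel)

theorem eqB_1_14 : EqsP 306936 14 19 T2 eqB_1L :=
  eqsP_of ok2 (by norm_num) (by norm_num) (by norm_num) (show eqsP (nat_lit 306936) (nat_lit 19) (nat_lit 14) (nat_lit 5) T2 eqB_1L = true by decide +kernel)


end Cfsg.Agent.Comp.Fi24
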