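import Cfsg.Agent.Comp.Fi24.Sat0
import Cfsg.Agent.Comp.Fi24.Sat1
import Cfsg.Agent.Comp.Fi24.Sat2
import Cfsg.Agent.Comp.Fi24.Sat3
import Cfsg.Agent.Comp.Fi24.Sat4

set_option autoImplicit false
set_option maxRecDepth 100000

namespace Cfsg.Agent.Comp.Fi24
open Cfsg.Agent.Comp

theorem satA_0 : Sat (sig T) satA_0L := SatP.sat satA_0_0 ok (by norm_num)

theorem satA_1 : Sat (sig T) satA_1L := SatP.sat satA_1_0 ok (by norm_num)

theorem satA_2 : Sat (sig T) satA_2L := SatP.sat satA_2_0 ok (by norm_num)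

theorem satA_3 : Sat (sig T) satA_3L := SatP.sat satA_3_0 ok (by norm_num)

theorem satA_4 : Sat (sig T) satA_4L := SatP.sat satA_4_0 ok (by norm_num)

theorem satA_5 : Sat (sig T) satA_5L := SatP.sat satA_5_0 ok (by norm_num)

theorem satA_6 : Sat (sig T) satA_6L := SatP.sat satA_6_0 ok (by norm_num)

theorem satA_7 : Sat (sig T) satA_7L := SatP.sat satA_7_0 ok (by norm_num)

theorem satA_8 : Sat (sig T) satA_8L := SatP.sat satA_8_0 ok (by norm_num)

theorem satA_9 : Sat (sig T) satA_9L := SatP.sat satA_9_0 ok (by norm_num)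

theorem satA_10 : Sat (sig T) satA_10L := SatP.sat satA_10_0 ok (by norm_num)

theorem satA_11 : Sat (sig T) satA_11L := SatP.sat satA_11_0 ok (by norm_num)

theorem satA_12 : Sat (sig T) satA_12L := SatP.sat (SatP.join satA_12_0 satA_12_10) ok (by norm_num)

theorem satA_13 : Sat (sig T) satA_13L := SatP.sat (SatP.join satA_13_0 satA_13_10) ok (by norm_num)

theorem satA_14 : Sat (sig T) satA_14L := SatP.sat (SatP.join satA_14_0 satA_14_10) ok (by norm_num)

theorem satA_15 : Sat (sig T) satA_15L := SatP.sat (SatP.join satA_15_0 satA_15_10) ok (by norm_num)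

theorem satA_16 : Sat (sig T) satA_16L := SatP.sat (SatP.join satA_16_0 satA_16_10) ok (by norm_num)

theorem satA_17 : Sat (sig T) satA_17L := SatP.sat (SatP.join satA_17_0 satA_17_10) ok (by norm_num)

theorem satA_18 : Sat (sig T) satA_18L := SatP.sat (SatP.join satA_18_0 satA_18_10) ok (by norm_num)

theorem satA_19 : Sat (sig T) satA_19L := SatP.sat (SatP.join satA_19_0 satA_19_10) ok (by norm_num)

theorem satA_20 : Sat (sig T) satA_20L := SatP.sat (SatP.join satA_20_0 satA_20_10) ok (by norm_num)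

theorem satA_21 : Sat (sig T) satA_21L := SatP.sat (SatP.join satA_21_0 satA_21_10) ok (by norm_num)

theorem satA_22 : Sat (sig T) satA_22L := SatP.sat (SatP.join satA_22_0 satA_22_10) ok (by norm_num)

theorem satA_23 : Sat (sig T) satA_23L := SatP.sat (SatP.join satA_23_0 satA_23_10) ok (by norm_num)

theorem satA_24 : Sat (sig T) satA_24L := SatP.sat (SatP.join satA_24_0 satA_24_10) ok (by norm_num)

theorem satA_25 : Sat (sig T) satA_25L := SatP.sat (SatP.join satA_25_0 satA_25_10) ok (by norm_num)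

theorem satA_26 : Sat (sig T) satA_26L := SatP.sat (SatP.join satA_26_0 satA_26_10) ok (by norm_num)

theorem satA_27 : Sat (sig T) satA_27L := SatP.sat (SatP.join satA_27_0 satA_27_10) ok (by norm_num)

theorem satA_28 : Sat (sig T) satA_28L := SatP.sat (SatP.join satA_28_0 satA_28_10) ok (by norm_num)

theorem satA_29 : Sat (sig T) satA_29L := SatP.sat (SatP.join satA_29_0 satA_29_10) ok (by norm_num)

theorem satA_30 : Sat (sig T) satA_30L := SatP.sat (SatP.join satA_30_0 satA_30_10) ok (by norm_num)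

theorem satA_31 : Sat (sig T) satA_31L := SatP.sat (SatP.join satA_31_0 satA_31_10) ok (by norm_num)

theorem satA_32 : Sat (sig T) satA_32L := SatP.sat (SatP.join satA_32_0 satA_32_10) ok (by norm_num)

theorem satA_33 : Sat (sig T) satA_33L := SatP.sat (SatP.join satA_33_0 satA_33_10) ok (by norm_num)

theorem satA_34 : Sat (sig T) satA_34L := SatP.sat (SatP.join satA_34_0 satA_34_10) ok (by norm_num)

theorem satA_35 : Sat (sig T) satA_35L := SatP.sat (SatP.join satA_35_0 satA_35_10) ok (by norm_num)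

theorem satA_36 : Sat (sig T) satA_36L := SatP.sat (SatP.join satA_36_0 satA_36_10) ok (by norm_num)

theorem satA_37 : Sat (sig T) satA_37L := SatP.sat (SatP.join satA_37_0 satA_37_10) ok (by norm_num)

theorem satA_38 : Sat (sig T) satA_38L := SatP.sat (SatP.join satA_38_0 satA_38_10) ok (by norm_num)

theorem satA_39 : Sat (sig T) satA_39L := SatP.sat (SatP.join satA_39_0 satA_39_10) ok (by norm_num)

theorem satA_40 : Sat (sig T) satA_40L := SatP.sat (SatP.join satA_40_0 satA_40_10) ok (by norm_num)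

theorem satA_41 : Sat (sig T) satA_41L := SatP.sat (SatP.join satA_41_0 satA_41_10) ok (by norm_num)

theorem satA_42 : Sat (sig T) satA_42L := SatP.sat (SatP.join satA_42_0 satA_42_10) ok (by norm_num)

theorem satA_43 : Sat (sig T) satA_43L := SatP.sat (SatP.join satA_43_0 satA_43_10) ok (by norm_num)

theorem satA_44 : Sat (sig T) satA_44L := SatP.sat (SatP.join satA_44_0 satA_44_10) ok (by norm_num)

theorem satA_45 : Sat (sig T) satA_45L := SatP.sat (SatP.join satA_45_0 satA_45_10) ok (by norm_num)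

theorem satA_46 : Sat (sig T) satA_46L := SatP.sat (SatP.join satA_46_0 satA_46_10) ok (by norm_num)

theorem satA_47 : Sat (sig T) satA_47L := SatP.sat (SatP.join satA_47_0 satA_47_10) ok (by norm_num)

theorem satA_48 : Sat (sig T) satA_48L := SatP.sat (SatP.join satA_48_0 satA_48_10) ok (by norm_num)

theorem satA_49 : Sat (sig T) satA_49L := SatP.sat (SatP.join satA_49_0 satA_49_10) ok (by norm_num)

theorem satA_50 : Sat (sig T) satA_50L := SatP.sat (SatP.join satA_50_0 satA_50_10) ok (by norm_num)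

theorem satA_51 : Sat (sig T) satA_51L := SatP.sat (SatP.join satA_51_0 satA_51_10) ok (by norm_num)

theorem satA_52 : Sat (sig T) satA_52L := SatP.sat (SatP.join satA_52_0 satA_52_10) ok (by norm_num)

theorem satA_53 : Sat (sig T) satA_53L := SatP.sat (SatP.join satA_53_0 satA_53_10) ok (by norm_num)

theorem satA_54 : Sat (sig T) satA_54L := SatP.sat (SatP.join satA_54_0 satA_54_10) ok (by norm_num)

theorem satA_55 : Sat (sig T) satA_55L := SatP.sat (SatP.join satA_55_0 satA_55_10) ok (by norm_num)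

theorem satA_56 : Sat (sig T) satA_56L := SatP.sat (SatP.join satA_56_0 satA_56_10) ok (by norm_num)

theorem satA_57 : Sat (sig T) satA_57L := SatP.sat (SatP.join satA_57_0 satA_57_10) ok (by norm_num)

theorem satA_58 : Sat (sig T) satA_58L := SatP.sat (SatP.join satA_58_0 satA_58_10) ok (by norm_num)

theorem satA_59 : Sat (sig T) satA_59L := SatP.sat (SatP.join satA_59_0 satA_59_10) ok (by norm_num)

theorem satA_60 : Sat (sig T) satA_60L := SatP.sat (SatP.join satA_60_0 satA_60_10) ok (by norm_num)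

theorem satA_61 : Sat (sig T) satA_61L := SatP.sat (SatP.join satA_61_0 satA_61_10) ok (by norm_num)

theorem satA_62 : Sat (sig T) satA_62L := SatP.sat (SatP.join satA_62_0 satA_62_10) ok (by norm_num)

theorem satA_63 : Sat (sig T) satA_63L := SatP.sat (SatP.join satA_63_0 satA_63_10) ok (by norm_num)

theorem satA_64 : Sat (sig T) satA_64L := SatP.sat (SatP.join satA_64_0 satA_64_10) ok (by norm_num)

theorem satA_65 : Sat (sig T) satA_65L := SatP.sat (SatP.join satA_65_0 satA_65_10) ok (by norm_num)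

theorem satA_66 : Sat (sig T) satA_66L := SatP.sat (SatP.join satA_66_0 satA_66_10) ok (by norm_num)

theorem satA_67 : Sat (sig T) satA_67L := SatP.sat (SatP.join satA_67_0 satA_67_10) ok (by norm_num)

theorem satA_68 : Sat (sig T) satA_68L := SatP.sat (SatP.join satA_68_0 satA_68_10) ok (by norm_num)

theorem satA_69 : Sat (sig T) satA_69L := SatP.sat (SatP.join satA_69_0 satA_69_10) ok (by norm_num)

theorem satA_70 : Sat (sig T) satA_70L := SatP.sat (SatP.join satA_70_0 satA_70_10) ok (by norm_num)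

theorem satA_71 : Sat (sig T) satA_71L := SatP.sat (SatP.join satA_71_0 satA_71_10) ok (by norm_num)

theorem satA_72 : Sat (sig T) satA_72L := SatP.sat (SatP.join satA_72_0 satA_72_10) ok (by norm_num)

theorem satA_73 : Sat (sig T) satA_73L := SatP.sat (SatP.join satA_73_0 satA_73_10) ok (by norm_num)

theorem satA_74 : Sat (sig T) satA_74L := SatP.sat (SatP.join satA_74_0 satA_74_10) ok (by norm_num)

theorem satA_75 : Sat (sig T) satA_75L := SatP.sat (SatP.join satA_75_0 satA_75_10) ok (by norm_num)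

theorem satA_76 : Sat (sig T) satA_76L := SatP.sat (SatP.join satA_76_0 satA_76_10) ok (by norm_num)

theorem satA_77 : Sat (sig T) satA_77L := SatP.sat (SatP.join satA_77_0 satA_77_10) ok (by norm_num)

theorem satA : Sat (sig T) RA :=
  (show (satA_0L ++ (satA_1L ++ (satA_2L ++ (satA_3L ++ (satA_4L ++ (satA_5L ++ (satA_6L ++ (satA_7L ++ (satA_8L ++ (satA_9L ++ (satA_10L ++ (satA_11L ++ (satA_12L ++ (satA_13L ++ (satA_14L ++ (satA_15L ++ (satA_16L ++ (satA_17L ++ (satA_18L ++ (satA_19L ++ (satA_20L ++ (satA_21L ++ (satA_22L ++ (satA_23L ++ (satA_24L ++ (satA_25L ++ (satA_26L ++ (satA_27L ++ (satA_28L ++ (satA_29L ++ (satA_30L ++ (satA_31L ++ (satA_32L ++ (satA_33L ++ (satA_34L ++ (satA_35L ++ (satA_36L ++ (satA_37L ++ (satA_38L ++ (satA_39L ++ (satA_40L ++ (satA_41L ++ (satA_42L ++ (satA_43L ++ (satA_44L ++ (satA_45L ++ (satA_46L ++ (satA_47L ++ (satA_48L ++ (satA_49L ++ (satA_50L ++ (satA_51L ++ (satA_52L ++ (satA_53L ++ (satA_54L ++ (satA_55L ++ (satA_56L ++ (satA_57L ++ (satA_58L ++ (satA_59L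 ++ (satA_60L ++ (satA_61L ++ (satA_62L ++ (satA_63L ++ (satA_64L ++ (satA_65L ++ (satA_66L ++ (satA_67L ++ (satA_68L ++ (satA_69L ++ (satA_70L ++ (satA_71L ++ (satA_72L ++ (satA_73L ++ (satA_74L ++ (satA_75L ++ (satA_76L ++ satA_77L))))))))))))))))))))))))))))))))))))))))))))))))))))))))))))))))))))))))))))) = RA by decide +kernel) ▸ (Sat.append satA_0 (Sat.append satA_1 (Sat.append satA_2 (Sat.append satA_3 (Sat.append satA_4 (Sat.append satA_5 (Sat.append satA_6 (Sat.append satA_7 (Sat.append satA_8 (Sat.append satA_9 (Sat.append satA_10 (Sat.append satA_11 (Sat.append satA_12 (Sat.append satA_13 (Sat.append satA_14 (Sat.append satA_15 (Sat.append satA_16 (Sat.append satA_17 (Sat.append satA_18 (Sat.append satA_19 (Sat.append satA_20 (Sat.append satA_21 (Sat.append satA_22 (Sat.append satA_23 (Sat.append satA_24 (Sat.append satA_25 (Sat.append satA_26 (Sat.append satA_27 (Sat.append satA_28 (Sat.append satA_29 (Sat.append satA_30 (Sat.append satA_31 (Sat.append satA_32 (Sat.append satA_33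 (Sat.append satA_34 (Sat.append satA_35 (Sat.append satA_36 (Sat.append satA_37 (Sat.append satA_38 (Sat.append satA_39 (Sat.append satA_40 (Sat.append satA_41 (Sat.append satA_42 (Sat.append satA_43 (Sat.append satA_44 (Sat.append satA_45 (Sat.append satA_46 (Sat.append satA_47 (Sat.append satA_48 (Sat.append satA_49 (Sat.append satA_50 (Sat.append satA_51 (Sat.append satA_52 (Sat.append satA_53 (Sat.append satA_54 (Sat.append satA_55 (Sat.append satA_56 (Sat.append satA_57 (Sat.append satA_58 (Sat.append satA_59 (Sat.append satA_60 (Sat.append satA_61 (Sat.append satA_62 (Sat.append satA_63 (Sat.append satA_64 (Sat.append satA_65 (Sat.append satA_66 (Sat.append satA_67 (Sat.append satA_68 (Sat.append satA_69 (Sat.append satA_70 (Sat.append satA_71 (Sat.append satA_72 (Sat.append satA_73 (Sat.append satA_74 (Sat.append satA_75 (Sat.append satA_76 satA_77)))))))))))))))))))))))))))))))))))))))))))))))))))))))))))))))))))))))))))))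

theorem satB_0 : Sat (sig T2) satB_0L := SatP.sat (SatP.join (SatP.join satB_0_0 satB_0_7) satB_0_14) ok2 (by norm_num)

theorem satB_1 : Sat (sig T2) satB_1L := SatP.sat (SatP.join (SatP.join (SatP.join (SatP.join satB_1_0 satB_1_4) satB_1_8) satB_1_12) satB_1_16) ok2 (by norm_num)

theorem satB : Sat (sig T2) RB :=
  (show (satB_0L ++ satB_1L) = RB by decide +kernel) ▸ (Sat.append satB_0 satB_1)

theorem eqB_0 : ∀ e ∈ eqB_0L, ev (sig T2) e.1 = ev (sig T2) e.2 := EqsP.eqs (EqsP.join (EqsP.join (EqsP.join (EqsP.join eqB_0_0 eqB_0_4) eqB_0_8) eqB_0_12) eqB_0_16) ok2 (by norm_num)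

theorem eqB_1 : ∀ e ∈ eqB_1L, ev (sig T2) e.1 = ev (sig T2) e.2 := EqsP.eqs (EqsP.join (EqsP.join eqB_1_0 eqB_1_7) eqB_1_14) ok2 (by norm_num)

theorem eqB : ∀ e ∈ EB, ev (sig T2) e.1 = ev (sig T2) e.2 :=
  (show (eqB_0L ++ eqB_1L) = EB by decide +kernel) ▸ (eqs_append eqB_0 eqB_1)

theorem satC : Sat (sig T2) (R.drop 78) :=
  sat_of_subst (F := [[0], [1], [2], [3], [4], [5], [6], [7], [8], [9], [10], [11], [5, 4, 3, 2, 1, 0, 5, 6, 7, 8, 9, 5, 10, 11], [10, 7, 6, 5, 4, 3, 2]]) eqB satB (by decide +kernel) (by decide +kernel) (by decide +kernel)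

theorem sat : Sat (sig T) R := by
  rw [← List.take_append_drop 78 R]
  refine Sat.append satA (satC.congr fun w hw x hx => ?_)
  have : x < 12 := (by decide +kernel : ∀ w ∈ R.drop 78, ∀ x ∈ w, x < 12) w hw x hx
  interval_cases x <;> rfl

end Cfsg.Agent.Comp.Fi24
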