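import Cfsg.Agent.Comp.Fi24.SatD

set_option autoImplicit false
set_option maxRecDepth 100000

namespace Cfsg.Agent.Comp.Fi24
open Cfsg.Agent.Comp

theorem satA_0_0 : SatP 306936 0 19 T satA_0L :=
  satP_of_relsP ok (by norm_num) (by norm_num) (by norm_num) (show relsP (nat_lit 306936) (nat_lit 19) (nat_lit 0) (nat_lit 19) T satA_0L = true by decide +kernel)

theorem satA_1_0 : SatP 306936 0 19 T satA_1L :=
  satP_of_relsP ok (by norm_num) (by norm_num) (by norm_num) (show relsP (nat_lit 306936) (nat_lit 19) (nat_lit 0) (nat_lit 19) T satA_1L = true by decide +kernel)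

theorem satA_2_0 : SatP 306936 0 19 T satA_2L :=
  satP_of_relsP ok (by norm_num) (by norm_num) (by norm_num) (show relsP (nat_lit 306936) (nat_lit 19) (nat_lit 0) (nat_lit 19) T satA_2L = true by decide +kernel)

theorem satA_3_0 : SatP 306936 0 19 T satA_3L :=
  satP_of_relsP ok (by norm_num) (by norm_num) (by norm_num) (show relsP (nat_lit 306936) (nat_lit 19) (nat_lit 0) (nat_lit 19) T satA_3L = true by decide +kernel)

theorem satA_4_0 : SatP 306936 0 19 T satA_4L :=
  satP_of_relsP ok (by norm_num) (by norm_num) (by norm_num) (show relsP (nat_lit 306936) (nat_lit 19) (nat_lit 0) (nat_lit 19) T satA_4L = true by decide +kernel)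

theorem satA_5_0 : SatP 306936 0 19 T satA_5L :=
  satP_of_relsP ok (by norm_num) (by norm_num) (by norm_num) (show relsP (nat_lit 306936) (nat_lit 19) (nat_lit 0) (nat_lit 19) T satA_5L = true by decide +kernel)

theorem satA_6_0 : SatP 306936 0 19 T satA_6L :=
  satP_of_relsP ok (by norm_num) (by norm_num) (by norm_num) (show relsP (nat_lit 306936) (nat_lit 19) (nat_lit 0) (nat_lit 19) T satA_6L = true by decide +kernel)

theorem satA_7_0 : SatP 306936 0 19 T satA_7L :=
  satP_of_relsP ok (by norm_num) (by norm_num) (by norm_num) (show relsP (nat_lit 306936) (nat_lit 19) (nat_lit 0) (nat_lit 19) T satA_7L = true by decide +kernel)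

theorem satA_8_0 : SatP 306936 0 19 T satA_8L :=
  satP_of_relsP ok (by norm_num) (by norm_num) (by norm_num) (show relsP (nat_lit 306936) (nat_lit 19) (nat_lit 0) (nat_lit 19) T satA_8L = true by decide +kernel)

theorem satA_9_0 : SatP 306936 0 19 T satA_9L :=
  satP_of_relsP ok (by norm_num) (by norm_num) (by norm_num) (show relsP (nat_lit 306936) (nat_lit 19) (nat_lit 0) (nat_lit 19) T satA_9L = true by decide +kernel)

theorem satA_10_0 : SatP 306936 0 19 T satA_10L :=
  satP_of_relsP ok (by norm_num) (by norm_num) (by norm_num) (show relsP (nat_lit 306936) (nat_lit 19) (nat_lit 0) (nat_lit 19) T satA_10L = true by decide +kernel)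

theorem satA_11_0 : SatP 306936 0 19 T satA_11L :=
  satP_of_relsP ok (by norm_num) (by norm_num) (by norm_num) (show relsP (nat_lit 306936) (nat_lit 19) (nat_lit 0) (nat_lit 19) T satA_11L = true by decide +kernel)

theorem satA_12_0 : SatP 306936 0 10 T satA_12L :=
  satP_of_relsP ok (by norm_num) (by norm_num) (by norm_num) (show relsP (nat_lit 306936) (nat_lit 19) (nat_lit 0) (nat_lit 10) T satA_12L = true by decide +kernel)

theorem satA_12_10 : SatP 306936 10 19 T satA_12L :=
  satP_of_relsP ok (by norm_num) (by norm_num) (by norm_num) (show relsP (nat_lit 306936) (nat_lit 19) (nat_lit 10) (nat_lit 9) T satA_12L = true by decide +kernel)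

theorem satA_13_0 : SatP 306936 0 10 T satA_13L :=
  satP_of_relsP ok (by norm_num) (by norm_num) (by norm_num) (show relsP (nat_lit 306936) (nat_lit 19) (nat_lit 0) (nat_lit 10) T satA_13L = true by decide +kernel)

theorem satA_13_10 : SatP 306936 10 19 T satA_13L :=
  satP_of_relsP ok (by norm_num) (by norm_num) (by norm_num) (show relsP (nat_lit 306936) (nat_lit 19) (nat_lit 10) (nat_lit 9) T satA_13L = true by decide +kernel)

theorem satA_14_0 : SatP 306936 0 10 T satA_14L :=
  satP_of_relsP ok (by norm_num) (by norm_num) (by norm_num) (show relsP (nat_lit 306936) (nat_lit 19) (nat_lit 0) (nat_lit 10) T satA_14L = true by decide +kernel)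

theorem satA_14_10 : SatP 306936 10 19 T satA_14L :=
  satP_of_relsP ok (by norm_num) (by norm_num) (by norm_num) (show relsP (nat_lit 306936) (nat_lit 19) (nat_lit 10) (nat_lit 9) T satA_14L = true by decide +kernel)

theorem satA_15_0 : SatP 306936 0 10 T satA_15L :=
  satP_of_relsP ok (by norm_num) (by norm_num) (by norm_num) (show relsP (nat_lit 306936) (nat_lit 19) (nat_lit 0) (nat_lit 10) T satA_15L = true by decide +kernel)

theorem satA_15_10 : SatP 306936 10 19 T satA_15L :=
  satP_of_relsP ok (by norm_num) (by norm_num) (by norm_num) (show relsP (nat_lit 306936) (nat_lit 19) (nat_lit 10) (nat_lit 9) T satA_15L = true by decide +kernel)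

theorem satA_16_0 : SatP 306936 0 10 T satA_16L :=
  satP_of_relsP ok (by norm_num) (by norm_num) (by norm_num) (show relsP (nat_lit 306936) (nat_lit 19) (nat_lit 0) (nat_lit 10) T satA_16L = true by decide +kernel)

theorem satA_16_10 : SatP 306936 10 19 T satA_16L :=
  satP_of_relsP ok (by norm_num) (by norm_num) (by norm_num) (show relsP (nat_lit 306936) (nat_lit 19) (nat_lit 10) (nat_lit 9) T satA_16L = true by decide +kernel)

theorem satA_17_0 : SatP 306936 0 10 T satA_17L :=
  satP_of_relsP ok (by norm_num) (by norm_num) (by norm_num) (show relsP (nat_lit 306936) (nat_lit 19) (nat_lit 0) (nat_lit 10) T satA_17L = true by decide +kernel)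

theorem satA_17_10 : SatP 306936 10 19 T satA_17L :=
  satP_of_relsP ok (by norm_num) (by norm_num) (by norm_num) (show relsP (nat_lit 306936) (nat_lit 19) (nat_lit 10) (nat_lit 9) T satA_17L = true by decide +kernel)

theorem satA_18_0 : SatP 306936 0 10 T satA_18L :=
  satP_of_relsP ok (by norm_num) (by norm_num) (by norm_num) (show relsP (nat_lit 306936) (nat_lit 19) (nat_lit 0) (nat_lit 10) T satA_18L = true by decide +kernel)

theorem satA_18_10 : SatP 306936 10 19 T satA_18L :=
  satP_of_relsP ok (by norm_num) (by norm_num) (by norm_num) (show relsP (nat_lit 306936) (nat_lit 19) (nat_lit 10) (nat_lit 9) T satA_18L = true by decide +kernel)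

theorem satA_19_0 : SatP 306936 0 10 T satA_19L :=
  satP_of_relsP ok (by norm_num) (by norm_num) (by norm_num) (show relsP (nat_lit 306936) (nat_lit 19) (nat_lit 0) (nat_lit 10) T satA_19L = true by decide +kernel)

theorem satA_19_10 : SatP 306936 10 19 T satA_19L :=
  satP_of_relsP ok (by norm_num) (by norm_num) (by norm_num) (show relsP (nat_lit 306936) (nat_lit 19) (nat_lit 10) (nat_lit 9) T satA_19L = true by decide +kernel)

theorem satA_20_0 : SatP 306936 0 10 T satA_20L :=
  satP_of_relsP ok (by norm_num) (by norm_num) (by norm_num) (show relsP (nat_lit 306936) (nat_lit 19) (nat_lit 0) (nat_lit 10) T satA_20L = true by decide +kernel)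

theorem satA_20_10 : SatP 306936 10 19 T satA_20L :=
  satP_of_relsP ok (by norm_num) (by norm_num) (by norm_num) (show relsP (nat_lit 306936) (nat_lit 19) (nat_lit 10) (nat_lit 9) T satA_20L = true by decide +kernel)

theorem satA_21_0 : SatP 306936 0 10 T satA_21L :=
  satP_of_relsP ok (by norm_num) (by norm_num) (by norm_num) (show relsP (nat_lit 306936) (nat_lit 19) (nat_lit 0) (nat_lit 10) T satA_21L = true by decide +kernel)

theorem satA_21_10 : SatP 306936 10 19 T satA_21L :=
  satP_of_relsP ok (by norm_num) (by norm_num) (by norm_num) (show relsP (nat_lit 306936) (nat_lit 19) (nat_lit 10) (nat_lit 9) T satA_21L = true by decide +kernel)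

theorem satA_22_0 : SatP 306936 0 10 T satA_22L :=
  satP_of_relsP ok (by norm_num) (by norm_num) (by norm_num) (show relsP (nat_lit 306936) (nat_lit 19) (nat_lit 0) (nat_lit 10) T satA_22L = true by decide +kernel)

theorem satA_22_10 : SatP 306936 10 19 T satA_22L :=
  satP_of_relsP ok (by norm_num) (by norm_num) (by norm_num) (show relsP (nat_lit 306936) (nat_lit 19) (nat_lit 10) (nat_lit 9) T satA_22L = true by decide +kernel)

theorem satA_23_0 : SatP 306936 0 10 T satA_23L :=
  satP_of_relsP ok (by norm_num) (by norm_num) (by norm_num) (show relsP (nat_lit 306936) (nat_lit 19) (nat_lit 0) (nat_lit 10) T satA_23L = true by decide +kernel)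

theorem satA_23_10 : SatP 306936 10 19 T satA_23L :=
  satP_of_relsP ok (by norm_num) (by norm_num) (by norm_num) (show relsP (nat_lit 306936) (nat_lit 19) (nat_lit 10) (nat_lit 9) T satA_23L = true by decide +kernel)

theorem satA_24_0 : SatP 306936 0 10 T satA_24L :=
  satP_of_relsP ok (by norm_num) (by norm_num) (by norm_num) (show relsP (nat_lit 306936) (nat_lit 19) (nat_lit 0) (nat_lit 10) T satA_24L = true by decide +kernel)


end Cfsg.Agent.Comp.Fi24
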