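import Cfsg.Agent.Comp.Fi24.NetsX
import Cfsg.Agent.Comp.Rank3

set_option autoImplicit false
set_option maxRecDepth 100000

namespace Cfsg.Agent.Comp.Fi24
open Cfsg.Agent.Comp

def RA : List (List Nat) := R.take 78

def RB : List (List Nat) := [[0, 13, 13, 13, 13, 13, 13, 13, 13, 13],
   [12, 12, 12, 12, 12, 12, 12, 12, 12, 12, 12, 12, 12, 12, 12, 12, 12]]

def EB : List (List Nat × List Nat) :=
  [([12], [5, 4, 3, 2, 1, 0, 5, 6, 7, 8, 9, 5, 10, 11]),
   ([13], [10, 7, 6, 5, 4, 3, 2])]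

def satA_0L : List (List Nat) :=
  [[0, 0]]

def satA_1L : List (List Nat) :=
  [[1, 1]]

def satA_2L : List (List Nat) :=
  [[2, 2]]

def satA_3L : List (List Nat) :=
  [[3, 3]]

def satA_4L : List (List Nat) :=
  [[4, 4]]

def satA_5L : List (List Nat) :=
  [[5, 5]]

def satA_6L : List (List Nat) :=
  [[6, 6]]

def satA_7L : List (List Nat) :=
  [[7, 7]]

def satA_8L : List (List Nat) :=
  [[8, 8]]

def satA_9L : List (List Nat) :=
  [[9, 9]]

def satA_10L : List (List Nat) :=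
  [[10, 10]]

def satA_11L : List (List Nat) :=
  [[11, 11]]

def satA_12L : List (List Nat) :=
  [[0, 1, 0, 1, 0, 1]]

def satA_13L : List (List Nat) :=
  [[0, 2, 0, 2]]

def satA_14L : List (List Nat) :=
  [[0, 3, 0, 3]]

def satA_15L : List (List Nat) :=
  [[0, 4, 0, 4]]

def satA_16L : List (List Nat) :=
  [[0, 5, 0, 5]]

def satA_17L : List (List Nat) :=
  [[0, 6, 0, 6]]

def satA_18L : List (List Nat) :=
  [[0, 7, 0, 7]]

def satA_19L : List (List Nat) :=
  [[0, 8, 0, 8]]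

def satA_20L : List (List Nat) :=
  [[0, 9, 0, 9]]

def satA_21L : List (List Nat) :=
  [[0, 10, 0, 10]]

def satA_22L : List (List Nat) :=
  [[0, 11, 0, 11]]

def satA_23L : List (List Nat) :=
  [[1, 2, 1, 2, 1, 2]]

def satA_24L : List (List Nat) :=
  [[1, 3, 1, 3]]

def satA_25L : List (List Nat) :=
  [[1, 4, 1, 4]]

def satA_26L : List (List Nat) :=
  [[1, 5, 1, 5]]

def satA_27L : List (List Nat) :=
  [[1, 6, 1, 6]]

def satA_28L : List (List Nat) :=
  [[1, 7, 1, 7]]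

def satA_29L : List (List Nat) :=
  [[1, 8, 1, 8]]

def satA_30L : List (List Nat) :=
  [[1, 9, 1, 9]]

def satA_31L : List (List Nat) :=
  [[1, 10, 1, 10]]

def satA_32L : List (List Nat) :=
  [[1, 11, 1, 11]]

def satA_33L : List (List Nat) :=
  [[2, 3, 2, 3, 2, 3]]

def satA_34L : List (List Nat) :=
  [[2, 4, 2, 4]]

def satA_35L : List (List Nat) :=
  [[2, 5, 2, 5]]

def satA_36L : List (List Nat) :=
  [[2, 6, 2, 6]]

def satA_37L : List (List Nat) :=
  [[2, 7, 2, 7]]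

def satA_38L : List (List Nat) :=
  [[2, 8, 2, 8]]

def satA_39L : List (List Nat) :=
  [[2, 9, 2, 9]]

def satA_40L : List (List Nat) :=
  [[2, 10, 2, 10]]

def satA_41L : List (List Nat) :=
  [[2, 11, 2, 11]]

def satA_42L : List (List Nat) :=
  [[3, 4, 3, 4, 3, 4]]

def satA_43L : List (List Nat) :=
  [[3, 5, 3, 5]]

def satA_44L : List (List Nat) :=
  [[3, 6, 3, 6]]

def satA_45L : List (List Nat) :=
  [[3, 7, 3, 7]]

def satA_46L : List (List Nat) :=
  [[3, 8, 3, 8]]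

def satA_47L : List (List Nat) :=
  [[3, 9, 3, 9]]

def satA_48L : List (List Nat) :=
  [[3, 10, 3, 10]]

def satA_49L : List (List Nat) :=
  [[3, 11, 3, 11]]

def satA_50L : List (List Nat) :=
  [[4, 5, 4, 5, 4, 5]]

def satA_51L : List (List Nat) :=
  [[4, 6, 4, 6]]

def satA_52L : List (List Nat) :=
  [[4, 7, 4, 7]]

def satA_53L : List (List Nat) :=
  [[4, 8, 4, 8]]

def satA_54L : List (List Nat) :=
  [[4, 9, 4, 9]]

def satA_55L : List (List Nat) :=
  [[4, 10, 4, 10]]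

def satA_56L : List (List Nat) :=
  [[4, 11, 4, 11]]

def satA_57L : List (List Nat) :=
  [[5, 6, 5, 6, 5, 6]]

def satA_58L : List (List Nat) :=
  [[5, 7, 5, 7]]

def satA_59L : List (List Nat) :=
  [[5, 8, 5, 8]]

def satA_60L : List (List Nat) :=
  [[5, 9, 5, 9]]

def satA_61L : List (List Nat) :=
  [[5, 10, 5, 10, 5, 10]]

def satA_62L : List (List Nat) :=
  [[5, 11, 5, 11]]

def satA_63L : List (List Nat) :=
  [[6, 7, 6, 7, 6, 7]]

def satA_64L : List (List Nat) :=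
  [[6, 8, 6, 8]]

def satA_65L : List (List Nat) :=
  [[6, 9, 6, 9]]

def satA_66L : List (List Nat) :=
  [[6, 10, 6, 10]]

def satA_67L : List (List Nat) :=
  [[6, 11, 6, 11]]

def satA_68L : List (List Nat) :=
  [[7, 8, 7, 8, 7, 8]]

def satA_69L : List (List Nat) :=
  [[7, 9, 7, 9]]

def satA_70L : List (List Nat) :=
  [[7, 10, 7, 10]]

def satA_71L : List (List Nat) :=
  [[7, 11, 7, 11]]

def satA_72L : List (List Nat) :=
  [[8, 9, 8, 9, 8, 9]]

def satA_73L : List (List Nat) :=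
  [[8, 10, 8, 10]]

def satA_74L : List (List Nat) :=
  [[8, 11, 8, 11]]

def satA_75L : List (List Nat) :=
  [[9, 10, 9, 10]]

def satA_76L : List (List Nat) :=
  [[9, 11, 9, 11]]

def satA_77L : List (List Nat) :=
  [[10, 11, 10, 11, 10, 11]]

def satB_0L : List (List Nat) :=
  [[0, 13, 13, 13, 13, 13, 13, 13, 13, 13]]

def satB_1L : List (List Nat) :=
  [[12, 12, 12, 12, 12, 12, 12, 12, 12, 12, 12, 12, 12, 12, 12, 12, 12]]

def eqB_0L : List (List Nat × List Nat) :=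
  [([12], [5, 4, 3, 2, 1, 0, 5, 6, 7, 8, 9, 5, 10, 11])]

def eqB_1L : List (List Nat × List Nat) :=
  [([13], [10, 7, 6, 5, 4, 3, 2])]


end Cfsg.Agent.Comp.Fi24
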