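import Cfsg.Agent.Comp.TC
import Cfsg.Agent.Comp.Fi24.Pres
import Cfsg.Agent.Comp.Fi24.TopT0
import Cfsg.Agent.Comp.Fi24.TopT1
import Cfsg.Agent.Comp.Fi24.TopT2
import Cfsg.Agent.Comp.Fi24.TopT3
import Cfsg.Agent.Comp.Fi24.TopT4
import Cfsg.Agent.Comp.Fi24.TopT5
import Cfsg.Agent.Comp.Fi24.TopT6
import Cfsg.Agent.Comp.Fi24.TopT7
import Cfsg.Agent.Comp.Fi24.TopT8

set_option autoImplicit false
set_option maxRecDepth 100000

namespace Cfsg.Agent.Comp.Fi24.Top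
open Cfsg.Agent.Comp

noncomputable def T : Tr := (Tr.node (nat_lit 9599) (Tr.node (nat_lit 4799) (Tr.node (nat_lit 2367) (Tr.node (nat_lit 1151) (Tr.node (nat_lit 575) (Tr.node (nat_lit 255) (Tr.node (nat_lit 127) (Tr.node (nat_lit 63) t0 t1) (Tr.node (nat_lit 191) t2 t3)) (Tr.node (nat_lit 383) (Tr.node (nat_lit 319) t4 t5) (Tr.node (nat_lit 447) t6 (Tr.node (nat_lit 511) t7 t8)))) (Tr.node (nat_lit 831) (Tr.node (nat_lit 703) (Tr.node (nat_lit 639) t9 t10) (Tr.node (nat_lit 767) t11 t12)) (Tr.node (nat_lit 959) (Tr.node (nat_lit 895) t13 t14) (Tr.node (nat_lit 1023) t15 (Tr.node (nat_lit 1087) t16 t17))))) (Tr.node (nat_lit 1727) (Tr.node (nat_lit 1407) (Tr.node (nat_lit 1279) (Tr.node (nat_lit 1215) t18 t19) (Tr.node (nat_lit 1343) t20 t21)) (Tr.node (nat_lit 1535) (Tr.node (nat_lit 1471) t22 t23) (Tr.node (nat_lit 1599) t24 (Tr.node (nat_lit 1663) t25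 t26)))) (Tr.node (nat_lit 2047) (Tr.node (nat_lit 1855) (Tr.node (nat_lit 1791) t27 t28) (Tr.node (nat_lit 1919) t29 (Tr.node (nat_lit 1983) t30 t31))) (Tr.node (nat_lit 2175) (Tr.node (nat_lit 2111) t32 t33) (Tr.node (nat_lit 2239) t34 (Tr.node (nat_lit 2303) t35 t36)))))) (Tr.node (nat_lit 3583) (Tr.node (nat_lit 2943) (Tr.node (nat_lit 2623) (Tr.node (nat_lit 2495) (Tr.node (nat_lit 2431) t37 t38) (Tr.node (nat_lit 2559) t39 t40)) (Tr.node (nat_lit 2751) (Tr.node (nat_lit 2687) t41 t42) (Tr.node (nat_lit 2815) t43 (Tr.node (nat_lit 2879) t44 t45)))) (Tr.node (nat_lit 3263) (Tr.node (nat_lit 3071) (Tr.node (nat_lit 3007) t46 t47) (Tr.node (nat_lit 3135) t48 (Tr.node (nat_lit 3199) t49 t50))) (Tr.node (nat_lit 3391) (Tr.node (nat_lit 3327) t51 t52) (Tr.node (nat_lit 3455) t53 (Tr.node (nat_lit 3519) t54 t55))))) (Tr.node (nat_lit 4159) (Tr.node (nat_lit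 3839) (Tr.node (nat_lit 3711) (Tr.node (nat_lit 3647) t56 t57) (Tr.node (nat_lit 3775) t58 t59)) (Tr.node (nat_lit 3967) (Tr.node (nat_lit 3903) t60 t61) (Tr.node (nat_lit 4031) t62 (Tr.node (nat_lit 4095) t63 t64)))) (Tr.node (nat_lit 4479) (Tr.node (nat_lit 4287) (Tr.node (nat_lit 4223) t65 t66) (Tr.node (nat_lit 4351) t67 (Tr.node (nat_lit 4415) t68 t69))) (Tr.node (nat_lit 4607) (Tr.node (nat_lit 4543) t70 t71) (Tr.node (nat_lit 4671) t72 (Tr.node (nat_lit 4735) t73 t74))))))) (Tr.node (nat_lit 7167) (Tr.node (nat_lit 5951) (Tr.node (nat_lit 5375) (Tr.node (nat_lit 5055) (Tr.node (nat_lit 4927) (Tr.node (nat_lit 4863) t75 t76) (Tr.node (nat_lit 4991) t77 t78)) (Tr.node (nat_lit 5183) (Tr.node (nat_lit 5119) t79 t80) (Tr.node (nat_lit 5247) t81 (Tr.node (nat_lit 5311) t82 t83)))) (Tr.node (nat_lit 5631) (Tr.node (nat_lit 5503) (Tr.node (nat_lit 5439)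 t84 t85) (Tr.node (nat_lit 5567) t86 t87)) (Tr.node (nat_lit 5759) (Tr.node (nat_lit 5695) t88 t89) (Tr.node (nat_lit 5823) t90 (Tr.node (nat_lit 5887) t91 t92))))) (Tr.node (nat_lit 6527) (Tr.node (nat_lit 6207) (Tr.node (nat_lit 6079) (Tr.node (nat_lit 6015) t93 t94) (Tr.node (nat_lit 6143) t95 t96)) (Tr.node (nat_lit 6335) (Tr.node (nat_lit 6271) t97 t98) (Tr.node (nat_lit 6399) t99 (Tr.node (nat_lit 6463) t100 t101)))) (Tr.node (nat_lit 6847) (Tr.node (nat_lit 6655) (Tr.node (nat_lit 6591) t102 t103) (Tr.node (nat_lit 6719) t104 (Tr.node (nat_lit 6783) t105 t106))) (Tr.node (nat_lit 6975) (Tr.node (nat_lit 6911) t107 t108) (Tr.node (nat_lit 7039) t109 (Tr.node (nat_lit 7103) t110 t111)))))) (Tr.node (nat_lit 8383) (Tr.node (nat_lit 7743) (Tr.node (nat_lit 7423) (Tr.node (nat_lit 7295) (Tr.node (nat_lit 7231) t112 t113) (Tr.node (nat_lit 7359) t114 t115))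 (Tr.node (nat_lit 7551) (Tr.node (nat_lit 7487) t116 t117) (Tr.node (nat_lit 7615) t118 (Tr.node (nat_lit 7679) t119 t120)))) (Tr.node (nat_lit 8063) (Tr.node (nat_lit 7871) (Tr.node (nat_lit 7807) t121 t122) (Tr.node (nat_lit 7935) t123 (Tr.node (nat_lit 7999) t124 t125))) (Tr.node (nat_lit 8191) (Tr.node (nat_lit 8127) t126 t127) (Tr.node (nat_lit 8255) t128 (Tr.node (nat_lit 8319) t129 t130))))) (Tr.node (nat_lit 8959) (Tr.node (nat_lit 8639) (Tr.node (nat_lit 8511) (Tr.node (nat_lit 8447) t131 t132) (Tr.node (nat_lit 8575) t133 t134)) (Tr.node (nat_lit 8767) (Tr.node (nat_lit 8703) t135 t136) (Tr.node (nat_lit 8831) t137 (Tr.node (nat_lit 8895) t138 t139)))) (Tr.node (nat_lit 9279) (Tr.node (nat_lit 9087) (Tr.node (nat_lit 9023) t140 t141) (Tr.node (nat_lit 9151) t142 (Tr.node (nat_lit 9215) t143 t144))) (Tr.node (nat_lit 9407) (Tr.node (nat_lit 9343)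 t145 t146) (Tr.node (nat_lit 9471) t147 (Tr.node (nat_lit 9535) t148 t149)))))))) (Tr.node (nat_lit 14399) (Tr.node (nat_lit 11967) (Tr.node (nat_lit 10751) (Tr.node (nat_lit 10175) (Tr.node (nat_lit 9855) (Tr.node (nat_lit 9727) (Tr.node (nat_lit 9663) t150 t151) (Tr.node (nat_lit 9791) t152 t153)) (Tr.node (nat_lit 9983) (Tr.node (nat_lit 9919) t154 t155) (Tr.node (nat_lit 10047) t156 (Tr.node (nat_lit 10111) t157 t158)))) (Tr.node (nat_lit 10431) (Tr.node (nat_lit 10303) (Tr.node (nat_lit 10239) t159 t160) (Tr.node (nat_lit 10367) t161 t162)) (Tr.node (nat_lit 10559) (Tr.node (nat_lit 10495) t163 t164) (Tr.node (nat_lit 10623) t165 (Tr.node (nat_lit 10687) t166 t167))))) (Tr.node (nat_lit 11327) (Tr.node (nat_lit 11007) (Tr.node (nat_lit 10879) (Tr.node (nat_lit 10815) t168 t169) (Tr.node (nat_lit 10943) t170 t171)) (Tr.node (nat_lit 11135) (Tr.node (nat_lit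 11071) t172 t173) (Tr.node (nat_lit 11199) t174 (Tr.node (nat_lit 11263) t175 t176)))) (Tr.node (nat_lit 11647) (Tr.node (nat_lit 11455) (Tr.node (nat_lit 11391) t177 t178) (Tr.node (nat_lit 11519) t179 (Tr.node (nat_lit 11583) t180 t181))) (Tr.node (nat_lit 11775) (Tr.node (nat_lit 11711) t182 t183) (Tr.node (nat_lit 11839) t184 (Tr.node (nat_lit 11903) t185 t186)))))) (Tr.node (nat_lit 13183) (Tr.node (nat_lit 12543) (Tr.node (nat_lit 12223) (Tr.node (nat_lit 12095) (Tr.node (nat_lit 12031) t187 t188) (Tr.node (nat_lit 12159) t189 t190)) (Tr.node (nat_lit 12351) (Tr.node (nat_lit 12287) t191 t192) (Tr.node (nat_lit 12415) t193 (Tr.node (nat_lit 12479) t194 t195)))) (Tr.node (nat_lit 12863) (Tr.node (nat_lit 12671) (Tr.node (nat_lit 12607) t196 t197) (Tr.node (nat_lit 12735) t198 (Tr.node (nat_lit 12799) t199 t200))) (Tr.node (nat_lit 12991) (Tr.node (nat_lit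 12927) t201 t202) (Tr.node (nat_lit 13055) t203 (Tr.node (nat_lit 13119) t204 t205))))) (Tr.node (nat_lit 13759) (Tr.node (nat_lit 13439) (Tr.node (nat_lit 13311) (Tr.node (nat_lit 13247) t206 t207) (Tr.node (nat_lit 13375) t208 t209)) (Tr.node (nat_lit 13567) (Tr.node (nat_lit 13503) t210 t211) (Tr.node (nat_lit 13631) t212 (Tr.node (nat_lit 13695) t213 t214)))) (Tr.node (nat_lit 14079) (Tr.node (nat_lit 13887) (Tr.node (nat_lit 13823) t215 t216) (Tr.node (nat_lit 13951) t217 (Tr.node (nat_lit 14015) t218 t219))) (Tr.node (nat_lit 14207) (Tr.node (nat_lit 14143) t220 t221) (Tr.node (nat_lit 14271) t222 (Tr.node (nat_lit 14335) t223 t224))))))) (Tr.node (nat_lit 16831) (Tr.node (nat_lit 15615) (Tr.node (nat_lit 14975) (Tr.node (nat_lit 14655) (Tr.node (nat_lit 14527) (Tr.node (nat_lit 14463) t225 t226) (Tr.node (nat_lit 14591) t227 t228)) (Tr.node (nat_lit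 14783) (Tr.node (nat_lit 14719) t229 t230) (Tr.node (nat_lit 14847) t231 (Tr.node (nat_lit 14911) t232 t233)))) (Tr.node (nat_lit 15295) (Tr.node (nat_lit 15103) (Tr.node (nat_lit 15039) t234 t235) (Tr.node (nat_lit 15167) t236 (Tr.node (nat_lit 15231) t237 t238))) (Tr.node (nat_lit 15423) (Tr.node (nat_lit 15359) t239 t240) (Tr.node (nat_lit 15487) t241 (Tr.node (nat_lit 15551) t242 t243))))) (Tr.node (nat_lit 16191) (Tr.node (nat_lit 15871) (Tr.node (nat_lit 15743) (Tr.node (nat_lit 15679) t244 t245) (Tr.node (nat_lit 15807) t246 t247)) (Tr.node (nat_lit 15999) (Tr.node (nat_lit 15935) t248 t249) (Tr.node (nat_lit 16063) t250 (Tr.node (nat_lit 16127) t251 t252)))) (Tr.node (nat_lit 16511) (Tr.node (nat_lit 16319) (Tr.node (nat_lit 16255) t253 t254) (Tr.node (nat_lit 16383) t255 (Tr.node (nat_lit 16447) t256 t257))) (Tr.node (nat_lit 16639) (Tr.node (nat_lit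 16575) t258 t259) (Tr.node (nat_lit 16703) t260 (Tr.node (nat_lit 16767) t261 t262)))))) (Tr.node (nat_lit 18047) (Tr.node (nat_lit 17407) (Tr.node (nat_lit 17087) (Tr.node (nat_lit 16959) (Tr.node (nat_lit 16895) t263 t264) (Tr.node (nat_lit 17023) t265 t266)) (Tr.node (nat_lit 17215) (Tr.node (nat_lit 17151) t267 t268) (Tr.node (nat_lit 17279) t269 (Tr.node (nat_lit 17343) t270 t271)))) (Tr.node (nat_lit 17727) (Tr.node (nat_lit 17535) (Tr.node (nat_lit 17471) t272 t273) (Tr.node (nat_lit 17599) t274 (Tr.node (nat_lit 17663) t275 t276))) (Tr.node (nat_lit 17855) (Tr.node (nat_lit 17791) t277 t278) (Tr.node (nat_lit 17919) t279 (Tr.node (nat_lit 17983) t280 t281))))) (Tr.node (nat_lit 18623) (Tr.node (nat_lit 18303) (Tr.node (nat_lit 18175) (Tr.node (nat_lit 18111) t282 t283) (Tr.node (nat_lit 18239) t284 t285)) (Tr.node (nat_lit 18431) (Tr.node (nat_lit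 18367) t286 t287) (Tr.node (nat_lit 18495) t288 (Tr.node (nat_lit 18559) t289 t290)))) (Tr.node (nat_lit 18943) (Tr.node (nat_lit 18751) (Tr.node (nat_lit 18687) t291 t292) (Tr.node (nat_lit 18815) t293 (Tr.node (nat_lit 18879) t294 t295))) (Tr.node (nat_lit 19071) (Tr.node (nat_lit 19007) t296 t297) (Tr.node (nat_lit 19135) t298 (Tr.node (nat_lit 19199) t299 t300)))))))))

def RT : List (List (List Nat)) := [
  [[nat_lit 2, nat_lit 0, nat_lit 2],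
   [nat_lit 3, nat_lit 0, nat_lit 3],
   [nat_lit 4, nat_lit 0, nat_lit 4],
   [nat_lit 5, nat_lit 0, nat_lit 5],
   [nat_lit 6, nat_lit 0, nat_lit 6],
   [nat_lit 10, nat_lit 0, nat_lit 10],
   [nat_lit 7, nat_lit 0, nat_lit 7],
   [nat_lit 11, nat_lit 0, nat_lit 11],
   [nat_lit 8, nat_lit 0, nat_lit 8],
   [nat_lit 9, nat_lit 0, nat_lit 9],
   [nat_lit 1, nat_lit 0, nat_lit 1, nat_lit 0, nat_lit 1],
   [nat_lit 13],
   [nat_lit 0],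
   [nat_lit 10, nat_lit 7, nat_lit 6, nat_lit 5, nat_lit 4, nat_lit 3, nat_lit 2, nat_lit 10, nat_lit 7, nat_lit 6, nat_lit 5, nat_lit 4, nat_lit 3, nat_lit 2, nat_lit 10, nat_lit 7, nat_lit 6, nat_lit 5, nat_lit 4, nat_lit 3, nat_lit 2, nat_lit 10, nat_lit 7, nat_lit 6, nat_lit 5, nat_lit 4, nat_lit 3, nat_lit 2, nat_lit 10, nat_lit 7, nat_lit 6, nat_lit 5, nat_lit 4, nat_lit 3, nat_lit 2, nat_lit 10, nat_lit 7, nat_lit 6, nat_lit 5, nat_lit 4, nat_lit 3, nat_lit 2, nat_lit 10, nat_lit 7, nat_lit 6, nat_lit 5, nat_lit 4, nat_lit 3, nat_lit 2, nat_lit 10, nat_lit 7, nat_lit 6, nat_lit 5, nat_lit 4, nat_lit 3, nat_lit 2, nat_lit 10, nat_lit 7, nat_lit 6, nat_lit 5, nat_lit 4, nat_lit 3, nat_lit 2]],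
  [[nat_lit 3, nat_lit 1, nat_lit 3],
   [nat_lit 4, nat_lit 1, nat_lit 4],
   [nat_lit 5, nat_lit 1, nat_lit 5],
   [nat_lit 6, nat_lit 1, nat_lit 6],
   [nat_lit 10, nat_lit 1, nat_lit 10],
   [nat_lit 7, nat_lit 1, nat_lit 7],
   [nat_lit 11, nat_lit 1, nat_lit 11],
   [nat_lit 8, nat_lit 1, nat_lit 8],
   [nat_lit 9, nat_lit 1, nat_lit 9],
   [nat_lit 0, nat_lit 1, nat_lit 0, nat_lit 1, nat_lit 0],
   [nat_lit 2, nat_lit 1, nat_lit 2, nat_lit 1, nat_lit 2],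
   [nat_lit 1]],
  [[nat_lit 4, nat_lit 2, nat_lit 4],
   [nat_lit 5, nat_lit 2, nat_lit 5],
   [nat_lit 6, nat_lit 2, nat_lit 6],
   [nat_lit 10, nat_lit 2, nat_lit 10],
   [nat_lit 7, nat_lit 2, nat_lit 7],
   [nat_lit 11, nat_lit 2, nat_lit 11],
   [nat_lit 8, nat_lit 2, nat_lit 8],
   [nat_lit 9, nat_lit 2, nat_lit 9],
   [nat_lit 1, nat_lit 2, nat_lit 1, nat_lit 2, nat_lit 1],
   [nat_lit 0, nat_lit 2, nat_lit 0],
   [nat_lit 3, nat_lit 2, nat_lit 3, nat_lit 2, nat_lit 3],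
   [nat_lit 13],
   [nat_lit 3, nat_lit 4, nat_lit 5, nat_lit 6, nat_lit 7, nat_lit 10, nat_lit 0, nat_lit 2, nat_lit 3, nat_lit 4, nat_lit 5, nat_lit 6, nat_lit 7, nat_lit 10, nat_lit 2, nat_lit 3, nat_lit 4, nat_lit 5, nat_lit 6, nat_lit 7, nat_lit 10, nat_lit 2, nat_lit 3, nat_lit 4, nat_lit 5, nat_lit 6, nat_lit 7, nat_lit 10, nat_lit 2, nat_lit 3, nat_lit 4, nat_lit 5, nat_lit 6, nat_lit 7, nat_lit 10, nat_lit 2, nat_lit 3, nat_lit 4, nat_lit 5, nat_lit 6, nat_lit 7, nat_lit 10, nat_lit 2, nat_lit 3, nat_lit 4, nat_lit 5, nat_lit 6, nat_lit 7, nat_lit 10, nat_lit 2, nat_lit 3, nat_lit 4, nat_lit 5, nat_lit 6, nat_lit 7, nat_lit 10, nat_lit 2, nat_lit 3, nat_lit 4, nat_lit 5, nat_lit 6, nat_lit 7, nat_lit 10]],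
  [[nat_lit 5, nat_lit 3, nat_lit 5],
   [nat_lit 6, nat_lit 3, nat_lit 6],
   [nat_lit 10, nat_lit 3, nat_lit 10],
   [nat_lit 7, nat_lit 3, nat_lit 7],
   [nat_lit 11, nat_lit 3, nat_lit 11],
   [nat_lit 8, nat_lit 3, nat_lit 8],
   [nat_lit 9, nat_lit 3, nat_lit 9],
   [nat_lit 2, nat_lit 3, nat_lit 2, nat_lit 3, nat_lit 2],
   [nat_lit 1, nat_lit 3, nat_lit 1],
   [nat_lit 0, nat_lit 3, nat_lit 0],
   [nat_lit 4, nat_lit 3, nat_lit 4, nat_lit 3, nat_lit 4],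
   [nat_lit 13],
   [nat_lit 4, nat_lit 5, nat_lit 6, nat_lit 7, nat_lit 10, nat_lit 2, nat_lit 3, nat_lit 4, nat_lit 5, nat_lit 6, nat_lit 7, nat_lit 10, nat_lit 2, nat_lit 3, nat_lit 4, nat_lit 5, nat_lit 6, nat_lit 7, nat_lit 10, nat_lit 2, nat_lit 3, nat_lit 4, nat_lit 5, nat_lit 6, nat_lit 7, nat_lit 10, nat_lit 2, nat_lit 3, nat_lit 4, nat_lit 5, nat_lit 6, nat_lit 7, nat_lit 10, nat_lit 0, nat_lit 2, nat_lit 3, nat_lit 4, nat_lit 5, nat_lit 6, nat_lit 7, nat_lit 10, nat_lit 2, nat_lit 3, nat_lit 4, nat_lit 5, nat_lit 6, nat_lit 7, nat_lit 10, nat_lit 2, nat_lit 3, nat_lit 4, nat_lit 5, nat_lit 6, nat_lit 7, nat_lit 10, nat_lit 2, nat_lit 3, nat_lit 4, nat_lit 5, nat_lit 6, nat_lit 7, nat_lit 10, nat_lit 2]],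
  [[nat_lit 11, nat_lit 4, nat_lit 11],
   [nat_lit 6, nat_lit 4, nat_lit 6],
   [nat_lit 10, nat_lit 4, nat_lit 10],
   [nat_lit 7, nat_lit 4, nat_lit 7],
   [nat_lit 8, nat_lit 4, nat_lit 8],
   [nat_lit 9, nat_lit 4, nat_lit 9],
   [nat_lit 3, nat_lit 4, nat_lit 3, nat_lit 4, nat_lit 3],
   [nat_lit 0, nat_lit 4, nat_lit 0],
   [nat_lit 2, nat_lit 4, nat_lit 2],
   [nat_lit 1, nat_lit 4, nat_lit 1],
   [nat_lit 5, nat_lit 4, nat_lit 5, nat_lit 4, nat_lit 5],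
   [nat_lit 13],
   [nat_lit 3, nat_lit 2, nat_lit 10, nat_lit 7, nat_lit 6, nat_lit 5, nat_lit 4, nat_lit 3, nat_lit 2, nat_lit 10, nat_lit 7, nat_lit 6, nat_lit 5, nat_lit 4, nat_lit 3, nat_lit 2, nat_lit 10, nat_lit 7, nat_lit 6, nat_lit 5, nat_lit 4, nat_lit 3, nat_lit 2, nat_lit 0, nat_lit 10, nat_lit 7, nat_lit 6, nat_lit 5, nat_lit 4, nat_lit 3, nat_lit 2, nat_lit 10, nat_lit 7, nat_lit 6, nat_lit 5, nat_lit 4, nat_lit 3, nat_lit 2, nat_lit 10, nat_lit 7, nat_lit 6, nat_lit 5, nat_lit 4, nat_lit 3, nat_lit 2, nat_lit 10, nat_lit 7, nat_lit 6, nat_lit 5, nat_lit 4, nat_lit 3, nat_lit 2, nat_lit 10, nat_lit 7, nat_lit 6, nat_lit 5, nat_lit 4, nat_lit 3, nat_lit 2, nat_lit 10, nat_lit 7, nat_lit 6, nat_lit 5],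
   [nat_lit 5, nat_lit 6, nat_lit 7, nat_lit 10, nat_lit 0, nat_lit 2, nat_lit 3, nat_lit 4, nat_lit 5, nat_lit 6, nat_lit 7, nat_lit 10, nat_lit 2, nat_lit 3, nat_lit 4, nat_lit 5, nat_lit 6, nat_lit 7, nat_lit 10, nat_lit 2, nat_lit 3, nat_lit 4, nat_lit 5, nat_lit 6, nat_lit 7, nat_lit 10, nat_lit 2, nat_lit 3, nat_lit 4, nat_lit 5, nat_lit 6, nat_lit 7, nat_lit 10, nat_lit 2, nat_lit 3, nat_lit 4, nat_lit 5, nat_lit 6, nat_lit 7, nat_lit 10, nat_lit 2, nat_lit 3, nat_lit 4, nat_lit 5, nat_lit 6, nat_lit 7, nat_lit 10, nat_lit 2, nat_lit 3, nat_lit 4, nat_lit 5, nat_lit 6, nat_lit 7, nat_lit 10, nat_lit 2, nat_lit 3, nat_lit 4, nat_lit 5, nat_lit 6, nat_lit 7, nat_lit 10, nat_lit 2, nat_lit 3],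
   [nat_lit 5, nat_lit 6, nat_lit 7, nat_lit 10, nat_lit 2, nat_lit 3, nat_lit 4, nat_lit 5, nat_lit 6, nat_lit 7, nat_lit 10, nat_lit 2, nat_lit 3, nat_lit 4, nat_lit 5, nat_lit 6, nat_lit 7, nat_lit 10, nat_lit 2, nat_lit 3, nat_lit 4, nat_lit 5, nat_lit 6, nat_lit 7, nat_lit 10, nat_lit 2, nat_lit 3, nat_lit 4, nat_lit 5, nat_lit 6, nat_lit 7, nat_lit 10, nat_lit 2, nat_lit 3, nat_lit 4, nat_lit 5, nat_lit 6, nat_lit 7, nat_lit 10, nat_lit 2, nat_lit 3, nat_lit 4, nat_lit 5, nat_lit 6, nat_lit 7, nat_lit 10, nat_lit 2, nat_lit 3, nat_lit 4, nat_lit 5, nat_lit 6, nat_lit 7, nat_lit 10, nat_lit 2, nat_lit 3, nat_lit 4, nat_lit 5, nat_lit 6, nat_lit 7, nat_lit 10, nat_lit 0, nat_lit 2, nat_lit 3],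
   [nat_lit 3, nat_lit 2, nat_lit 10, nat_lit 7, nat_lit 6, nat_lit 5, nat_lit 4, nat_lit 3, nat_lit 2, nat_lit 10, nat_lit 7, nat_lit 6, nat_lit 5, nat_lit 4, nat_lit 3, nat_lit 2, nat_lit 10, nat_lit 7, nat_lit 6, nat_lit 5, nat_lit 4, nat_lit 3, nat_lit 2, nat_lit 10, nat_lit 7, nat_lit 6, nat_lit 5, nat_lit 4, nat_lit 3, nat_lit 2, nat_lit 10, nat_lit 7, nat_lit 6, nat_lit 5, nat_lit 4, nat_lit 3, nat_lit 2, nat_lit 10, nat_lit 7, nat_lit 6, nat_lit 5, nat_lit 4, nat_lit 3, nat_lit 2, nat_lit 10, nat_lit 7, nat_lit 6, nat_lit 5, nat_lit 4, nat_lit 3, nat_lit 2, nat_lit 10, nat_lit 7, nat_lit 6, nat_lit 5, nat_lit 4, nat_lit 3, nat_lit 2, nat_lit 0, nat_lit 10, nat_lit 7, nat_lit 6, nat_lit 5]],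
  [[nat_lit 11, nat_lit 5, nat_lit 11],
   [nat_lit 7, nat_lit 5, nat_lit 7],
   [nat_lit 8, nat_lit 5, nat_lit 8],
   [nat_lit 9, nat_lit 5, nat_lit 9],
   [nat_lit 6, nat_lit 5, nat_lit 6, nat_lit 5, nat_lit 6],
   [nat_lit 0, nat_lit 5, nat_lit 0],
   [nat_lit 3, nat_lit 5, nat_lit 3],
   [nat_lit 1, nat_lit 5, nat_lit 1],
   [nat_lit 2, nat_lit 5, nat_lit 2],
   [nat_lit 4, nat_lit 5, nat_lit 4, nat_lit 5, nat_lit 4],
   [nat_lit 10, nat_lit 5, nat_lit 10, nat_lit 5, nat_lit 10],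
   [nat_lit 13],
   [nat_lit 5]],
  [[nat_lit 10, nat_lit 6, nat_lit 10],
   [nat_lit 11, nat_lit 6, nat_lit 11],
   [nat_lit 8, nat_lit 6, nat_lit 8],
   [nat_lit 9, nat_lit 6, nat_lit 9],
   [nat_lit 7, nat_lit 6, nat_lit 7, nat_lit 6, nat_lit 7],
   [nat_lit 0, nat_lit 6, nat_lit 0],
   [nat_lit 3, nat_lit 6, nat_lit 3],
   [nat_lit 1, nat_lit 6, nat_lit 1],
   [nat_lit 2, nat_lit 6, nat_lit 2],
   [nat_lit 4, nat_lit 6, nat_lit 4],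
   [nat_lit 5, nat_lit 6, nat_lit 5, nat_lit 6, nat_lit 5],
   [nat_lit 13],
   [nat_lit 5, nat_lit 4, nat_lit 3, nat_lit 2, nat_lit 10, nat_lit 7, nat_lit 6, nat_lit 5, nat_lit 4, nat_lit 3, nat_lit 2, nat_lit 10, nat_lit 7, nat_lit 6, nat_lit 5, nat_lit 4, nat_lit 3, nat_lit 2, nat_lit 10, nat_lit 7, nat_lit 6, nat_lit 5, nat_lit 4, nat_lit 3, nat_lit 2, nat_lit 10, nat_lit 7, nat_lit 6, nat_lit 5, nat_lit 4, nat_lit 3, nat_lit 2, nat_lit 10, nat_lit 7, nat_lit 6, nat_lit 5, nat_lit 4, nat_lit 3, nat_lit 2, nat_lit 10, nat_lit 7, nat_lit 6, nat_lit 5, nat_lit 4, nat_lit 3, nat_lit 2, nat_lit 10, nat_lit 7, nat_lit 6, nat_lit 5, nat_lit 4, nat_lit 3, nat_lit 2, nat_lit 10, nat_lit 7, nat_lit 6, nat_lit 5, nat_lit 4, nat_lit 3, nat_lit 2, nat_lit 0, nat_lit 10, nat_lit 7],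
   [nat_lit 6]],
  [[nat_lit 10, nat_lit 7, nat_lit 10],
   [nat_lit 5, nat_lit 7, nat_lit 5],
   [nat_lit 11, nat_lit 7, nat_lit 11],
   [nat_lit 4, nat_lit 7, nat_lit 4],
   [nat_lit 3, nat_lit 7, nat_lit 3],
   [nat_lit 2, nat_lit 7, nat_lit 2],
   [nat_lit 1, nat_lit 7, nat_lit 1],
   [nat_lit 9, nat_lit 7, nat_lit 9],
   [nat_lit 0, nat_lit 7, nat_lit 0],
   [nat_lit 8, nat_lit 7, nat_lit 8, nat_lit 7, nat_lit 8],
   [nat_lit 6, nat_lit 7, nat_lit 6, nat_lit 7, nat_lit 6],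
   [nat_lit 13],
   [nat_lit 10, nat_lit 2, nat_lit 3, nat_lit 4, nat_lit 5, nat_lit 6, nat_lit 7, nat_lit 10, nat_lit 2, nat_lit 3, nat_lit 4, nat_lit 5, nat_lit 6, nat_lit 7, nat_lit 10, nat_lit 2, nat_lit 3, nat_lit 4, nat_lit 5, nat_lit 6, nat_lit 7, nat_lit 10, nat_lit 0, nat_lit 2, nat_lit 3, nat_lit 4, nat_lit 5, nat_lit 6, nat_lit 7, nat_lit 10, nat_lit 2, nat_lit 3, nat_lit 4, nat_lit 5, nat_lit 6, nat_lit 7, nat_lit 10, nat_lit 2, nat_lit 3, nat_lit 4, nat_lit 5, nat_lit 6, nat_lit 7, nat_lit 10, nat_lit 2, nat_lit 3, nat_lit 4, nat_lit 5, nat_lit 6, nat_lit 7, nat_lit 10, nat_lit 2, nat_lit 3, nat_lit 4, nat_lit 5, nat_lit 6, nat_lit 7, nat_lit 10, nat_lit 2, nat_lit 3, nat_lit 4, nat_lit 5, nat_lit 6],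
   [nat_lit 10, nat_lit 2, nat_lit 3, nat_lit 4, nat_lit 5, nat_lit 6, nat_lit 7, nat_lit 10, nat_lit 0, nat_lit 2, nat_lit 3, nat_lit 4, nat_lit 5, nat_lit 6, nat_lit 7, nat_lit 10, nat_lit 2, nat_lit 3, nat_lit 4, nat_lit 5, nat_lit 6, nat_lit 7, nat_lit 10, nat_lit 2, nat_lit 3, nat_lit 4, nat_lit 5, nat_lit 6, nat_lit 7, nat_lit 10, nat_lit 2, nat_lit 3, nat_lit 4, nat_lit 5, nat_lit 6, nat_lit 7, nat_lit 10, nat_lit 2, nat_lit 3, nat_lit 4, nat_lit 5, nat_lit 6, nat_lit 7, nat_lit 10, nat_lit 2, nat_lit 3, nat_lit 4, nat_lit 5, nat_lit 6, nat_lit 7, nat_lit 10, nat_lit 2, nat_lit 3, nat_lit 4, nat_lit 5, nat_lit 6, nat_lit 7, nat_lit 10, nat_lit 2, nat_lit 3, nat_lit 4, nat_lit 5, nat_lit 6],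
   [nat_lit 6, nat_lit 5, nat_lit 4, nat_lit 3, nat_lit 2, nat_lit 0, nat_lit 10, nat_lit 7, nat_lit 6, nat_lit 5, nat_lit 4, nat_lit 3, nat_lit 2, nat_lit 10, nat_lit 7, nat_lit 6, nat_lit 5, nat_lit 4, nat_lit 3, nat_lit 2, nat_lit 10, nat_lit 7, nat_lit 6, nat_lit 5, nat_lit 4, nat_lit 3, nat_lit 2, nat_lit 10, nat_lit 7, nat_lit 6, nat_lit 5, nat_lit 4, nat_lit 3, nat_lit 2, nat_lit 10, nat_lit 7, nat_lit 6, nat_lit 5, nat_lit 4, nat_lit 3, nat_lit 2, nat_lit 10, nat_lit 7, nat_lit 6, nat_lit 5, nat_lit 4, nat_lit 3, nat_lit 2, nat_lit 10, nat_lit 7, nat_lit 6, nat_lit 5, nat_lit 4, nat_lit 3, nat_lit 2, nat_lit 10, nat_lit 7, nat_lit 6, nat_lit 5, nat_lit 4, nat_lit 3, nat_lit 2, nat_lit 10]],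
  [[nat_lit 10, nat_lit 8, nat_lit 10],
   [nat_lit 5, nat_lit 8, nat_lit 5],
   [nat_lit 11, nat_lit 8, nat_lit 11],
   [nat_lit 4, nat_lit 8, nat_lit 4],
   [nat_lit 6, nat_lit 8, nat_lit 6],
   [nat_lit 3, nat_lit 8, nat_lit 3],
   [nat_lit 2, nat_lit 8, nat_lit 2],
   [nat_lit 1, nat_lit 8, nat_lit 1],
   [nat_lit 0, nat_lit 8, nat_lit 0],
   [nat_lit 9, nat_lit 8, nat_lit 9, nat_lit 8, nat_lit 9],
   [nat_lit 7, nat_lit 8, nat_lit 7, nat_lit 8, nat_lit 7],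
   [nat_lit 13]],
  [[nat_lit 10, nat_lit 9, nat_lit 10],
   [nat_lit 5, nat_lit 9, nat_lit 5],
   [nat_lit 11, nat_lit 9, nat_lit 11],
   [nat_lit 4, nat_lit 9, nat_lit 4],
   [nat_lit 6, nat_lit 9, nat_lit 6],
   [nat_lit 3, nat_lit 9, nat_lit 3],
   [nat_lit 7, nat_lit 9, nat_lit 7],
   [nat_lit 2, nat_lit 9, nat_lit 2],
   [nat_lit 1, nat_lit 9, nat_lit 1],
   [nat_lit 0, nat_lit 9, nat_lit 0],
   [nat_lit 8, nat_lit 9, nat_lit 8, nat_lit 9, nat_lit 8],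
   [nat_lit 13]],
  [[nat_lit 5, nat_lit 10, nat_lit 5, nat_lit 10, nat_lit 5],
   [nat_lit 0, nat_lit 10, nat_lit 0],
   [nat_lit 3, nat_lit 10, nat_lit 3],
   [nat_lit 4, nat_lit 10, nat_lit 4],
   [nat_lit 6, nat_lit 10, nat_lit 6],
   [nat_lit 8, nat_lit 10, nat_lit 8],
   [nat_lit 1, nat_lit 10, nat_lit 1],
   [nat_lit 2, nat_lit 10, nat_lit 2],
   [nat_lit 7, nat_lit 10, nat_lit 7],
   [nat_lit 9, nat_lit 10, nat_lit 9],
   [nat_lit 11, nat_lit 10, nat_lit 11, nat_lit 10, nat_lit 11],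
   [nat_lit 13],
   [nat_lit 2, nat_lit 3, nat_lit 4, nat_lit 5, nat_lit 6, nat_lit 7, nat_lit 10, nat_lit 2, nat_lit 3, nat_lit 4, nat_lit 5, nat_lit 6, nat_lit 7, nat_lit 10, nat_lit 2, nat_lit 3, nat_lit 4, nat_lit 5, nat_lit 6, nat_lit 7, nat_lit 10, nat_lit 2, nat_lit 3, nat_lit 4, nat_lit 5, nat_lit 6, nat_lit 7, nat_lit 10, nat_lit 2, nat_lit 3, nat_lit 4, nat_lit 5, nat_lit 6, nat_lit 7, nat_lit 10, nat_lit 2, nat_lit 3, nat_lit 4, nat_lit 5, nat_lit 6, nat_lit 7, nat_lit 10, nat_lit 2, nat_lit 3, nat_lit 4, nat_lit 5, nat_lit 6, nat_lit 7, nat_lit 10, nat_lit 2, nat_lit 3, nat_lit 4, nat_lit 5, nat_lit 6, nat_lit 7, nat_lit 10, nat_lit 0, nat_lit 2, nat_lit 3, nat_lit 4, nat_lit 5, nat_lit 6, nat_lit 7],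
   [nat_lit 5, nat_lit 9, nat_lit 8, nat_lit 7, nat_lit 6, nat_lit 5, nat_lit 0, nat_lit 1, nat_lit 2, nat_lit 3, nat_lit 4, nat_lit 5, nat_lit 11, nat_lit 10, nat_lit 5, nat_lit 9, nat_lit 8, nat_lit 7, nat_lit 6, nat_lit 5, nat_lit 0, nat_lit 1, nat_lit 2, nat_lit 3, nat_lit 4, nat_lit 5, nat_lit 11, nat_lit 10, nat_lit 5, nat_lit 9, nat_lit 8, nat_lit 7, nat_lit 6, nat_lit 5, nat_lit 0, nat_lit 1, nat_lit 2, nat_lit 3, nat_lit 4, nat_lit 5, nat_lit 11, nat_lit 10, nat_lit 5, nat_lit 9, nat_lit 8, nat_lit 7, nat_lit 6, nat_lit 5, nat_lit 0, nat_lit 1, nat_lit 2, nat_lit 3, nat_lit 4, nat_lit 5, nat_lit 11, nat_lit 10, nat_lit 5, nat_lit 9, nat_lit 8, nat_lit 7, nat_lit 6, nat_lit 5, nat_lit 0, nat_lit 1, nat_lit 2, nat_lit 3, nat_lit 4, nat_lit 5, nat_lit 11, nat_lit 10, nat_lit 5, nat_lit 9, nat_lit 8, nat_lit 7, nat_lit 6, nat_lit 5, nat_lit 0, nat_lit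 1, nat_lit 2, nat_lit 3, nat_lit 4, nat_lit 5, nat_lit 11, nat_lit 10, nat_lit 5, nat_lit 9, nat_lit 8, nat_lit 7, nat_lit 6, nat_lit 5, nat_lit 0, nat_lit 1, nat_lit 2, nat_lit 3, nat_lit 4, nat_lit 5, nat_lit 11, nat_lit 10, nat_lit 5, nat_lit 9, nat_lit 8, nat_lit 7, nat_lit 6, nat_lit 5, nat_lit 0, nat_lit 1, nat_lit 2, nat_lit 3, nat_lit 4, nat_lit 5, nat_lit 11, nat_lit 10, nat_lit 5, nat_lit 9, nat_lit 8, nat_lit 7, nat_lit 6, nat_lit 5, nat_lit 0, nat_lit 1, nat_lit 2, nat_lit 3, nat_lit 4, nat_lit 5, nat_lit 11, nat_lit 10, nat_lit 5, nat_lit 9, nat_lit 8, nat_lit 7, nat_lit 6, nat_lit 5, nat_lit 0, nat_lit 1, nat_lit 2, nat_lit 3, nat_lit 4, nat_lit 5, nat_lit 11, nat_lit 10, nat_lit 5, nat_lit 9, nat_lit 8, nat_lit 7, nat_lit 6, nat_lit 5, nat_lit 0, nat_lit 1, nat_lit 2, nat_lit 3, nat_lit 4, nat_lit 5, nat_lit 11, nat_lit 10, nat_lit 5, nat_lit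 9, nat_lit 8, nat_lit 7, nat_lit 6, nat_lit 5, nat_lit 0, nat_lit 1, nat_lit 2, nat_lit 3, nat_lit 4, nat_lit 5, nat_lit 11, nat_lit 10, nat_lit 5, nat_lit 9, nat_lit 8, nat_lit 7, nat_lit 6, nat_lit 5, nat_lit 0, nat_lit 1, nat_lit 2, nat_lit 3, nat_lit 4, nat_lit 5, nat_lit 11, nat_lit 10, nat_lit 5, nat_lit 9, nat_lit 8, nat_lit 7, nat_lit 6, nat_lit 5, nat_lit 0, nat_lit 1, nat_lit 2, nat_lit 3, nat_lit 4, nat_lit 5, nat_lit 11, nat_lit 10, nat_lit 5, nat_lit 9, nat_lit 8, nat_lit 7, nat_lit 6, nat_lit 5, nat_lit 0, nat_lit 1, nat_lit 2, nat_lit 3, nat_lit 4, nat_lit 5, nat_lit 11, nat_lit 10, nat_lit 5, nat_lit 9, nat_lit 8, nat_lit 7, nat_lit 6, nat_lit 5, nat_lit 0, nat_lit 1, nat_lit 2, nat_lit 3, nat_lit 4, nat_lit 5, nat_lit 11, nat_lit 10, nat_lit 5, nat_lit 9, nat_lit 8, nat_lit 7, nat_lit 6, nat_lit 5, nat_lit 0, nat_lit 1, nat_lit 2, nat_lit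 3, nat_lit 4, nat_lit 5, nat_lit 11]],
  [[nat_lit 10, nat_lit 11, nat_lit 10, nat_lit 11, nat_lit 10],
   [nat_lit 0, nat_lit 11, nat_lit 0],
   [nat_lit 3, nat_lit 11, nat_lit 3],
   [nat_lit 5, nat_lit 11, nat_lit 5],
   [nat_lit 8, nat_lit 11, nat_lit 8],
   [nat_lit 1, nat_lit 11, nat_lit 1],
   [nat_lit 4, nat_lit 11, nat_lit 4],
   [nat_lit 6, nat_lit 11, nat_lit 6],
   [nat_lit 7, nat_lit 11, nat_lit 7],
   [nat_lit 9, nat_lit 11, nat_lit 9],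
   [nat_lit 2, nat_lit 11, nat_lit 2],
   [nat_lit 13]],
  [[nat_lit 10, nat_lit 7, nat_lit 6, nat_lit 5, nat_lit 4, nat_lit 3, nat_lit 2, nat_lit 10, nat_lit 7, nat_lit 6, nat_lit 5, nat_lit 4, nat_lit 3, nat_lit 2, nat_lit 0, nat_lit 10, nat_lit 7, nat_lit 6, nat_lit 5, nat_lit 4, nat_lit 3, nat_lit 2, nat_lit 10, nat_lit 7, nat_lit 6, nat_lit 5, nat_lit 4, nat_lit 3, nat_lit 2, nat_lit 10, nat_lit 7, nat_lit 6, nat_lit 5, nat_lit 4, nat_lit 3, nat_lit 2, nat_lit 10, nat_lit 7, nat_lit 6, nat_lit 5, nat_lit 4, nat_lit 3, nat_lit 2, nat_lit 10, nat_lit 7, nat_lit 6, nat_lit 5, nat_lit 4, nat_lit 3, nat_lit 2, nat_lit 10, nat_lit 7, nat_lit 6, nat_lit 5, nat_lit 4, nat_lit 3, nat_lit 2, nat_lit 10, nat_lit 7, nat_lit 6, nat_lit 5, nat_lit 4, nat_lit 3, nat_lit 2],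
   [nat_lit 1, nat_lit 1],
   [nat_lit 0, nat_lit 0],
   [nat_lit 2, nat_lit 2],
   [nat_lit 6, nat_lit 1, nat_lit 6, nat_lit 1],
   [nat_lit 0, nat_lit 9, nat_lit 0, nat_lit 9],
   [nat_lit 5, nat_lit 6, nat_lit 7, nat_lit 10, nat_lit 2, nat_lit 3, nat_lit 4, nat_lit 5, nat_lit 6, nat_lit 7, nat_lit 10, nat_lit 2, nat_lit 3, nat_lit 4, nat_lit 5, nat_lit 6, nat_lit 7, nat_lit 10, nat_lit 0, nat_lit 2, nat_lit 3, nat_lit 4, nat_lit 5, nat_lit 6, nat_lit 7, nat_lit 10, nat_lit 2, nat_lit 3, nat_lit 4, nat_lit 5, nat_lit 6, nat_lit 7, nat_lit 10, nat_lit 2, nat_lit 3, nat_lit 4, nat_lit 5, nat_lit 6, nat_lit 7, nat_lit 10, nat_lit 2, nat_lit 3, nat_lit 4, nat_lit 5, nat_lit 6, nat_lit 7, nat_lit 10, nat_lit 2, nat_lit 3, nat_lit 4, nat_lit 5, nat_lit 6, nat_lit 7, nat_lit 10, nat_lit 2, nat_lit 3, nat_lit 4, nat_lit 5, nat_lit 6, nat_lit 7, nat_lit 10, nat_lit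 2, nat_lit 3, nat_lit 4],
   [nat_lit 2, nat_lit 9, nat_lit 2, nat_lit 9],
   [nat_lit 7, nat_lit 7],
   [nat_lit 4, nat_lit 4],
   [nat_lit 10, nat_lit 6, nat_lit 10, nat_lit 6],
   [nat_lit 5, nat_lit 5],
   [nat_lit 6, nat_lit 6],
   [nat_lit 3, nat_lit 3]]]

def HT : List (List (Nat × Nat × Nat)) := [
  [(0, 13, 1), (0, 14, 1), (0, 15, 1), (0, 16, 1), (0, 17, 1), (0, 21, 1), (0, 18, 1), (0, 22, 1), (0, 19, 1), (0, 20, 1), (0, 12, 1), (2, 0, 0), (0, 0, 0), (0, 78, 1)],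
  [(0, 24, 1), (0, 25, 1), (0, 26, 1), (0, 27, 1), (0, 31, 1), (0, 28, 1), (0, 32, 1), (0, 29, 1), (0, 30, 1), (0, 12, 0), (0, 23, 1), (0, 1, 0)],
  [(0, 34, 1), (0, 35, 1), (0, 36, 1), (0, 40, 1), (0, 37, 1), (0, 41, 1), (0, 38, 1), (0, 39, 1), (0, 23, 0), (0, 13, 0), (0, 33, 1), (2, 1, 0), (1, 78, 57)],
  [(0, 43, 1), (0, 44, 1), (0, 48, 1), (0, 45, 1), (0, 49, 1), (0, 46, 1), (0, 47, 1), (0, 33, 0), (0, 24, 0), (0, 14, 0), (0, 42, 1), (2, 2, 0), (1, 78, 30)],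
  [(0, 56, 1), (0, 51, 1), (0, 55, 1), (0, 52, 1), (0, 53, 1), (0, 54, 1), (0, 42, 0), (0, 15, 0), (0, 34, 0), (0, 25, 0), (0, 50, 1), (2, 3, 0), (0, 78, 41), (1, 78, 59), (1, 78, 3), (0, 78, 6)],
  [(0, 62, 1), (0, 58, 1), (0, 59, 1), (0, 60, 1), (0, 57, 1), (0, 16, 0), (0, 43, 0), (0, 26, 0), (0, 35, 0), (0, 50, 0), (0, 61, 1), (2, 4, 0), (0, 5, 0)],
  [(0, 66, 1), (0, 67, 1), (0, 64, 1), (0, 65, 1), (0, 63, 1), (0, 17, 0), (0, 44, 0), (0, 27, 0), (0, 36, 0), (0, 51, 0), (0, 57, 0), (2, 5, 0), (0, 78, 4), (0, 6, 0)],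
  [(0, 70, 1), (0, 58, 0), (0, 71, 1), (0, 52, 0), (0, 45, 0), (0, 37, 0), (0, 28, 0), (0, 69, 1), (0, 18, 0), (0, 68, 1), (0, 63, 0), (2, 6, 0), (1, 78, 41), (1, 78, 55), (0, 78, 59)],
  [(0, 73, 1), (0, 59, 0), (0, 74, 1), (0, 53, 0), (0, 64, 0), (0, 46, 0), (0, 38, 0), (0, 29, 0), (0, 19, 0), (0, 72, 1), (0, 68, 0), (2, 7, 0)],
  [(0, 75, 1), (0, 60, 0), (0, 76, 1), (0, 54, 0), (0, 65, 0), (0, 47, 0), (0, 69, 0), (0, 39, 0), (0, 30, 0), (0, 20, 0), (0, 72, 0), (2, 8, 0)],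
  [(0, 61, 0), (0, 21, 0), (0, 48, 0), (0, 55, 0), (0, 66, 0), (0, 73, 0), (0, 31, 0), (0, 40, 0), (0, 70, 0), (0, 75, 0), (0, 77, 1), (2, 9, 0), (1, 78, 7), (1, 79, 2)],
  [(0, 77, 0), (0, 22, 0), (0, 49, 0), (0, 62, 0), (0, 74, 0), (0, 32, 0), (0, 56, 0), (0, 67, 0), (0, 71, 0), (0, 76, 0), (0, 41, 0), (2, 10, 0)],
  [(0, 78, 50), (0, 1, 0), (0, 0, 0), (0, 2, 0), (0, 27, 1), (0, 20, 0), (1, 78, 45), (0, 39, 0), (0, 7, 0), (0, 4, 0), (0, 66, 1), (0, 5, 0), (0, 6, 0), (0, 3, 0)]]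

def W : List (List Nat) := [[0],
   [2],
   [3],
   [4],
   [5],
   [6],
   [7],
   [8],
   [9],
   [10],
   [11]]

noncomputable def P : Par := ⟨T, (nat_lit 4), (nat_lit 15), (nat_lit 420), (nat_lit 30), (nat_lit 1073741823), (nat_lit 19), (nat_lit 524287), (nat_lit 12), (nat_lit 306952), (nat_lit 308176), (nat_lit 0x1ac5a928398a418820), RT⟩


end Cfsg.Agent.Comp.Fi24.Top
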